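import Cfsg.Agent.Lib.PF.Base.PrimeCases
import Cfsg.Agent.Lib.PF.PrimeDadeIrr
import Cfsg.Agent.Lib.PF.PrimeDadeRed
import Cfsg.Agent.Lib.PF.GridFacts
import Cfsg.Agent.Lib.Coherent.SystemInduced
import Cfsg.Agent.Lib.Coherent.DadeCompare
import Cfsg.Agent.S1518
import Cfsg.Agent.S1509

/-!
# The coherence system on sets of characters induced from `K` and not trivial on `H`
-/

set_option autoImplicit false
set_option maxHeartbeats 1000000

namespace CfsgLib.PF.Base

open scoped Classical ComplexConjugate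
open CfsgLib

universe u

variable {G : Type u} [Group G] [Fintype G] {S K W₁ W₂ H : Subgroup G} [Fintype S] {A : Set G}
  {R : G → Subgroup G} {μ : (↥(W₁ ⊔ W₂) →* ℂˣ) → (S → ℂ)} {δ : (↥(W₁ ⊔ W₂) →* ℂˣ) → ℂ}
  {η : (↥(W₁ ⊔ W₂) →* ℂˣ) → (G → ℂ)}

/-- The Dade map on `A ∪ V` vanishes at the identity. -/
theorem dade_apply_one (h : PrimeDadeHyp S K W₁ W₂ H A R) (α : S → ℂ) :
    Cfsg.dadeIsometry (A ∪ vSet S W₁ W₂) S R α 1 = 0 := by
  simp only [Cfsg.dadeIsometry]
  rw [dif_neg]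
  rintro ⟨a, ha, x, v, hv, he⟩
  rw [mul_one, mul_inv_cancel] at he
  refine h.dade.one_not_mem ?_
  have hau : (a : G) ∈ R a := by
    have : (a : G) = v⁻¹ := eq_inv_of_mul_eq_one_left he.symm
    rw [this] at hv ⊢; exact (R _).inv_mem hv
  have h1 : (a : G) ∈ R a ⊓ (S ⊓ Subgroup.centralizer ({(a : G)} : Set G)) :=
    ⟨hau, a.2, Subgroup.mem_centralizer_singleton_iff.mpr rfl⟩
  rw [h.dade.inf_eq_bot a ha, Subgroup.mem_bot] at h1
  rwa [h1] at ha

/-- The image of the difference of a class sum and its conjugate. -/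
theorem dade_primeRed_diff (h : PrimeDadeHyp S K W₁ W₂ H A R) (hμ : IsPrimeTIFamily S W₁ W₂ μ δ)
    (hη : Cfsg.IsCyclicTIFamily W₁ W₂ η) [Fintype (↥(W₁ ⊔ W₂) →* ℂˣ)] {ω : ↥(W₁ ⊔ W₂) →* ℂˣ}
    (hω : ¬ TrivOn W₂ ω) :
    Cfsg.dadeIsometry (A ∪ vSet S W₁ W₂) S R (primeRed μ ω - Cfsg.conjFun (primeRed μ ω)) =
      δ ω • (∑ a ∈ Finset.univ.filter (fun a => SameOn W₂ a ω), η a -
        ∑ a ∈ Finset.univ.filter (fun a => SameOn W₂ a ω⁻¹), η a) := by
  have hW := h.selfNormalizing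
  obtain ⟨φ₀, ψ, hφ₀, hψ, rfl⟩ := Clifford.exists_hom_mul hW.2.2.1 hW.2.2.2.1 ω
  have hsame : SameOn W₂ (φ₀ * ψ) ψ := fun w hw => by simp [hφ₀ w hw]
  have hsame' : SameOn W₂ (φ₀ * ψ)⁻¹ ψ⁻¹ := fun w hw => by simp [hφ₀ w hw]
  rw [primeRed_conj h hμ, (primeRed_eq_sum hW μ _).1, (primeRed_eq_sum hW μ _).1, class_sum hsame,
    class_sum hsame', class_sum hsame, class_sum hsame', ← Finset.sum_sub_distrib, dade_sum,
    ← Finset.sum_sub_distrib, Finset.smul_sum]
  refine Finset.sum_congr rfl fun φ hφ => ?_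
  have hφ' : TrivOn W₂ φ := (Finset.mem_filter.mp hφ).2
  have hψne : ¬ TrivOn W₂ ψ := fun e => hω fun w hw => by simp [hφ₀ w hw, e w hw]
  have hδ : δ (φ * ψ) = δ (φ₀ * ψ) := hμ.sign_congr _ _ fun w hw => by simp [hφ' w hw, hφ₀ w hw]
  have hδ' : δ (φ * ψ⁻¹) = δ (φ₀ * ψ) := by
    rw [hμ.sign_congr (φ * ψ⁻¹) (φ₀ * ψ)⁻¹ fun w hw => by simp [hφ' w hw, hφ₀ w hw],
      (hμ.conj_eq h _).2]
  have hd : μ (φ * ψ) 1 = μ (φ * ψ⁻¹) 1 := by
    have hK : ((1 : S) : G) ∈ K := K.one_mem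
    rw [hμ.eq_on_K h (ω := φ * ψ) (ω' := φ₀ * ψ) (fun w hw => by simp [hφ' w hw, hφ₀ w hw]) hK,
      hμ.eq_on_K h (ω := φ * ψ⁻¹) (ω' := (φ₀ * ψ)⁻¹) (fun w hw => by simp [hφ' w hw, hφ₀ w hw]) hK,
      ← (hμ.conj_eq h _).1]
    obtain ⟨d, hd⟩ := Char.char_apply_one_eq_nat (Char.irr_isCharacter (hμ.irr (φ₀ * ψ)))
    simp [Cfsg.conjFun, hd]
  rw [prime_dade_diff h hμ hη (fun w hw => by simp [hψ w hw])
    (fun e => hψne fun w hw => by simpa [hφ' w hw] using e w hw)
    (fun e => hψne fun w hw => by simpa [hφ' w hw] using e w hw) (hδ.trans hδ'.symm) hd, hδ]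

/-- What the attached set of a member looks like. -/
def RSpec (W₁ W₂ : Subgroup G) (μ : (↥(W₁ ⊔ W₂) →* ℂˣ) → (S → ℂ))
    (η : (↥(W₁ ⊔ W₂) →* ℂˣ) → (G → ℂ)) (χ : S → ℂ) (s : Finset (G → ℂ)) : Prop :=
  (∃ ν : G → ℂ, Cfsg.IsIrrCharacter G ν ∧ Cfsg.conjFun ν ≠ ν ∧
      (∀ α ∈ s, α = ν ∨ α = -Cfsg.conjFun ν) ∧ (∀ ω, Cfsg.classInner ν (η ω) = 0) ∧
      (∀ ω, Cfsg.classInner (Cfsg.conjFun ν) (η ω) = 0) ∧ ∑ α ∈ s, α = ν - Cfsg.conjFun ν) ∨
    ∃ ω, χ = primeRed μ ω ∧ ∀ α ∈ s, ∃ (c : ℂ) (a : ↥(W₁ ⊔ W₂) →* ℂˣ),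
      α = c • η a ∧ (SameOn W₂ a ω ∨ SameOn W₂ a ω⁻¹)

theorem exists_R_irr (h : PrimeDadeHyp S K W₁ W₂ H A R) (hG : Odd (Nat.card G))
    (hη : Cfsg.IsCyclicTIFamily W₁ W₂ η) {χ : S → ℂ}
    (hmem : χ ∈ indSetD (K.subgroupOf S) (H.subgroupOf S) ⊥) (hirr : Cfsg.IsIrrCharacter S χ) :
    ∃ s : Finset (G → ℂ), (∀ α ∈ s, ∀ β ∈ s, Cfsg.classInner α β = if α = β then 1 else 0) ∧
      (∀ α ∈ s, Cfsg.IsGeneralizedCharacter G α) ∧
      Cfsg.dadeIsometry (A ∪ vSet S W₁ W₂) S R (χ - Cfsg.conjFun χ) = ∑ α ∈ s, α ∧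
      RSpec W₁ W₂ μ η χ s := by
  obtain ⟨-, hcl, hoff, hreg⟩ := h.indSetD_props hmem
  have hsupp : ∀ x : S, x ≠ 1 → (x : G) ∉ A ∪ vSet S W₁ W₂ → χ x = 0 := by
    intro x hx1 hx
    by_cases hxK : (x : G) ∈ K
    · refine hreg x fun n hn hc => by_contra fun hn1 => hx (Or.inl ?_)
      exact h.centralizing_mem x hxK (fun e => hx1 (Subtype.ext e))
        ⟨n, hn, fun e => hn1 (Subtype.ext e), (congrArg Subtype.val hc).symm⟩
    · exact hoff x hxK
  obtain ⟨ν, hν, hT⟩ := Cfsg.Agent.S1518.result _ S R h.dade χ hirr hsupp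
  have hne : Cfsg.conjFun χ ≠ χ := by
    intro e
    obtain ⟨x, hx, hx1⟩ := Subgroup.bot_or_exists_ne_one W₁ |>.resolve_left h.selfNormalizing.1
    have e1 := Char.eq_one_of_real_odd h.odd hirr fun g => Complex.conj_eq_iff_im.mp (congr_fun e g)
    have h0 := hoff ⟨x, h.W₁_le hx⟩ (h.W₁_not_mem_K hx hx1).1
    rw [e1] at h0
    exact one_ne_zero h0
  have hcmem : Cfsg.conjFun χ ∈ indSetD (K.subgroupOf S) (H.subgroupOf S) ⊥ := by
    refine ⟨Coherent.inducedIrrAbove_conj _ _ hmem.1, fun e => hmem.2 ?_⟩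
    have := Coherent.inducedIrrAbove_conj _ _ e
    rwa [Clifford.Coh.conjFun_conjFun] at this
  have hirr' : Cfsg.IsIrrCharacter S (Cfsg.conjFun χ) := Char.isIrrCharacter_conj hirr
  have hα : χ - Cfsg.conjFun χ ∈ Cfsg.zspanOn ({χ, Cfsg.conjFun χ} : Set (S → ℂ)) ({1}ᶜ : Set S) := by
    refine ⟨Submodule.sub_mem _ (Submodule.subset_span (by simp)) (Submodule.subset_span (by simp)),
      fun y hy => ?_⟩
    obtain rfl : y = 1 := by simpa using hy
    obtain ⟨d, hd⟩ := Char.char_apply_one_eq_nat (Char.irr_isCharacter hirr)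
    simp [Cfsg.conjFun, hd]
  have hsub : ({χ, Cfsg.conjFun χ} : Set (S → ℂ)) ⊆ indSetD (K.subgroupOf S) (H.subgroupOf S) ⊥ := by
    rintro x (rfl | rfl)
    exacts [hmem, hcmem]
  obtain ⟨hgen, -, hsuppα⟩ := h.indSetD_supported hsub hα
  set T := Cfsg.dadeIsometry (A ∪ vSet S W₁ W₂) S R (χ - Cfsg.conjFun χ) with hTdef
  have hTT : Cfsg.classInner T T = 2 := by
    rw [hTdef, Clifford.Dade.classInner_dadeIsometry_dadeIsometry h.dade
      (Char.isGeneralized_isClassFunction hgen) hsuppα (Char.isGeneralized_isClassFunction hgen),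
      Char.classInner_sub_left, Char.classInner_sub_right, Char.classInner_sub_right,
      Char.irr_classInner_self hirr, Char.irr_classInner_self hirr',
      Char.irr_classInner_ne hirr hirr' (Ne.symm hne), Char.irr_classInner_ne hirr' hirr hne]
    norm_num
  have hν' : Cfsg.IsIrrCharacter G (Cfsg.conjFun ν) := Char.isIrrCharacter_conj hν
  have hνne : Cfsg.conjFun ν ≠ ν := fun e => by
    rw [hT, e, sub_self] at hTT
    simp [Char.classInner_def] at hTT
  have horth : ∀ ω, Cfsg.classInner ν (η ω) = 0 ∧ Cfsg.classInner (Cfsg.conjFun ν) (η ω) = 0 := by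
    intro ω
    have h0 := Bridge.orth_of_norm_two h.selfNormalizing hG hη (T := T)
      (Clifford.Dade.isGeneralized_dadeIsometry h.dade hgen hsuppα) hTT
      (fun w hw h1 h2 => h.dade_indSetD_vanish hsub hα ⟨w, hw⟩ h1 h2) ω
    rw [hT, Char.classInner_sub_left, sub_eq_zero] at h0
    rcases hη.irr_or_neg ω with he | he
    · by_cases e1 : ν = η ω
      · rw [Char.irr_classInner_ne hν' he (fun e => hνne (e.trans e1.symm)), ← e1,
          Char.irr_classInner_self hν] at h0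
        exact absurd h0 one_ne_zero
      · refine ⟨Char.irr_classInner_ne hν he e1, ?_⟩
        rw [← h0, Char.irr_classInner_ne hν he e1]
    · have hneg : ∀ f : G → ℂ, Cfsg.classInner f (η ω) = -Cfsg.classInner f (-η ω) := fun f => by
        simp [Char.classInner_def, Finset.sum_neg_distrib, mul_neg]
      rw [hneg, hneg, neg_inj] at h0
      rw [hneg, hneg, neg_eq_zero, neg_eq_zero]
      by_cases e1 : ν = -η ω
      · rw [Char.irr_classInner_ne hν' he (fun e => hνne (e.trans e1.symm)), ← e1,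
          Char.irr_classInner_self hν] at h0
        exact absurd h0 one_ne_zero
      · refine ⟨Char.irr_classInner_ne hν he e1, ?_⟩
        rw [← h0, Char.irr_classInner_ne hν he e1]
  have h12 : ν ≠ -Cfsg.conjFun ν := fun e => by
    obtain ⟨d, hd, hd1⟩ := Char.irr_apply_one_pos hν
    have h2 := congrFun e 1
    simp only [Pi.neg_apply, Cfsg.conjFun, hd1, map_natCast] at h2
    have h3 : ((2 * d : ℕ) : ℂ) = 0 := by push_cast; linear_combination h2
    have h4 : 2 * d = 0 := by exact_mod_cast h3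
    omega
  refine ⟨{ν, -Cfsg.conjFun ν}, ?_, ?_, ?_, Or.inl ⟨ν, hν, hνne, ?_, fun ω => (horth ω).1,
    fun ω => (horth ω).2, ?_⟩⟩
  · intro α ha β hb
    simp only [Finset.mem_insert, Finset.mem_singleton] at ha hb
    have hn : ∀ f : G → ℂ, Cfsg.classInner f (-Cfsg.conjFun ν) = -Cfsg.classInner f (Cfsg.conjFun ν) :=
      fun f => by simp [Char.classInner_def, Finset.sum_neg_distrib, mul_neg]
    have hn' : ∀ f : G → ℂ, Cfsg.classInner (-Cfsg.conjFun ν) f = -Cfsg.classInner (Cfsg.conjFun ν) f :=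
      fun f => by simp [Char.classInner_def, Finset.sum_neg_distrib, neg_mul]
    rcases ha with rfl | rfl <;> rcases hb with rfl | rfl
    · rw [if_pos rfl, Char.irr_classInner_self hν]
    · rw [if_neg h12, hn, Char.irr_classInner_ne hν hν' (Ne.symm hνne), neg_zero]
    · rw [if_neg (Ne.symm h12), hn', Char.irr_classInner_ne hν' hν hνne, neg_zero]
    · rw [if_pos rfl, hn, hn', neg_neg, Char.irr_classInner_self hν']
  · intro α ha
    simp only [Finset.mem_insert, Finset.mem_singleton] at ha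
    rcases ha with rfl | rfl
    · exact Char.isGeneralized_of_isCharacter (Char.irr_isCharacter hν)
    · have e := Char.isGeneralized_zsmul (Char.isGeneralized_of_isCharacter (Char.irr_isCharacter hν')) (-1)
      simpa using e
  · rw [Finset.sum_pair h12, hT, sub_eq_add_neg]
  · exact fun α ha => by simpa using ha
  · rw [Finset.sum_pair h12, sub_eq_add_neg]

theorem exists_R_line (h : PrimeDadeHyp S K W₁ W₂ H A R) (hμ : IsPrimeTIFamily S W₁ W₂ μ δ)
    (hη : Cfsg.IsCyclicTIFamily W₁ W₂ η) {ω : ↥(W₁ ⊔ W₂) →* ℂˣ} (hω : ¬ TrivOn W₂ ω) :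
    ∃ s : Finset (G → ℂ), (∀ α ∈ s, ∀ β ∈ s, Cfsg.classInner α β = if α = β then 1 else 0) ∧
      (∀ α ∈ s, Cfsg.IsGeneralizedCharacter G α) ∧
      Cfsg.dadeIsometry (A ∪ vSet S W₁ W₂) S R (primeRed μ ω - Cfsg.conjFun (primeRed μ ω)) =
        ∑ α ∈ s, α ∧
      RSpec W₁ W₂ μ η (primeRed μ ω) s := by
  have := finite_hom h.selfNormalizing
  have := Fintype.ofFinite (↥(W₁ ⊔ W₂) →* ℂˣ)
  set P := Finset.univ.filter (fun a : ↥(W₁ ⊔ W₂) →* ℂˣ => SameOn W₂ a ω) with hP
  set N := Finset.univ.filter (fun a : ↥(W₁ ⊔ W₂) →* ℂˣ => SameOn W₂ a ω⁻¹) with hN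
  have hdisj : ∀ a ∈ N, a ∉ P := by
    intro a ha hb
    have e : SameOn W₂ ω ω⁻¹ :=
      ((Finset.mem_filter.mp hb).2).symm.trans (Finset.mem_filter.mp ha).2
    obtain ⟨φ₀, ψ, hφ₀, hψ, rfl⟩ :=
      Clifford.exists_hom_mul h.selfNormalizing.2.2.1 h.selfNormalizing.2.2.2.1 ω
    have hψ1 : ψ ≠ 1 := fun e1 => hω fun w hw => by simp [e1, hφ₀ w hw]
    refine ne_inv_of_ne_one h.odd_W hψ1 (eq_of_trivOn (fun w hw => ?_) fun w hw => ?_)
    · simp [hψ w hw]
    · simpa [hφ₀ w hw] using e w hw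
  set ε : (↥(W₁ ⊔ W₂) →* ℂˣ) → ℂ := fun a => if a ∈ P then δ ω else -δ ω with hε
  set f : (↥(W₁ ⊔ W₂) →* ℂˣ) → (G → ℂ) := fun a => ε a • η a with hf
  have hεsq : ∀ a, ε a * conj (ε a) = 1 := by
    intro a
    rcases hμ.sign ω with e | e <;> simp only [hε] <;> split_ifs <;> simp [e]
  have hinner : ∀ a b, Cfsg.classInner (f a) (f b) = if a = b then 1 else 0 := by
    intro a b
    rw [hf, Char.classInner_smul_left, Char.classInner_smul_right, hη.orthonormal]
    split_ifs with e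
    · subst e; rw [mul_one, hεsq]
    · simp
  have hfinj : Function.Injective f := fun a b e => by
    by_contra hne
    have h1 := hinner a b
    rw [if_neg hne, ← e, hinner, if_pos rfl] at h1
    exact one_ne_zero h1
  refine ⟨(P ∪ N).image f, ?_, ?_, ?_, Or.inr ⟨ω, rfl, ?_⟩⟩
  · intro α ha β hb
    obtain ⟨a, -, rfl⟩ := Finset.mem_image.mp ha
    obtain ⟨b, -, rfl⟩ := Finset.mem_image.mp hb
    rw [hinner, if_congr hfinj.eq_iff rfl rfl]
  · intro α ha
    obtain ⟨a, -, rfl⟩ := Finset.mem_image.mp ha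
    obtain ⟨k, hk⟩ : ∃ k : ℤ, ε a = (k : ℂ) := by
      rcases hμ.sign ω with e | e <;> simp only [hε] <;> split_ifs <;> rw [e]
      exacts [⟨1, by simp⟩, ⟨-1, by simp⟩, ⟨-1, by simp⟩, ⟨1, by simp⟩]
    rw [hf]
    simp only [hk]
    exact Char.isGeneralized_zsmul (IsCyclicTIFamily.generalized hη a) k
  · rw [dade_primeRed_diff h hμ hη hω, Finset.sum_image (fun a _ b _ e => hfinj e),
      Finset.sum_union (Finset.disjoint_left.mpr fun a ha hb => hdisj a hb ha), smul_sub,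
      Finset.smul_sum, Finset.smul_sum, sub_eq_add_neg, ← Finset.sum_neg_distrib]
    congr 1
    · exact Finset.sum_congr rfl fun a ha => by simp only [hf, hε, if_pos ha]
    · exact Finset.sum_congr rfl fun a ha => by simp only [hf, hε, if_neg (hdisj a ha), neg_smul]
  · intro α ha
    obtain ⟨a, ha', rfl⟩ := Finset.mem_image.mp ha
    refine ⟨ε a, a, rfl, ?_⟩
    rcases Finset.mem_union.mp ha' with h1 | h1
    · exact Or.inl (Finset.mem_filter.mp h1).2
    · exact Or.inr (Finset.mem_filter.mp h1).2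

/-- The coherence system on a conjugation-closed set of functions induced from `K`, not trivial on
`H`, each irreducible or a class sum of exceptional characters. -/
theorem exists_primeSystem (h : PrimeDadeHyp S K W₁ W₂ H A R) (hG : Odd (Nat.card G))
    (hμ : IsPrimeTIFamily S W₁ W₂ μ δ) (hη : Cfsg.IsCyclicTIFamily W₁ W₂ η) {C : Set (S → ℂ)}
    (hC : C ⊆ indSetD (K.subgroupOf S) (H.subgroupOf S) ⊥) (hconj : ∀ χ ∈ C, Cfsg.conjFun χ ∈ C)
    (hne : C.Nonempty) (hcases : ∀ χ ∈ C, Cfsg.IsIrrCharacter S χ ∨ ∃ ω, χ = primeRed μ ω) :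
    ∃ Rf, Cfsg.IsCoherenceSystem C (Cfsg.dadeIsometry (A ∪ vSet S W₁ W₂) S R) Rf := by
  have := h.normal_subgroupOf
  have := Fintype.ofFinite (K.subgroupOf S)
  have := finite_hom h.selfNormalizing
  have := Fintype.ofFinite (↥(W₁ ⊔ W₂) →* ℂˣ)
  have hex : ∀ χ ∈ C, ∃ s : Finset (G → ℂ),
      (∀ α ∈ s, ∀ β ∈ s, Cfsg.classInner α β = if α = β then 1 else 0) ∧
      (∀ α ∈ s, Cfsg.IsGeneralizedCharacter G α) ∧
      Cfsg.dadeIsometry (A ∪ vSet S W₁ W₂) S R (χ - Cfsg.conjFun χ) = ∑ α ∈ s, α ∧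
      RSpec W₁ W₂ μ η χ s := by
    intro χ hχ
    have := finite_hom h.selfNormalizing
    have := Fintype.ofFinite (↥(W₁ ⊔ W₂) →* ℂˣ)
    rcases hcases χ hχ with hi | ⟨ω, rfl⟩
    · exact exists_R_irr h hG hη (hC hχ) hi
    · exact exists_R_line h hμ hη (hμ.not_trivOn_of_red_mem h (hC hχ))
  choose! Rf hR1 hR2 hR3 hR4 using hex
  have horth : ∀ χ ∈ C, ∀ φ ∈ C, χ ≠ φ → Cfsg.classInner χ φ = 0 := by
    intro χ hχ φ hφ hne'
    obtain ⟨⟨θ, hθ, -, -, rfl⟩, -⟩ := hC hχ
    obtain ⟨⟨θ', hθ', -, -, rfl⟩, -⟩ := hC hφ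
    exact Coherent.indFun_orthogonal _ hθ hθ' hne'
  have hcne : ∀ χ ∈ C, Cfsg.conjFun χ ≠ χ := by
    intro χ hχ e
    rcases hcases χ hχ with hi | ⟨ω, rfl⟩
    · obtain ⟨x, hx, hx1⟩ := Subgroup.bot_or_exists_ne_one W₁ |>.resolve_left h.selfNormalizing.1
      have e1 := Char.eq_one_of_real_odd h.odd hi fun g => Complex.conj_eq_iff_im.mp (congr_fun e g)
      have h0 := (h.indSetD_props (hC hχ)).2.2.1 ⟨x, h.W₁_le hx⟩ (h.W₁_not_mem_K hx hx1).1
      rw [e1] at h0
      exact one_ne_zero h0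
    · have hω := hμ.not_trivOn_of_red_mem h (hC hχ)
      have e1 := primeRed_inner h hμ ω ω⁻¹
      rw [← primeRed_conj h hμ, e, primeRed_inner h hμ, if_pos (sameOn_refl _ _)] at e1
      split_ifs at e1 with hs
      · obtain ⟨φ₀, ψ, hφ₀, hψ, rfl⟩ :=
          Clifford.exists_hom_mul h.selfNormalizing.2.2.1 h.selfNormalizing.2.2.2.1 ω
        have hψ1 : ψ ≠ 1 := fun e1 => hω fun w hw => by simp [e1, hφ₀ w hw]
        refine ne_inv_of_ne_one h.odd_W hψ1 (eq_of_trivOn (fun w hw => ?_) fun w hw => ?_)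
        · simp [hψ w hw]
        · simpa [hφ₀ w hw] using hs w hw
      · exact Char.natCard_ne_zero e1
  refine ⟨Rf, ?_⟩
  constructor
  · exact hne
  · exact fun χ hχ => (h.indSetD_props (hC hχ)).1
  · exact hconj
  · exact hcne
  · refine ⟨fun α _ β _ => dade_add _ _ _ α β, fun α _ k => ?_, fun α hα β hβ => ?_, fun α hα => ?_⟩
    · funext g; simp only [Cfsg.dadeIsometry, Pi.smul_apply]; split_ifs <;> simp
    · obtain ⟨h1, -, h3⟩ := h.indSetD_supported hC hα
      exact Clifford.Dade.classInner_dadeIsometry_dadeIsometry h.dade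
        (Char.isGeneralized_isClassFunction h1) h3
        (Char.isGeneralized_isClassFunction (h.indSetD_supported hC hβ).1)
    · obtain ⟨h1, -, h3⟩ := h.indSetD_supported hC hα
      exact Clifford.Dade.isGeneralized_dadeIsometry h.dade h1 h3
  · exact fun α _ => dade_apply_one h α
  · exact horth
  · exact hR1
  · exact hR2
  · exact hR3
  · intro χ hχ φ hφ h0 h0' α hα β hβ
    rcases hR4 φ hφ with ⟨ν, hν, hνne, hνs, hνη, hνη', hνsum⟩ | ⟨a, ha, has⟩ <;>
      rcases hR4 χ hχ with ⟨ν', hν', hν'ne, hν's, hν'η, hν'η', hν'sum⟩ | ⟨b, hb, hbs⟩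
    · -- two irreducible members
      have hmem : ∀ {x}, x ∈ C → x - Cfsg.conjFun x ∈ Cfsg.zspanOn C ({1}ᶜ : Set S) := by
        intro x hx
        refine ⟨Submodule.sub_mem _ (Submodule.subset_span hx) (Submodule.subset_span (hconj x hx)),
          fun y hy => ?_⟩
        obtain rfl : y = 1 := by simpa using hy
        obtain ⟨d, hd⟩ := Char.char_apply_one_eq_nat (h.indSetD_props (hC hx)).1
        simp [Cfsg.conjFun, hd]
      obtain ⟨g1, -, g3⟩ := h.indSetD_supported hC (hmem hφ)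
      have hmix : Cfsg.classInner (ν - Cfsg.conjFun ν) (ν' - Cfsg.conjFun ν') = 0 := by
        rw [← hνsum, ← hν'sum, ← hR3 φ hφ, ← hR3 χ hχ,
          Clifford.Dade.classInner_dadeIsometry_dadeIsometry h.dade
            (Char.isGeneralized_isClassFunction g1) g3
            (Char.isGeneralized_isClassFunction (h.indSetD_supported hC (hmem hχ)).1),
          Char.classInner_sub_left, Char.classInner_sub_right, Char.classInner_sub_right, h0, h0',
          horth _ (hconj φ hφ) _ hχ, horth _ (hconj φ hφ) _ (hconj χ hχ)]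
        · ring
        · intro e
          have : φ = χ := by
            have := congrArg Cfsg.conjFun e
            simpa [Clifford.Coh.conjFun_conjFun] using this
          rw [this] at h0
          exact hcne χ hχ (by
            have := Char.classInner_self_eq_zero h0
            rw [this]; funext; simp [Cfsg.conjFun])
        · intro e
          have : φ = Cfsg.conjFun χ := by
            rw [← e, Clifford.Coh.conjFun_conjFun]
          rw [this] at h0'
          exact hcne _ (hconj χ hχ) (by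
            have := Char.classInner_self_eq_zero h0'
            rw [this]; funext; simp [Cfsg.conjFun])
      have hν1 : Cfsg.IsIrrCharacter G (Cfsg.conjFun ν) := Char.isIrrCharacter_conj hν
      have hν1' : Cfsg.IsIrrCharacter G (Cfsg.conjFun ν') := Char.isIrrCharacter_conj hν'
      have hone : ∀ {x : G → ℂ}, Cfsg.IsIrrCharacter G x → x 1 = Cfsg.conjFun x 1 := fun hx => by
        obtain ⟨d, -, hd⟩ := Char.irr_apply_one_pos hx
        simp [Cfsg.conjFun, hd]
      obtain ⟨q1, q2, q3, q4⟩ := Cfsg.Agent.S1509.result ν (Cfsg.conjFun ν) ν' (Cfsg.conjFun ν')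
        (Or.inl hν) (Or.inl hν1) (Or.inl hν') (Or.inl hν1') 1 1 one_ne_zero one_ne_zero
        (Char.irr_classInner_ne hν hν1 (Ne.symm hνne)) (Char.irr_classInner_ne hν' hν1' (Ne.symm hν'ne))
        (by simpa using hmix) (hone hν) (by simp [hone hν'])
      have hn : ∀ f g : G → ℂ, Cfsg.classInner f (-g) = -Cfsg.classInner f g := fun f g => by
        simp [Char.classInner_def, Finset.sum_neg_distrib, mul_neg]
      have hn' : ∀ f g : G → ℂ, Cfsg.classInner (-f) g = -Cfsg.classInner f g := fun f g => by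
        simp [Char.classInner_def, Finset.sum_neg_distrib, neg_mul]
      rcases hνs α hα with rfl | rfl <;> rcases hν's β hβ with rfl | rfl <;>
        simp only [hn, hn', q1, q2, q3, q4, neg_zero]
    · obtain ⟨c, x, rfl, -⟩ := hbs β hβ
      rcases hνs α hα with rfl | rfl
      · rw [Char.classInner_smul_right, hνη, mul_zero]
      · rw [Char.classInner_smul_right, show -Cfsg.conjFun ν = (-1 : ℂ) • Cfsg.conjFun ν by simp,
          Char.classInner_smul_left, hνη', mul_zero, mul_zero]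
    · obtain ⟨c, x, rfl, -⟩ := has α hα
      rcases hν's β hβ with rfl | rfl
      · rw [Char.classInner_smul_left, ← Char.classInner_conj_symm, hν'η, map_zero, mul_zero]
      · rw [Char.classInner_smul_left, show -Cfsg.conjFun ν' = (-1 : ℂ) • Cfsg.conjFun ν' by simp,
          Char.classInner_smul_right, ← Char.classInner_conj_symm, hν'η', map_zero, mul_zero, mul_zero]
    · obtain ⟨c, x, rfl, hx⟩ := has α hα
      obtain ⟨c', y, rfl, hy⟩ := hbs β hβ
      rw [Char.classInner_smul_left, Char.classInner_smul_right, hη.orthonormal, if_neg, mul_zero,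
        mul_zero]
      rintro rfl
      subst ha hb
      rw [primeRed_inner h hμ] at h0
      rw [primeRed_conj h hμ, primeRed_inner h hμ] at h0'
      have hqne : (Nat.card W₁ : ℂ) ≠ 0 := Char.natCard_ne_zero
      have k1 : ¬ SameOn W₂ a b := fun e => hqne (by rw [if_pos e] at h0; exact h0)
      have k2 : ¬ SameOn W₂ a b⁻¹ := fun e => hqne (by rw [if_pos e] at h0'; exact h0')
      have hinv : ∀ {u v : ↥(W₁ ⊔ W₂) →* ℂˣ}, SameOn W₂ u⁻¹ v → SameOn W₂ u v⁻¹ := by
        intro u v e w hw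
        have := congrArg (·⁻¹) (e w hw)
        simpa using this
      have hinv2 : ∀ {u v : ↥(W₁ ⊔ W₂) →* ℂˣ}, SameOn W₂ u⁻¹ v⁻¹ → SameOn W₂ u v := by
        intro u v e w hw
        simpa using e w hw
      rcases hx with hx | hx <;> rcases hy with hy | hy
      · exact k1 (hx.symm.trans hy)
      · exact k2 (hx.symm.trans hy)
      · exact k2 (hinv (hx.symm.trans hy))
      · exact k1 (hinv2 (hx.symm.trans hy))

end CfsgLib.PF.Base
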