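import Cfsg.Agent.Lib.PF.Base.CalSMass
import Cfsg.Agent.Lib.PF.Base.PrimeSystem
import Cfsg.Agent.Lib.Coherent.PivotExtend

/-!
# The set `calS` is coherent

All degrees are equal in the irreducible case.  In the reducible case the members of degree `q a`
are coherent and carry enough weight to add the others, save when `C = 1`, `p - 1 = 2a` and all
other degrees are `q u`; then the obstruction is excluded by the mass on `A₀(S)`.
-/

set_option autoImplicit false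
set_option linter.unusedSectionVars false
set_option maxHeartbeats 1000000

namespace CfsgLib.PF.S13.Side

open scoped Classical ComplexConjugate commutatorElement
open CfsgLib.Clifford CfsgLib.Clifford.Coh CfsgLib.PF.CalS

universe u

variable {G : Type u} [Group G] [Fintype G] {S W₁ W₂ U : Subgroup G} [Fintype S]
  {μ : (↥(W₁ ⊔ W₂) →* ℂˣ) → (S → ℂ)} {δ : (↥(W₁ ⊔ W₂) →* ℂˣ) → ℂ}
  {η : (↥(W₁ ⊔ W₂) →* ℂˣ) → (G → ℂ)}

/-- The members are among the functions induced from characters not trivial on the core. -/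
theorem calS_subset_indSetD (h : Side S W₁ W₂ U) :
    calS S ⊆ indSetD (KS S) ((Cfsg.typeCore S).subgroupOf S) ⊥ := by
  have := Fintype.ofFinite (KS S)
  refine fun χ hχ => ⟨hχ.1, fun hm => hχ.2 (Coherent.inducedIrrAbove_mono (KS S) (fun x hx => ?_) hm)⟩
  rw [Subgroup.mem_subgroupOf, Cfsg.typeCore]
  split_ifs
  exacts [h.P_le_derived ((h.mem_fittingHall).mp hx), (h.mem_fittingHall).mp hx]

/-- The map `tau0` is the adjoint of the restriction on the combinations vanishing at the identity. -/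
theorem inner_tau0 (h : Side S W₁ W₂ U) (he : Exc S W₁ W₂ μ δ) {α : S → ℂ}
    (hα : α ∈ Cfsg.zspanOn (calS S) ({1}ᶜ : Set S)) {x : G → ℂ} (hx : Cfsg.IsClassFunction G x) :
    Cfsg.classInner (Cfsg.dadeIsometry (Cfsg.typeA S ∪ vSet S W₁ W₂) S (Cfsg.supportR S) α) x =
      Cfsg.classInner α (fun s : S => x s) := by
  obtain ⟨hgen, -, hsupp⟩ := he.hyp.indSetD_supported h.calS_subset_indSetD hα
  rw [← he.A0_eq] at hsupp ⊢
  have hne : ∀ v ∈ Cfsg.typeA0 S, v ≠ 1 := fun v hv e => h.one_not_mem_A0 he (e ▸ hv)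
  rw [Coherent.dade_eq_indFun (fun g v hv hgv => h.mem_of_conj_A0 hv (hne v hv) hgv) (fun v hv => ?_)
    (Char.isGeneralized_isClassFunction hgen) hsupp, Char.frobenius_reciprocity _ _ _ hx]
  rw [Cfsg.supportR, dif_neg]
  rintro ⟨hn, -⟩
  exact hn fun g hg =>
    h.centralizer_le_of_mem_A0 hv (hne v hv) (Subgroup.mem_centralizer_singleton_iff.mp hg)

/-- Section 9: the set `calS` is coherent. -/
theorem calS_coherent (h : Side S W₁ W₂ U) (he : Exc S W₁ W₂ μ δ)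
    (hη : Cfsg.IsCyclicTIFamily W₁ W₂ η) : Cfsg.IsCoherent (calS S) {1}ᶜ (tau0 S) := by
  have := Fintype.ofFinite (KS S)
  have := Fintype.ofFinite (PK S)
  show Cfsg.IsCoherent (calS S) {1}ᶜ (Cfsg.dadeIsometry (Cfsg.typeA0 S) S (Cfsg.supportR S))
  rw [he.A0_eq]
  set τ := Cfsg.dadeIsometry (Cfsg.typeA S ∪ vSet S W₁ W₂) S (Cfsg.supportR S) with hτ
  have hcases : ∀ χ ∈ calS S, Cfsg.IsIrrCharacter S χ ∨ ∃ ω, χ = primeRed μ ω := by
    intro χ hχ
    obtain ⟨θ, hθ, -, rfl⟩ := h.exists_of_mem_calS hχ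
    exact Base.induced_cases he.hyp h.q_prime he.family θ hθ
  have hne : (calS S).Nonempty := by
    have hP : Cfsg.fittingHallOf S ≠ ⊥ := fun e =>
      h.data.H_not_cyclic (by rw [e]; exact Bot.isCyclic)
    obtain ⟨y, hy, hy1⟩ := (Subgroup.bot_or_exists_ne_one _).resolve_left hP
    obtain ⟨lam, hlam⟩ := Char.exists_linear_ne_one (G := PK S)
      (fun a b => Subtype.ext ((isSplit h).P_comm _ a.2 _ b.2))
      (g := (⟨⟨⟨y, h.P_le hy⟩, Subgroup.mem_subgroupOf.mpr (h.P_le_derived hy)⟩, hy⟩ : PK S))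
      (fun e => hy1 (congrArg (fun k : PK S => (((k : KS S) : S) : G)) e))
    exact ⟨_, memb_mem h rfl (fun e : lam = 1 => hlam (by rw [e]; rfl)) 1⟩
  obtain ⟨R, hS⟩ := Base.exists_primeSystem he.hyp h.odd he.family hη h.calS_subset_indSetD
    (fun χ hχ => h.conjFun_mem_calS hχ) hne hcases
  rw [← hτ] at hS
  choose! dd hd0 hd hdc using fun φ (hφ : φ ∈ calS S) => CfsgLib.Clifford.Coh.exists_deg hS hφ
  choose! nn hn0 hn using fun φ (hφ : φ ∈ calS S) => CfsgLib.Clifford.Coh.exists_norm hS hφ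
  have hdconj : ∀ φ ∈ calS S, dd (Cfsg.conjFun φ) = dd φ := fun φ hφ => by
    have e1 := (hd _ (h.conjFun_mem_calS hφ)).symm.trans (hdc φ hφ)
    exact_mod_cast e1
  set q := Nat.card W₁ with hq
  set C := U ⊓ Subgroup.centralizer (Cfsg.fittingHallOf S : Set G) with hC
  set n₀ := C.relIndex U with hn₀
  -- the degrees
  have hdeg : ∀ χ ∈ calS S, ∃ lam : PK S →* ℂˣ, lam ≠ 1 ∧
      dd χ = q * (SplitAbelian.stab (UK S U) lam).relIndex (UK S U) := by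
    intro χ hχ
    obtain ⟨lam, hlam, ψ, rfl⟩ := exists_memb h hχ
    refine ⟨lam, hlam, ?_⟩
    have e1 := (hd _ hχ).symm.trans (memb_one h rfl ψ)
    exact_mod_cast e1
  by_cases hgal : Interface.IsGalois S U
  · refine Cfsg.Agent.S1517.result _ τ R hS fun φ hφ ψ hψ => ?_
    have key : ∀ χ ∈ calS S, dd χ = q * n₀ := fun χ hχ => by
      obtain ⟨lam, hlam, e1⟩ := hdeg χ hχ
      rw [e1, relIndex_of_isGalois h hgal hlam]
    rw [hd φ hφ, hd ψ hψ, key φ hφ, key ψ hψ]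
  obtain ⟨w, e, hl⟩ := h.exists_lines hgal
  set a := lineIndex h hl with ha
  have ha1 : 1 < a := one_lt_lineIndex h hl
  have hn₀0 : 0 < n₀ := zero_lt_one.trans h.one_lt_relIndex
  have hdeg' : ∀ χ ∈ calS S, q * a ∣ dd χ ∧ dd χ ≤ q * n₀ := by
    intro χ hχ
    obtain ⟨lam, hlam, e1⟩ := hdeg χ hχ
    rw [e1]
    exact ⟨Nat.mul_dvd_mul_left _ (lineIndex_dvd_relIndex h hl hlam),
      Nat.mul_le_mul_left _ (Nat.le_of_dvd hn₀0 (relIndex_dvd h lam))⟩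
  by_cases hau : n₀ ≤ a
  · refine Cfsg.Agent.S1517.result _ τ R hS fun φ hφ ψ hψ => ?_
    have key : ∀ χ ∈ calS S, dd χ = q * a := fun χ hχ => le_antisymm
      ((hdeg' χ hχ).2.trans (Nat.mul_le_mul_left _ hau)) (Nat.le_of_dvd (hd0 χ hχ) (hdeg' χ hχ).1)
    rw [hd φ hφ, hd ψ hψ, key φ hφ, key ψ hψ]
  push Not at hau
  obtain ⟨s, hs⟩ := ((Coherent.inducedIrrAbove_finite (KS S) ⊥).subset h.calS_subset).exists_finset_coe
  have hmem : ∀ φ, φ ∈ s ↔ φ ∈ calS S := fun φ => by rw [← hs]; rfl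
  obtain ⟨J, hJ1, hJ2, hJcard⟩ := exists_single_members h hl
  have hJ : ∀ φ ∈ J, φ ∈ calS S ∧ dd φ = q * a ∧ nn φ = 1 := by
    intro φ hφ
    obtain ⟨lam, hsg, ψ, rfl⟩ := hJ1 φ hφ
    have hm := memb_mem h (Single.stab h hl hsg) (Single.ne_one h hl hsg) ψ
    refine ⟨hm, ?_, ?_⟩
    · have e1 := (hd _ hm).symm.trans (memb_one h (Single.stab h hl hsg) ψ)
      rw [relIndex_lineKer h hl] at e1
      exact_mod_cast e1
    · have e1 := (hn _ hm).symm.trans (Char.irr_classInner_self (single_irr h hl hsg _ ψ))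
      exact_mod_cast e1
  set f : (S → ℂ) → ℝ := fun φ => (dd φ : ℝ) ^ 2 / (nn φ : ℝ) with hf
  have hfpos : ∀ φ ∈ calS S, 0 < f φ := fun φ hφ => by
    have h1 : (0 : ℝ) < dd φ := Nat.cast_pos.mpr (hd0 φ hφ)
    have h2 : (0 : ℝ) < nn φ := Nat.cast_pos.mpr (hn0 φ hφ)
    positivity
  have hcardU : Nat.card (lineKer h hl 0) * a = Nat.card U := by
    rw [← card_UK h, ← CfsgLib.Coprime.card_mul_relIndex (lineKer_le h hl 0), relIndex_lineKer h hl]
  have hJsum : ((Nat.card W₂ - 1 : ℕ) : ℝ) * Nat.card U * (q : ℝ) ^ 2 ≤ ∑ φ ∈ J, f φ := by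
    rw [Finset.sum_congr rfl (g := fun _ => ((q : ℝ) * a) ^ 2) fun φ hφ => by
      rw [hf]; simp [(hJ φ hφ).2.1, (hJ φ hφ).2.2], Finset.sum_const, nsmul_eq_mul, ← hcardU]
    have h1 : ((Nat.card W₂ - 1 : ℕ) : ℝ) * Nat.card (lineKer h hl 0) ≤ (a : ℝ) * J.card := by
      exact_mod_cast hJcard
    push_cast
    nlinarith [mul_le_mul_of_nonneg_right h1
      (show (0 : ℝ) ≤ (a : ℝ) * (q : ℝ) ^ 2 by positivity)]
  have hUn : n₀ ≤ Nat.card U := by
    rw [h.card_U_eq]; exact Nat.le_mul_of_pos_left _ Nat.card_pos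
  have hcrit : 2 * ((q : ℝ) * n₀) * ((q : ℝ) * a) ≤
      ((Nat.card W₂ - 1 : ℕ) : ℝ) * Nat.card U * (q : ℝ) ^ 2 := by
    have h1 : ((2 * a : ℕ) : ℝ) ≤ ((Nat.card W₂ - 1 : ℕ) : ℝ) :=
      Nat.cast_le.mpr (two_mul_lineIndex_le h hl)
    have h2 : (n₀ : ℝ) ≤ Nat.card U := Nat.cast_le.mpr hUn
    push_cast at h1
    nlinarith [mul_le_mul_of_nonneg_right (mul_le_mul h1 h2 (Nat.cast_nonneg _)
      (Nat.cast_nonneg _)) (sq_nonneg (q : ℝ))]
  obtain ⟨φ₁, hφ₁J⟩ : J.Nonempty := by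
    rw [← Finset.card_pos]
    refine Nat.pos_of_ne_zero fun e0 => ?_
    rw [e0, mul_zero, Nat.le_zero, mul_eq_zero] at hJcard
    have := h.two_lt_p
    have := Nat.card_pos (α := lineKer h hl 0)
    omega
  set S₀ := s.filter fun φ => dd φ = q * a with hS₀
  have hS₀sub : ↑S₀ ⊆ calS S := fun φ hφ => (hmem φ).mp (Finset.mem_filter.mp hφ).1
  have hS₀c : ∀ φ ∈ S₀, Cfsg.conjFun φ ∈ S₀ := fun φ hφ =>
    Finset.mem_filter.mpr ⟨(hmem _).mpr (h.conjFun_mem_calS (hS₀sub hφ)),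
      (hdconj φ (hS₀sub hφ)).trans (Finset.mem_filter.mp hφ).2⟩
  have hJS₀ : J ⊆ S₀ := fun φ hφ => Finset.mem_filter.mpr ⟨(hmem φ).mpr (hJ φ hφ).1, (hJ φ hφ).2.1⟩
  have hS₀coh : Cfsg.IsCoherent (↑S₀ : Set (S → ℂ)) {1}ᶜ τ :=
    Cfsg.Agent.S1517.result _ τ R
      (Coherent.system_restrict hS hS₀sub ⟨φ₁, hJS₀ hφ₁J⟩ hS₀c) fun φ hφ ψ hψ => by
        rw [hd φ (hS₀sub hφ), hd ψ (hS₀sub hψ), (Finset.mem_filter.mp hφ).2,
          (Finset.mem_filter.mp hψ).2]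
  have hmono : ∀ {A B : Finset (S → ℂ)}, A ⊆ B → ∑ φ ∈ A, f φ ≤ ∑ φ ∈ B, f φ := fun hAB =>
    Finset.sum_le_sum_of_subset_of_nonneg hAB fun φ _ _ => by positivity
  -- the final extension
  have finish : ∀ V : Finset (S → ℂ), ↑V ⊆ calS S → (∀ φ ∈ V, Cfsg.conjFun φ ∈ V) →
      Cfsg.IsCoherent (↑V : Set (S → ℂ)) {1}ᶜ τ → J ⊆ V →
      2 * ((q : ℝ) * n₀) * ((q : ℝ) * a) < ∑ φ ∈ V, f φ → Cfsg.IsCoherent (calS S) {1}ᶜ τ := by
    intro V hV hVc hVcoh hJV hlt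
    obtain ⟨W, -, hsW, hWS, -, hWcoh⟩ := Coherent.system_extend hS dd nn hd hn V hV hVc hVcoh s
      (fun φ hφ => (hmem φ).mp hφ) fun χ hχ _ => by
        obtain ⟨hd1, hd2⟩ := hdeg' χ ((hmem χ).mp hχ)
        refine ⟨φ₁, hJV hφ₁J, (hJ φ₁ hφ₁J).2.1.symm ▸ hd1, lt_of_le_of_lt ?_ hlt⟩
        rw [(hJ φ₁ hφ₁J).2.1]
        push_cast
        have : (dd χ : ℝ) ≤ (q : ℝ) * n₀ := by exact_mod_cast hd2
        have : (0 : ℝ) ≤ (q : ℝ) * a := by positivity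
        gcongr
    rwa [Set.Subset.antisymm hWS (hs ▸ Finset.coe_subset.mpr hsW)] at hWcoh
  -- the members of smaller degree
  obtain ⟨V, hS₀V, hlowV, hVS, hVc, hVcoh⟩ := Coherent.system_extend hS dd nn hd hn S₀ hS₀sub hS₀c
    hS₀coh (s.filter fun φ => dd φ < q * n₀)
    (fun φ hφ => (hmem φ).mp (Finset.mem_filter.mp hφ).1) fun χ hχ _ => by
      obtain ⟨hχs, hlt⟩ := Finset.mem_filter.mp hχ
      refine ⟨φ₁, hJS₀ hφ₁J, (hJ φ₁ hφ₁J).2.1.symm ▸ (hdeg' χ ((hmem χ).mp hχs)).1,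
        lt_of_lt_of_le ?_ (hJsum.trans (hmono hJS₀))⟩
      refine lt_of_lt_of_le ?_ hcrit
      rw [(hJ φ₁ hφ₁J).2.1]
      push_cast
      have h1 : (dd χ : ℝ) < (q : ℝ) * n₀ := by exact_mod_cast hlt
      have h2 : (0 : ℝ) < (q : ℝ) * a := by
        exact_mod_cast Nat.mul_pos (Nat.card_pos (α := W₁)) (zero_lt_one.trans ha1)
      gcongr
  by_cases hstrict : 2 * ((q : ℝ) * n₀) * ((q : ℝ) * a) < ∑ φ ∈ V, f φ
  · exact finish V hVS hVc hVcoh (hJS₀.trans hS₀V) hstrict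
  push Not at hstrict
  -- the critical case
  have hJV : J ⊆ V := hJS₀.trans hS₀V
  have hVJ : V = J := by
    refine (Finset.Subset.antisymm hJV fun φ hφ => by_contra fun hn' => ?_).symm
    have h1 : f φ + ∑ ψ ∈ J, f ψ ≤ ∑ ψ ∈ V, f ψ := by
      rw [← Finset.sum_insert hn']
      exact hmono (Finset.insert_subset hφ hJV)
    linarith [hfpos φ (hVS hφ)]
  have hS₀J : S₀ = J := Finset.Subset.antisymm (hS₀V.trans hVJ.le) hJS₀
  have hlow : ∀ φ ∈ calS S, dd φ < q * n₀ → φ ∈ J := fun φ hφ hlt =>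
    hVJ ▸ hlowV (Finset.mem_filter.mpr ⟨(hmem φ).mpr hφ, hlt⟩)
  have htot : ((Nat.card W₂ - 1) * Nat.card U : ℕ) ≤ 2 * a * n₀ := by
    have h1 : (((Nat.card W₂ - 1) * Nat.card U : ℕ) : ℝ) * (q : ℝ) ^ 2 ≤
        ((2 * a * n₀ : ℕ) : ℝ) * (q : ℝ) ^ 2 := by
      have := hJsum.trans ((hmono hJV).trans hstrict)
      push_cast
      linarith
    have hq2 : (0 : ℝ) < (q : ℝ) ^ 2 := pow_pos (Nat.cast_pos.mpr (Nat.card_pos (α := W₁))) 2
    exact_mod_cast le_of_mul_le_mul_right h1 hq2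
  have hp : Nat.card W₂ - 1 = 2 * a := by
    refine le_antisymm (Nat.le_of_mul_le_mul_right ((Nat.mul_le_mul_left _ hUn).trans htot) hn₀0) ?_
    exact two_mul_lineIndex_le h hl
  have hU : Nat.card U = n₀ :=
    le_antisymm (Nat.le_of_mul_le_mul_left (hp ▸ htot) (by omega)) hUn
  obtain ⟨t, ht⟩ : a ∣ Nat.card U := ⟨_, (hcardU.symm.trans (mul_comm _ _))⟩
  have hnt : n₀ = a * t := hU.symm.trans ht
  have ht1 : 1 < t := by
    rcases Nat.lt_or_ge 1 t with h1 | h1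
    · exact h1
    · have := Nat.mul_le_mul_left a h1
      omega
  obtain ⟨lam₁, hs₁, ψ₁, hφ₁⟩ := hJ1 φ₁ hφ₁J
  -- two lines are never fixed together
  have hdisj : ∀ i < Nat.card W₁, ∀ j < Nat.card W₁, i ≠ j →
      lineKer h hl i ⊓ lineKer h hl j = ⊥ := by
    intro i hi j hj hij
    obtain ⟨lam, hlam⟩ := exists_lam h hl
      (fun k => if k = i ∨ k = j then lam₁ (pt h hl 0) else 1) fun k => by
        split_ifs
        · exact lam_pt_pow h hl lam₁ 0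
        · exact one_pow _
    have hi1 : lam (pt h hl i) ≠ 1 := by rw [hlam i hi, if_pos (Or.inl rfl)]; exact hs₁.1
    have hj1 : lam (pt h hl j) ≠ 1 := by rw [hlam j hj, if_pos (Or.inr rfl)]; exact hs₁.1
    have hlam1 : lam ≠ 1 := fun e1 => hi1 (by rw [e1]; rfl)
    have hm := memb_mem h rfl hlam1 (1 : SplitAbelian.stab (UK S U) lam →* ℂˣ)
    have hk : (SplitAbelian.stab (UK S U) lam).relIndex (UK S U) = n₀ := by
      refine le_antisymm (Nat.le_of_dvd hn₀0 (relIndex_dvd h lam)) (by_contra fun hlt => ?_)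
      push Not at hlt
      have e1 := (hd _ hm).symm.trans (memb_one h rfl 1)
      have e2 : dd (memb h rfl (1 : SplitAbelian.stab (UK S U) lam →* ℂˣ)) =
          q * (SplitAbelian.stab (UK S U) lam).relIndex (UK S U) := by exact_mod_cast e1
      obtain ⟨lam', hs', ψ', e3⟩ := hJ1 _ (hlow _ hm
        (e2 ▸ Nat.mul_lt_mul_of_pos_left hlt Nat.card_pos))
      obtain ⟨s', t', -, -, ht'⟩ := memb_eq h rfl (Single.stab h hl hs') e3
      exact hij (support_unique h hl hs' ht' hi hj hi1 hj1)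
    have hbot : SplitAbelian.stab (UK S U) lam = ⊥ := by
      rw [← Subgroup.card_eq_one]
      have e1 := CfsgLib.Coprime.card_mul_relIndex (SplitAbelian.stab_le (U := UK S U) lam)
      rw [hk, card_UK h, hU] at e1
      exact (Nat.mul_eq_right hn₀0.ne').mp e1
    refine eq_bot_iff.mpr fun z hz => ?_
    rw [← hbot]
    refine (mem_stab_iff h hl).mpr ⟨lineKer_le h hl i hz.1, fun k hk' hne' => ?_⟩
    rw [hlam k hk'] at hne'
    split_ifs at hne' with hc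
    · rcases hc with rfl | rfl
      exacts [hz.1, hz.2]
    · exact absurd rfl hne'
  -- the images
  obtain ⟨hnz, τ₁, hτ₁, hag⟩ := hS₀coh
  have hφ₁S₀ : φ₁ ∈ S₀ := hJS₀ hφ₁J
  have hzs : ∀ {φ}, φ ∈ S₀ → φ ∈ Cfsg.zspan (↑S₀ : Set (S → ℂ)) := fun hφ => mem_zspan_of_mem hφ
  set x := τ₁ φ₁ with hx
  have hxgen : Cfsg.IsGeneralizedCharacter G x := hτ₁.2.2.2 _ (hzs hφ₁S₀)
  have hxx : Cfsg.classInner x x = 1 := by
    rw [hx, hτ₁.2.2.1 _ (hzs hφ₁S₀) _ (hzs hφ₁S₀), hn _ (hJ φ₁ hφ₁J).1, (hJ φ₁ hφ₁J).2.2,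
      Nat.cast_one]
  have hxcl := Char.isGeneralized_isClassFunction hxgen
  choose! k hk using fun φ (hφ : φ ∈ calS S) =>
    Char.classInner_isGeneralized_int (CalS.isGeneralized_res hxgen S.subtype)
      (Char.isGeneralized_of_isCharacter (h.isCharacter_of_mem_calS hφ))
  have hk' : ∀ φ ∈ calS S, Cfsg.classInner φ (fun y : S => x y) = (k φ : ℂ) := fun φ hφ => by
    rw [← Char.classInner_conj_symm, show Cfsg.classInner (fun y : S => x y) φ = _ from hk φ hφ,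
      map_intCast]
  by_cases hex : ∃ χ ∈ calS S, dd χ = q * n₀ ∧
      Cfsg.IsCoherent (↑S₀ ∪ {χ, Cfsg.conjFun χ} : Set (S → ℂ)) {1}ᶜ τ
  · obtain ⟨χ, hχ, hdχ, hcoh⟩ := hex
    refine finish (insert χ (insert (Cfsg.conjFun χ) S₀)) ?_ ?_ ?_
      (fun φ hφ => by simp [hJS₀ hφ]) ?_
    · intro φ hφ
      simp only [Finset.coe_insert, Set.mem_insert_iff] at hφ
      rcases hφ with rfl | rfl | hφ
      exacts [hχ, h.conjFun_mem_calS hχ, hS₀sub hφ]
    · intro φ hφ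
      simp only [Finset.mem_insert] at hφ ⊢
      rcases hφ with rfl | rfl | hφ
      exacts [Or.inr (Or.inl rfl), Or.inl (conjFun_conjFun χ), Or.inr (Or.inr (hS₀c φ hφ))]
    · convert hcoh using 1
      ext φ
      simp only [Finset.coe_insert, Set.mem_insert_iff, Set.mem_union, Set.mem_singleton_iff]
      tauto
    · have hnot : χ ∉ S₀ := fun hm => by
        have e1 := (Finset.mem_filter.mp hm).2
        rw [hdχ] at e1
        exact hau.ne' (Nat.eq_of_mul_eq_mul_left Nat.card_pos e1)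
      refine lt_of_le_of_lt (hcrit.trans (hJsum.trans (hmono hJS₀))) ?_
      refine lt_of_lt_of_le (lt_add_of_pos_left _ (hfpos χ hχ)) ?_
      rw [← Finset.sum_insert hnot]
      exact hmono (Finset.insert_subset_insert _ (Finset.subset_insert _ _))
  exfalso
  push Not at hex
  have hregk : ∀ χ ∈ calS S, dd χ = q * n₀ → k χ = (t : ℤ) * (k φ₁ - 1) + 1 := by
    intro χ hχ hdχ
    have hnot : ∀ φ ∈ S₀, dd φ ≠ q * n₀ := fun φ hφ e1 => by
      rw [(Finset.mem_filter.mp hφ).2] at e1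
      exact hau.ne (Nat.eq_of_mul_eq_mul_left Nat.card_pos e1)
    rcases Coherent.pivot_extend _ τ R hS dd nn hd hn S₀ hS₀sub hS₀c hnz τ₁ hτ₁ hag χ hχ
      (fun hm => hnot χ hm hdχ) (fun hm => hnot _ hm ((hdconj χ hχ).trans hdχ)) φ₁ hφ₁S₀ t
      (by rw [hdχ, (hJ φ₁ hφ₁J).2.1, hnt, mul_assoc]) with hcoh | ⟨b, hb0, hb, hbe⟩
    · exact absurd hcoh (hex χ hχ hdχ)
    have hb1 : b = 1 := by
      have hT : (2 : ℝ) * t * ((q : ℝ) * a) ^ 2 ≤ ∑ φ ∈ S₀, f φ := by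
        refine le_trans (le_of_eq ?_) (hcrit.trans (hJsum.trans (hmono hJS₀)))
        rw [hnt]; push_cast; ring
      rw [(hJ φ₁ hφ₁J).2.1] at hb
      push_cast at hb
      have h2 : (b : ℝ) ^ 2 ≤ b := by
        have hpos : (0 : ℝ) < 2 * t * ((q : ℝ) * a) ^ 2 := by
          have : 0 < t := by omega
          have : 0 < q := Nat.card_pos
          have : 0 < a := by omega
          positivity
        refine le_of_mul_le_mul_right ?_ hpos
        nlinarith [mul_le_mul_of_nonneg_left hT (sq_nonneg (b : ℝ))]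
      have h3 : b ^ 2 ≤ b := by exact_mod_cast h2
      nlinarith [mul_self_pos.mpr hb0]
    rw [hb1, (hJ φ₁ hφ₁J).2.2, ← hx] at hbe
    have hα : χ - (t : ℤ) • φ₁ ∈ Cfsg.zspanOn (calS S) ({1}ᶜ : Set S) :=
      mem_zspanOn_compl.mpr ⟨Submodule.sub_mem _ (mem_zspan_of_mem hχ)
        (Submodule.smul_mem _ _ (mem_zspan_of_mem (hJ φ₁ hφ₁J).1)), by
          simp [hd χ hχ, hd φ₁ (hJ φ₁ hφ₁J).1, hdχ, (hJ φ₁ hφ₁J).2.1, hnt]; ring⟩
    rw [hτ, h.inner_tau0 he hα hxcl, Char.classInner_sub_left, classInner_zsmul_left, hk' χ hχ,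
      hk' φ₁ (hJ φ₁ hφ₁J).1] at hbe
    have e1 : k χ - (t : ℤ) * k φ₁ = 1 - (t : ℤ) * 1 := by exact_mod_cast hbe
    linear_combination e1
  have hJk : ∀ φ ∈ J, φ ≠ φ₁ → k φ = k φ₁ - 1 := by
    intro φ hφ hne'
    have hmem₀ : φ - φ₁ ∈ Cfsg.zspanOn (↑S₀ : Set (S → ℂ)) ({1}ᶜ : Set S) :=
      mem_zspanOn_compl.mpr ⟨Submodule.sub_mem _ (hzs (hJS₀ hφ)) (hzs hφ₁S₀), by
        simp [hd φ (hJ φ hφ).1, hd φ₁ (hJ φ₁ hφ₁J).1, (hJ φ hφ).2.1, (hJ φ₁ hφ₁J).2.1]⟩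
    have e1 := h.inner_tau0 he (zspanOn_mono hS₀sub hmem₀) hxcl
    rw [← hτ, ← hag _ hmem₀, iso_zspan_sub hτ₁ (hzs (hJS₀ hφ)) (hzs hφ₁S₀),
      Char.classInner_sub_left, ← hx, hxx, hx, hτ₁.2.2.1 _ (hzs (hJS₀ hφ)) _ (hzs hφ₁S₀),
      hS.orthogonal φ (hJ φ hφ).1 φ₁ (hJ φ₁ hφ₁J).1 hne', ← hx, Char.classInner_sub_left,
      hk' φ (hJ φ hφ).1, hk' φ₁ (hJ φ₁ hφ₁J).1] at e1
    have e2 : ((0 : ℤ) - 1 : ℤ) = k φ - k φ₁ := by exact_mod_cast e1
    omega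
  refine critical_false h hl he hp ht1 ht hdisj hxgen hxx hs₁ ψ₁ (k φ₁ - 1)
    (fun lam hsg ψ => ?_) (fun lam hlam hV => ?_)
  · have hmJ := hJ2 lam hsg ψ
    refine (hk _ (hJ _ hmJ).1).trans ?_
    rw [← hφ₁]
    split_ifs with e1
    · rw [e1]; push_cast; ring
    · rw [hJk _ hmJ e1]; push_cast; ring
  · have hm := memb_mem h hV hlam (1 : (⊥ : Subgroup (KS S)) →* ℂˣ)
    refine (hk _ hm).trans ?_
    rw [hregk _ hm]
    have e1 := (hd _ hm).symm.trans (memb_one h hV 1)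
    rw [Subgroup.relIndex_bot_left, card_UK h, hU] at e1
    exact_mod_cast e1

end CfsgLib.PF.S13.Side
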