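import Cfsg.Agent.Lib.PF.Base.ThreeFour
import Cfsg.Agent.Lib.PF.Base.CalSCoherent

/-!
# Sections 9 to 11: the basic facts on a member of a pair without members of type V
-/

set_option autoImplicit false

namespace CfsgLib.PF.Base

open scoped Classical

universe u

variable {G : Type u} [Group G] [Fintype G] {S T W₁ W₂ U V : Subgroup G}

/-- A member of a pair without type V members: type II or III, in the setting of section 13. -/
theorem side_of_pair [Fintype S] (h : STPair S T W₁ W₂ U V) (hS5 : ¬ Cfsg.IsOfTypeV S)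
    (hT5 : ¬ Cfsg.IsOfTypeV T) :
    (Cfsg.IsOfTypeII S ∨ Cfsg.IsOfTypeIII S) ∧
      (Nat.card W₁ < Nat.card W₂ → Cfsg.IsOfTypeII S) ∧ S13.Side S W₁ W₂ U := by
  have hpre := pre_of_pair h hS5 hT5
  by_cases hII : Cfsg.IsOfTypeII S
  · exact ⟨Or.inl hII, fun _ => hII, hpre.side_of_typeII hII⟩
  have h34 : Cfsg.IsOfTypeIII S ∨ Cfsg.IsOfTypeIV S := by
    rcases h.typeS with e | e | e | e
    exacts [absurd e hII, Or.inl e, Or.inr e, absurd e hS5]
  obtain ⟨h3, hlt, hside⟩ := typeThreeFour h hpre h34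
  exact ⟨Or.inr h3, fun hlt' => absurd (hlt.trans hlt') (lt_irrefl _), hside⟩

/-- The input to section 13, from the absence of maximal subgroups of type V. -/
theorem typePBase_of_noTypeFive (h5 : Interface.NoTypeFive.{u}) : Interface.TypePBase.{u} := by
  intro G _ _ S T W₁ W₂ U V _ h
  obtain ⟨h1, h2, hside⟩ :=
    side_of_pair h (h5 h.minSimple S h.maxS) (h5 h.minSimple T h.maxT)
  obtain ⟨μ, δ, he⟩ := S13.exists_exc typePPrimeDade h
  obtain ⟨η, hη⟩ := S13.exists_family h
  exact ⟨h1, h2, ⟨hside.q_prime, hside.p_prime, hside.p_ne_q⟩,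
    ⟨hside.U_ne, hside.U_comm, hside.fpf⟩, ⟨hside.elementary, hside.card_P⟩, hside.index_le,
    hside.calS_coherent he hη, hside.ti, hside.normalizer_eq⟩

end CfsgLib.PF.Base
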