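import Cfsg.Agent.Lib.PF.PrimeTI
import Cfsg.Agent.Lib.PF.PrimeConj
import Cfsg.Agent.Lib.PF.CyclicHom
import Cfsg.Agent.Lib.Coherent.InducedSet
import Cfsg.Agent.Lib.Coprime.Hall

/-!
# A character induced from `K` is irreducible or a class sum of exceptional characters

Also the conjugate of a class sum and the orthogonality of class sums.
-/

set_option autoImplicit false
set_option maxHeartbeats 1000000

namespace CfsgLib.PF.Base

open scoped Classical ComplexConjugate
open CfsgLib.Clifford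

universe u

variable {G : Type u} [Group G] [Fintype G] {S K W₁ W₂ H : Subgroup G} [Fintype S] {A : Set G}
  {R : G → Subgroup G} {μ : (↥(W₁ ⊔ W₂) →* ℂˣ) → (S → ℂ)} {δ : (↥(W₁ ⊔ W₂) →* ℂˣ) → ℂ}

/-- `K` has index the order of `W₁` in `S`. -/
theorem index_K (h : PrimeDadeHyp S K W₁ W₂ H A R) : (K.subgroupOf S).index = Nat.card W₁ := by
  have e := Subgroup.card_mul_index (K.subgroupOf S)
  rw [Nat.card_congr (Subgroup.subgroupOfEquivOfLe h.K_le).toEquiv, h.card_S.1] at e
  exact Nat.eq_of_mul_eq_mul_left Nat.card_pos e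

/-- The restriction of a class sum to `K` is `|W₁|` times a single member. -/
theorem primeRed_apply_K (h : PrimeDadeHyp S K W₁ W₂ H A R) (hμ : IsPrimeTIFamily S W₁ W₂ μ δ)
    (ω : ↥(W₁ ⊔ W₂) →* ℂˣ) {x : S} (hx : (x : G) ∈ K) :
    primeRed μ ω x = (Nat.card W₁ : ℂ) * μ ω x := by
  have := finite_hom h.selfNormalizing
  have := Fintype.ofFinite (↥(W₁ ⊔ W₂) →* ℂˣ)
  obtain ⟨hsum, hcard⟩ := primeRed_eq_sum h.selfNormalizing μ ω
  rw [hsum, Finset.sum_apply, Finset.sum_congr rfl (g := fun _ => μ ω x) fun ω' hω' =>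
    hμ.eq_on_K h (Finset.mem_filter.mp hω').2 hx, Finset.sum_const, hcard, nsmul_eq_mul]

/-- Conjugation of a class sum. -/
theorem primeRed_conj (h : PrimeDadeHyp S K W₁ W₂ H A R) (hμ : IsPrimeTIFamily S W₁ W₂ μ δ)
    (ω : ↥(W₁ ⊔ W₂) →* ℂˣ) : Cfsg.conjFun (primeRed μ ω) = primeRed μ ω⁻¹ := by
  have := finite_hom h.selfNormalizing
  have := Fintype.ofFinite (↥(W₁ ⊔ W₂) →* ℂˣ)
  rw [(primeRed_eq_sum h.selfNormalizing μ ω).1, (primeRed_eq_sum h.selfNormalizing μ ω⁻¹).1]
  funext x
  simp only [Cfsg.conjFun, Finset.sum_apply, map_sum]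
  refine Finset.sum_bij' (fun a _ => a⁻¹) (fun a _ => a⁻¹) (fun a ha => ?_) (fun a ha => ?_)
    (fun a _ => inv_inv a) (fun a _ => inv_inv a) fun a _ => ?_
  · simp only [Finset.mem_filter, Finset.mem_univ, true_and] at ha ⊢
    intro w hw; simp [ha w hw]
  · simp only [Finset.mem_filter, Finset.mem_univ, true_and] at ha ⊢
    intro w hw; simp [ha w hw]
  · exact congrFun (hμ.conj_eq h a).1 x

/-- The inner product of two class sums. -/
theorem primeRed_inner (h : PrimeDadeHyp S K W₁ W₂ H A R) (hμ : IsPrimeTIFamily S W₁ W₂ μ δ)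
    (a b : ↥(W₁ ⊔ W₂) →* ℂˣ) :
    Cfsg.classInner (primeRed μ a) (primeRed μ b) = if SameOn W₂ a b then (Nat.card W₁ : ℂ) else 0 := by
  have := finite_hom h.selfNormalizing
  have := Fintype.ofFinite (↥(W₁ ⊔ W₂) →* ℂˣ)
  obtain ⟨ha, hca⟩ := primeRed_eq_sum h.selfNormalizing μ a
  obtain ⟨hb, -⟩ := primeRed_eq_sum h.selfNormalizing μ b
  rw [ha, hb, Char.classInner_sum_left]
  have e : ∀ x, SameOn W₂ x a → Cfsg.classInner (μ x)
      (∑ y ∈ Finset.univ.filter (fun y => SameOn W₂ y b), μ y) = if SameOn W₂ a b then 1 else 0 := by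
    intro x hx
    rw [Char.classInner_sum_right]
    split_ifs with hab
    · rw [Finset.sum_eq_single x (fun c _ hc => Char.irr_classInner_ne (hμ.irr x) (hμ.irr c)
        fun e => hc (hμ.injective e).symm) (fun hn => absurd (by simpa using hx.trans hab) hn), Char.irr_classInner_self (hμ.irr x)]
    · exact Finset.sum_eq_zero fun y hy => Char.irr_classInner_ne (hμ.irr x) (hμ.irr y) fun e => hab
        (hx.symm.trans (hμ.injective e ▸ (Finset.mem_filter.mp hy).2))
  rw [Finset.sum_congr rfl fun x hx => e x (Finset.mem_filter.mp hx).2, Finset.sum_const, hca,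
    nsmul_eq_mul]
  split_ifs <;> simp

/-- An exceptional character vanishes nowhere on `S` outside `K`. -/
theorem exists_mem_W (h : PrimeDadeHyp S K W₁ W₂ H A R) {x : S} (hx : (x : G) ∉ K) :
    ∃ s : S, ((s * x * s⁻¹ : S) : G) ∈ W₁ ⊔ W₂ ∧ ((s * x * s⁻¹ : S) : G) ∉ W₂ := by
  obtain ⟨s, hs, h1, h2⟩ := h.exists_conj_W x.2 hx
  exact ⟨⟨s, hs⟩, h1, h2⟩

/-- An invariant character of `K` gives a class sum of exceptional characters; any other induces to
an irreducible character. -/
theorem induced_cases (h : PrimeDadeHyp S K W₁ W₂ H A R) (hq : (Nat.card W₁).Prime)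
    (hμ : IsPrimeTIFamily S W₁ W₂ μ δ) : ∀ θ : K.subgroupOf S → ℂ,
    Cfsg.IsIrrCharacter (K.subgroupOf S) θ →
    Cfsg.IsIrrCharacter S (Cfsg.indFun (K.subgroupOf S) θ) ∨
      ∃ ω, Cfsg.indFun (K.subgroupOf S) θ = primeRed μ ω := by
  have := h.normal_subgroupOf
  set K' := K.subgroupOf S with hK'
  intro θ hθ
  have := Fintype.ofFinite K'
  set I := Cfsg.indFun K' θ with hI
  set T := inertia θ with hT
  have hKT : K' ≤ T := le_inertia (Char.irr_isClassFunction hθ)
  have hcard : Cfsg.classInner I I = (Nat.card K' : ℂ)⁻¹ * (Nat.card T : ℂ) := by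
    rw [hI, classInner_indFun_indFun hθ hθ]
    congr 2
    exact Nat.card_congr (Equiv.subtypeEquivRight fun x => (mem_inertia_iff_conjFn).symm)
  have hdvd : K'.relIndex T ∣ Nat.card W₁ := by
    rw [← index_K h]; exact Subgroup.relIndex_dvd_index_of_normal _ _
  have hrel := CfsgLib.Coprime.card_mul_relIndex hKT
  rcases (Nat.dvd_prime hq).mp hdvd with h1 | h1
  · left
    refine Char.isIrrCharacter_iff.mpr ⟨Char.isCharacter_indFun _ (Char.irr_isCharacter hθ), ?_⟩
    rw [h1, mul_one] at hrel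
    rw [hcard, ← hrel, inv_mul_cancel₀ Char.natCard_ne_zero]
  right
  rw [h1] at hrel
  have hII : Cfsg.classInner I I = (Nat.card W₁ : ℂ) := by
    rw [hcard, ← hrel, Nat.cast_mul, inv_mul_cancel_left₀ Char.natCard_ne_zero]
  have hall : ∀ x : S, conjFn x θ = θ := fun x => by
    refine mem_inertia_iff_conjFn.mp ?_
    have : T = ⊤ := Subgroup.eq_top_of_card_eq _ (by
      rw [← hrel, ← index_K h]; exact Subgroup.card_mul_index _)
    rw [show inertia θ = ⊤ from this]
    exact Subgroup.mem_top x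
  -- restriction of `I`
  have hIres : ∀ a : K', I (a : S) = (Nat.card W₁ : ℂ) * θ a := by
    intro a
    have e := congrFun (indFun_restrict θ) a
    refine e.trans ?_
    simp only [Pi.smul_apply, Finset.sum_apply, hall, Finset.sum_const, Finset.card_univ, smul_eq_mul,
      nsmul_eq_mul, Pi.mul_apply, Pi.natCast_apply]
    rw [← Nat.card_eq_fintype_card (α := S), ← Subgroup.card_mul_index K', index_K h,
      Nat.cast_mul, mul_assoc, inv_mul_cancel_left₀ Char.natCard_ne_zero]
  -- a constituent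
  have := Fintype.ofFinite (Cfsg.IrrCharacter S)
  have := Fintype.ofFinite (Cfsg.IrrCharacter K')
  have hIc : Cfsg.IsCharacter S I := Char.isCharacter_indFun _ (Char.irr_isCharacter hθ)
  obtain ⟨ψ, hψ, hne⟩ : ∃ ψ : S → ℂ, Cfsg.IsIrrCharacter S ψ ∧ Cfsg.classInner I ψ ≠ 0 := by
    by_contra hn
    push Not at hn
    have e : I = 0 := by
      funext x
      rw [Char.classFunction_apply_eq_sum (Char.isCharacter_isClassFunction hIc)]
      exact Finset.sum_eq_zero fun θ' _ => by rw [hn _ θ'.2, zero_mul]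
    rw [e] at hII
    rw [show Cfsg.classInner (0 : S → ℂ) 0 = 0 by simp [Char.classInner_def]] at hII
    exact hq.ne_zero (by exact_mod_cast hII.symm)
  by_cases hex : ∃ ω, ψ = μ ω
  · obtain ⟨ω, rfl⟩ := hex
    refine ⟨ω, ?_⟩
    obtain ⟨θ', hθ', hred⟩ := primeRed_eq_indFun hμ h ω
    rw [hred]
    by_contra hcon
    refine hne ?_
    have h0 := Coherent.indFun_orthogonal K' hθ hθ' hcon
    rw [← hI, ← hred] at h0
    -- the class sum is a sum of characters, one of which is `μ ω`
    have := finite_hom h.selfNormalizing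
    have := Fintype.ofFinite (↥(W₁ ⊔ W₂) →* ℂˣ)
    rw [(primeRed_eq_sum h.selfNormalizing μ ω).1, Char.classInner_sum_right] at h0
    obtain ⟨f, hf⟩ : ∃ f : (↥(W₁ ⊔ W₂) →* ℂˣ) → ℕ, ∀ a, Cfsg.classInner I (μ a) = f a :=
      ⟨fun a => (Char.classInner_isCharacter_nat hIc (Char.irr_isCharacter (hμ.irr a))).choose,
        fun a => (Char.classInner_isCharacter_nat hIc (Char.irr_isCharacter (hμ.irr a))).choose_spec⟩
    simp only [hf] at h0 ⊢
    rw [← Nat.cast_sum, Nat.cast_eq_zero, Finset.sum_eq_zero_iff] at h0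
    rw [h0 ω (Finset.mem_filter.mpr ⟨Finset.mem_univ _, sameOn_refl _ _⟩), Nat.cast_zero]
  exfalso
  push Not at hex
  -- `ψ` vanishes outside `K`
  have hv : ∀ x : S, x ∉ K' → ψ x = 0 := by
    intro x hx
    obtain ⟨s, hs1, hs2⟩ := exists_mem_W h hx
    rw [← Char.irr_isClassFunction hψ x s]
    exact hμ.other_vanish ψ hψ hex _ hs1 hs2
  -- its restriction is a multiple of `θ`
  set ψK : K' → ℂ := fun a => ψ a with hψK
  have hψKc : Cfsg.IsCharacter K' ψK := Char.isCharacter_restrict (Char.irr_isCharacter hψ) K'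
  obtain ⟨c, hc⟩ := Char.classInner_isCharacter_nat hIc (Char.irr_isCharacter hψ)
  have hfrob : Cfsg.classInner θ ψK = c := by
    rw [← hc, hI, Char.frobenius_reciprocity K' θ _ (Char.irr_isClassFunction hψ)]
  have hoth : ∀ θ' : K' → ℂ, Cfsg.IsIrrCharacter K' θ' → θ' ≠ θ → Cfsg.classInner θ' ψK = 0 := by
    intro θ' hθ' hne'
    have h1 : Cfsg.classInner (Cfsg.indFun K' θ') ψ = Cfsg.classInner θ' ψK :=
      Char.frobenius_reciprocity K' θ' _ (Char.irr_isClassFunction hψ)
    by_contra hcon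
    have hII' : Cfsg.classInner (Cfsg.indFun K' θ') I = 0 := by
      rw [hI, Char.frobenius_reciprocity K' θ' _ (Char.indFun_isClassFunction _ _),
        show (fun a : K' => Cfsg.indFun K' θ (a : S)) = (Nat.card W₁ : ℂ) • θ from funext hIres,
        Char.classInner_smul_right, Char.irr_classInner_ne hθ' hθ hne', mul_zero]
    have hI'c : Cfsg.IsCharacter S (Cfsg.indFun K' θ') :=
      Char.isCharacter_indFun _ (Char.irr_isCharacter hθ')
    obtain ⟨k, hk⟩ := Char.classInner_isCharacter_nat hI'c (Char.irr_isCharacter hψ)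
    refine hne ?_
    -- both contain `ψ`
    have hsum : Cfsg.classInner (Cfsg.indFun K' θ') I = ∑ φ : Cfsg.IrrCharacter S,
        Cfsg.classInner (Cfsg.indFun K' θ') (φ : S → ℂ) * conj (Cfsg.classInner I (φ : S → ℂ)) := by
      conv_lhs => rw [Char.classFunction_eq_sum (Char.isCharacter_isClassFunction hIc)]
      rw [Char.classInner_sum_right]
      exact Finset.sum_congr rfl fun φ _ => by rw [Char.classInner_smul_right, mul_comm]
    obtain ⟨f, hf⟩ : ∃ f : Cfsg.IrrCharacter S → ℕ, ∀ φ : Cfsg.IrrCharacter S,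
        Cfsg.classInner (Cfsg.indFun K' θ') (φ : S → ℂ) * conj (Cfsg.classInner I (φ : S → ℂ)) = f φ :=
      ⟨fun φ => (Char.classInner_isCharacter_nat hI'c (Char.irr_isCharacter φ.2)).choose *
          (Char.classInner_isCharacter_nat hIc (Char.irr_isCharacter φ.2)).choose, fun φ => by
        rw [(Char.classInner_isCharacter_nat hI'c (Char.irr_isCharacter φ.2)).choose_spec,
          (Char.classInner_isCharacter_nat hIc (Char.irr_isCharacter φ.2)).choose_spec, map_natCast,
          Nat.cast_mul]⟩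
    rw [Finset.sum_congr rfl fun φ _ => hf φ, hII'] at hsum
    have hz : ∑ φ, f φ = 0 := by exact_mod_cast hsum.symm
    have h0 := (hf ⟨ψ, hψ⟩)
    rw [Finset.sum_eq_zero_iff.mp hz _ (Finset.mem_univ _), Nat.cast_zero, mul_eq_zero,
      map_eq_zero] at h0
    exact h0.resolve_left (by show Cfsg.classInner (Cfsg.indFun K' θ') ψ ≠ 0; rwa [h1])
  have hKK : Cfsg.classInner ψK ψK = (c : ℂ) ^ 2 := by
    have e : ψK = (c : ℂ) • θ := by
      funext a
      rw [Char.classFunction_apply_eq_sum (Char.isCharacter_isClassFunction hψKc),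
        Finset.sum_eq_single (⟨θ, hθ⟩ : Cfsg.IrrCharacter K') (fun θ' _ hne' => ?_)
          (fun hn => absurd (Finset.mem_univ _) hn), Pi.smul_apply, smul_eq_mul]
      · congr 1
        rw [← Char.classInner_conj_symm, show Cfsg.classInner θ ψK = c from hfrob, map_natCast]
      · rw [← Char.classInner_conj_symm, hoth _ θ'.2 (fun e => hne' (Subtype.ext e)), map_zero,
          zero_mul]
    rw [e, Char.classInner_smul_left, Char.classInner_smul_right, Char.irr_classInner_self hθ,
      map_natCast, mul_one, sq]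
  -- orthogonality relations
  have hone := Char.irr_classInner_self hψ
  rw [Char.classInner_def, ← Finset.sum_subset (Finset.subset_univ (Finset.univ.filter (· ∈ K')))
    (fun x _ hx => by
      rw [hv x (fun hm => hx (Finset.mem_filter.mpr ⟨Finset.mem_univ _, hm⟩)), zero_mul]),
    Finset.sum_subtype (p := fun x => x ∈ K') _ (by simp) (fun x => ψ x * conj (ψ x))] at hone
  rw [Char.classInner_def] at hKK
  have hS : (Nat.card S : ℂ) = (Nat.card K' : ℂ) * Nat.card W₁ := by
    rw [← Nat.cast_mul, ← index_K h, Subgroup.card_mul_index]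
  rw [hS, mul_inv, mul_right_comm, hKK] at hone
  have hcq : c ^ 2 = Nat.card W₁ := by
    have hq0 : (Nat.card W₁ : ℂ) ≠ 0 := Nat.cast_ne_zero.mpr hq.ne_zero
    rw [mul_inv_eq_one₀ hq0] at hone
    exact_mod_cast hone
  rw [← hcq] at hq
  exact Nat.Prime.not_prime_pow le_rfl hq

end CfsgLib.PF.Base
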