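import Cfsg.Agent.Lib.PF.Lines13
import Cfsg.Agent.Lib.PF.Chars13
import Cfsg.Agent.Lib.Clifford.SplitAbelian

/-!
# Characters of `P` and the lines, for the coherence of `calS`

`PK S` is `P = S_F` inside `S'`, `UK S U` is `U` there.  In the reducible case a linear character of
`P` is given by its values on the points of the lines, `lineKer i` is what `U` fixes on the `i`-th
line and the stabiliser of a character is the meet of the kernels of the lines of its support.
-/

set_option autoImplicit false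
set_option linter.unusedSectionVars false
set_option maxHeartbeats 1000000

namespace CfsgLib.PF.CalS

open scoped Classical commutatorElement
open CfsgLib.Clifford CfsgLib.PF.S13

universe u

variable {G : Type u} [Group G] {S W₁ W₂ U : Subgroup G}

instance instKS_normal (S : Subgroup G) : (KS S).Normal := by
  rw [show KS S = commutator S by
    rw [commutator_def, KS, Subgroup.subgroupOf, ← Subgroup.map_subtype_commutator,
      Subgroup.comap_map_eq_self_of_injective S.subtype_injective, commutator_def]]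
  infer_instance

/-- `P` inside `S'`. -/
def PK (S : Subgroup G) : Subgroup (KS S) :=
  ((Cfsg.fittingHallOf S).subgroupOf S).subgroupOf (KS S)

/-- `U` inside `S'`. -/
def UK (S U : Subgroup G) : Subgroup (KS S) := (U.subgroupOf S).subgroupOf (KS S)

theorem mem_PK {k : KS S} : k ∈ PK S ↔ ((k : S) : G) ∈ Cfsg.fittingHallOf S := Iff.rfl

theorem mem_UK {k : KS S} : k ∈ UK S U ↔ ((k : S) : G) ∈ U := Iff.rfl

theorem normal_P (x : S) {y : G} (hy : y ∈ Cfsg.fittingHallOf S) :
    (x : G) * y * (x : G)⁻¹ ∈ Cfsg.fittingHallOf S :=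
  (Subgroup.mem_normalizer_iff.mp (OddLocal.le_normalizer_fittingHallOf S x.2) y).mp hy

instance instPK_normal (S : Subgroup G) : (PK S).Normal :=
  ⟨fun _ hy x => normal_P (x : S) hy⟩

/-- Conjugation by an element of `S` on `P`. -/
def conjP (s : S) : PK S →* PK S where
  toFun y := ⟨conjN s (y : KS S), normal_P s y.2⟩
  map_one' := Subtype.ext (Subtype.ext (by simp))
  map_mul' a b := Subtype.ext (Subtype.ext (by simp [mul_assoc]))

theorem coe_conjP (s : S) (y : PK S) : ((conjP s y : KS S) : S) = s * ((y : KS S) : S) * s⁻¹ := rfl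

theorem conjP_coe (k : KS S) (y : PK S) : conjP (k : S) y = conjN k y := rfl

theorem conjP_mul (s t : S) (y : PK S) : conjP (s * t) y = conjP s (conjP t y) :=
  Subtype.ext (Subtype.ext (by simp [coe_conjP, mul_assoc]))

theorem conjP_one (y : PK S) : conjP (1 : S) y = y :=
  Subtype.ext (Subtype.ext (by simp [coe_conjP]))

variable (h : Side S W₁ W₂ U)
include h

theorem isSplit : SplitAbelian.IsSplit (PK S) (UK S U) where
  P_comm x hx y hy := Subtype.ext (Subtype.ext (h.P_comm' (mem_PK.mp hx) (mem_PK.mp hy)))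
  U_comm x hx y hy := Subtype.ext (Subtype.ext (h.U_comm' (mem_UK.mp hx) (mem_UK.mp hy)))
  inf := by
    refine eq_bot_iff.mpr fun k hk => Subgroup.mem_bot.mpr (Subtype.ext (Subtype.ext ?_))
    have : ((k : S) : G) ∈ Cfsg.fittingHallOf S ⊓ U := ⟨mem_PK.mp hk.1, mem_UK.mp hk.2⟩
    rw [h.data.U_compl.2.2.1, Subgroup.mem_bot] at this
    exact this
  exists_mul k := by
    obtain ⟨y, hy, z, hz, e⟩ := h.data.U_compl.2.2.2 _ (Subgroup.mem_subgroupOf.mp k.2)
    exact ⟨⟨⟨y, h.P_le hy⟩, Subgroup.mem_subgroupOf.mpr (h.P_le_derived hy)⟩, hy,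
      ⟨⟨z, h.U_le hz⟩, Subgroup.mem_subgroupOf.mpr (h.U_le_derived hz)⟩, hz,
      Subtype.ext (Subtype.ext e)⟩

theorem card_PK : Nat.card (PK S) = Nat.card (Cfsg.fittingHallOf S) :=
  (Nat.card_congr (Subgroup.subgroupOfEquivOfLe (Subgroup.comap_mono h.P_le_derived)).toEquiv).trans
    (Nat.card_congr (Subgroup.subgroupOfEquivOfLe h.P_le).toEquiv)

theorem card_UK : Nat.card (UK S U) = Nat.card U :=
  (Nat.card_congr (Subgroup.subgroupOfEquivOfLe (Subgroup.comap_mono h.U_le_derived)).toEquiv).trans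
    (Nat.card_congr (Subgroup.subgroupOfEquivOfLe h.U_le).toEquiv)

/-- What centralises `P` in `U` fixes every character of `P`. -/
theorem mem_stab_of_mem_C {k : KS S}
    (hk : ((k : S) : G) ∈ U ⊓ Subgroup.centralizer (Cfsg.fittingHallOf S : Set G))
    (lam : PK S →* ℂˣ) : k ∈ SplitAbelian.stab (UK S U) lam := by
  refine SplitAbelian.mem_stab.mpr ⟨hk.1, fun y => congrArg lam (Subtype.ext ?_)⟩
  refine Subtype.ext (Subtype.ext ?_)
  simp only [Clifford.coe_conjN, Subgroup.coe_mul, InvMemClass.coe_inv]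
  rw [h.C_P_comm hk (mem_PK.mp y.2), mul_inv_cancel_right]

variable [Fintype G] {w e : G} (hl : Lines S W₁ W₂ U w e)
include hl

/-- The point of the `i`-th line. -/
def pt (i : ℕ) : PK S :=
  ⟨⟨⟨w ^ i * e * (w ^ i)⁻¹, h.P_le (h.line_conj_mem hl i)⟩,
    Subgroup.mem_subgroupOf.mpr (h.P_le_derived (h.line_conj_mem hl i))⟩, h.line_conj_mem hl i⟩

theorem coe_pt (i : ℕ) : (((pt h hl i : KS S) : S) : G) = w ^ i * e * (w ^ i)⁻¹ := rfl

theorem pt_mod (i : ℕ) : pt h hl (i % Nat.card W₁) = pt h hl i := by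
  refine Subtype.ext (Subtype.ext (Subtype.ext ?_))
  simp only [coe_pt]
  have hw : w ^ (i % Nat.card W₁) = w ^ i := by rw [← h.orderOf_w hl, pow_mod_orderOf]
  rw [hw]

theorem pt_pow_p (i : ℕ) : pt h hl i ^ Nat.card W₂ = 1 :=
  Subtype.ext (Subtype.ext (Subtype.ext (by
    simp only [Subgroup.coe_pow, Subgroup.coe_one, coe_pt]
    exact h.elementary.2 _ (h.line_conj_mem hl i))))

theorem lam_pt_pow (lam : PK S →* ℂˣ) (i : ℕ) : lam (pt h hl i) ^ Nat.card W₂ = 1 := by
  rw [← map_pow, pt_pow_p, map_one]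

/-- A character of `P` is given by its values at the points. -/
theorem lam_ext {lam lam' : PK S →* ℂˣ}
    (he : ∀ i < Nat.card W₁, lam (pt h hl i) = lam' (pt h hl i)) : lam = lam' := by
  set N : Subgroup G :=
    ((MonoidHom.eqLocus lam lam').map (S.subtype.comp ((KS S).subtype.comp (PK S).subtype))) with hN
  have hle := hl.gen N fun i hi => ⟨pt h hl i, he i hi, rfl⟩
  refine MonoidHom.ext fun y => ?_
  obtain ⟨y', hy', e'⟩ := hle (mem_PK.mp y.2)
  have : y' = y := Subtype.ext (Subtype.ext (Subtype.ext e'))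
  exact this ▸ hy'

/-- The values at the points are arbitrary. -/
theorem exists_lam (v : ℕ → ℂˣ) (hv : ∀ i, v i ^ Nat.card W₂ = 1) :
    ∃ lam : PK S →* ℂˣ, ∀ i < Nat.card W₁, lam (pt h hl i) = v i := by
  have := NeZero.of_pos (Nat.card_pos (α := W₂))
  have := finite_hom_of_group (PK S)
  let f : (PK S →* ℂˣ) → (Fin (Nat.card W₁) → rootsOfUnity (Nat.card W₂) ℂ) := fun lam i =>
    ⟨lam (pt h hl i), (mem_rootsOfUnity _ _).mpr (lam_pt_pow h hl lam i)⟩
  have hf : Function.Injective f := fun a b hab =>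
    lam_ext h hl fun i hi => congrArg Subtype.val (congrFun hab ⟨i, hi⟩)
  have hcomm : commutator (PK S) = ⊥ := by
    rw [commutator_def, Subgroup.commutator_eq_bot_iff_le_centralizer]
    exact fun a _ => Subgroup.mem_centralizer_iff.mpr fun b _ =>
      Subtype.ext ((isSplit h).P_comm _ b.2 _ a.2)
  have hcard : Nat.card (PK S →* ℂˣ) =
      Nat.card (Fin (Nat.card W₁) → rootsOfUnity (Nat.card W₂) ℂ) := by
    rw [Char.natCard_linear, hcomm, Subgroup.index_bot, card_PK h, h.card_P, Nat.card_pi,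
      Finset.prod_const, Finset.card_univ, Fintype.card_fin, Nat.card_eq_fintype_card,
      Complex.card_rootsOfUnity]
  obtain ⟨lam, hlam⟩ := (hf.bijective_of_nat_card_le hcard.ge).2
    fun i => ⟨v i, (mem_rootsOfUnity _ _).mpr (hv i)⟩
  exact ⟨lam, fun i hi => congrArg Subtype.val (congrFun hlam ⟨i, hi⟩)⟩

/-- An element of `S` permutes the lines cyclically, and fixes them only inside `S'`. -/
theorem conj_pt (s : S) : ∃ j, (j % Nat.card W₁ = 0 → s ∈ KS S) ∧
    ∀ i, ∃ k : ℕ, ¬ Nat.card W₂ ∣ k ∧ conjP s (pt h hl i) = pt h hl (j + i) ^ k := by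
  obtain ⟨x, hx, b, hb, v, hv, hs⟩ := h.exists_mul s.2
  have : Fact (Nat.card W₁).Prime := ⟨h.q_prime⟩
  have hz : (⟨v, hv⟩ : W₁) ∈ Subgroup.zpowers (⟨w, hl.mem_w⟩ : W₁) :=
    mem_zpowers_of_prime_card rfl (fun e => hl.w_ne (congrArg Subtype.val e))
  rw [← mem_powers_iff_mem_zpowers] at hz
  obtain ⟨j, hj⟩ := hz
  have hvj : v = w ^ j := by simpa using (congrArg Subtype.val hj).symm
  refine ⟨j, fun hj0 => Subgroup.mem_subgroupOf.mpr ?_, fun i => ?_⟩
  · have : w ^ j = 1 := by rw [← pow_mod_orderOf, h.orderOf_w hl, hj0, pow_zero]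
    rw [hs, hvj, this, mul_one]
    exact Subgroup.mul_mem _ (h.P_le_derived hx) (h.U_le_derived hb)
  · have : Fact (Nat.card W₂).Prime := ⟨h.p_prime⟩
    set n := h.eigenAt hl (j + i) ⟨b, hb⟩ with hn
    refine ⟨(n : ZMod (Nat.card W₂)).val, fun hd => ?_, Subtype.ext (Subtype.ext (Subtype.ext ?_))⟩
    · exact n.ne_zero (by
        rw [← ZMod.natCast_zmod_val (n : ZMod (Nat.card W₂))]
        exact (ZMod.natCast_eq_zero_iff _ _).mpr hd)
    · simp only [coe_conjP, Subgroup.coe_mul, InvMemClass.coe_inv, Subgroup.coe_pow, coe_pt, hs]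
      rw [hvj, ← h.eigenAt_spec hl (j + i) ⟨b, hb⟩, pow_add]
      have hc := h.P_comm' hx
        (h.conj_P (h.U_le hb) (h.line_conj_mem hl (j + i)))
      rw [pow_add] at hc
      calc x * b * w ^ j * (w ^ i * e * (w ^ i)⁻¹) * (x * b * w ^ j)⁻¹
          = x * (b * (w ^ j * w ^ i * e * (w ^ j * w ^ i)⁻¹) * b⁻¹) * x⁻¹ := by group
        _ = _ := by rw [hc, mul_inv_cancel_right]

theorem lam_pow_eq_one_iff (lam : PK S →* ℂˣ) (i : ℕ) {k : ℕ} (hk : ¬ Nat.card W₂ ∣ k) :
    lam (pt h hl i ^ k) = 1 ↔ lam (pt h hl i) = 1 := by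
  refine ⟨fun e1 => ?_, fun e1 => by rw [map_pow, e1, one_pow]⟩
  rw [map_pow] at e1
  have := pow_gcd_eq_one.mpr ⟨lam_pt_pow h hl lam i, e1⟩
  rwa [(h.p_prime.coprime_iff_not_dvd.mpr hk).gcd_eq_one, pow_one] at this

/-- The support of a conjugate character. -/
theorem supp_conj (s : S) : ∃ j, (j % Nat.card W₁ = 0 → s ∈ KS S) ∧
    ∀ (lam : PK S →* ℂˣ) (i : ℕ),
      lam (conjP s (pt h hl i)) = 1 ↔ lam (pt h hl (j + i)) = 1 := by
  obtain ⟨j, hj, hk⟩ := conj_pt h hl s
  refine ⟨j, hj, fun lam i => ?_⟩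
  obtain ⟨k, hk1, hk2⟩ := hk i
  rw [hk2, lam_pow_eq_one_iff h hl lam (j + i) hk1]

/-! ### The kernels of the lines -/

/-- What `U` fixes on the `i`-th line. -/
noncomputable def lineKer (i : ℕ) : Subgroup (KS S) :=
  (((h.eigenAt hl i).ker.map U.subtype).subgroupOf S).subgroupOf (KS S)

theorem mem_lineKer {i : ℕ} {k : KS S} :
    k ∈ lineKer h hl i ↔ ∃ hz : ((k : S) : G) ∈ U, h.eigenAt hl i ⟨_, hz⟩ = 1 := by
  constructor
  · rintro ⟨z, hz, ez⟩
    change (z : G) = ((k : S) : G) at ez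
    exact ⟨ez ▸ z.2, by rw [show (⟨((k : S) : G), _⟩ : U) = z from Subtype.ext ez.symm]; exact hz⟩
  · rintro ⟨hz, e1⟩
    exact ⟨⟨_, hz⟩, e1, rfl⟩

theorem lineKer_le (i : ℕ) : lineKer h hl i ≤ UK S U := fun k hk => (mem_lineKer h hl).mp hk |>.1

theorem eigenAt_mod (i : ℕ) : h.eigenAt hl (i % Nat.card W₁) = h.eigenAt hl i := by
  refine MonoidHom.ext fun z => congrArg (h.eigen hl) (Subtype.ext ?_)
  show (w ^ (i % Nat.card W₁))⁻¹ * z * w ^ (i % Nat.card W₁) = (w ^ i)⁻¹ * z * w ^ i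
  rw [← h.orderOf_w hl, pow_mod_orderOf]

/-- The stabiliser of a character. -/
theorem mem_stab_iff {lam : PK S →* ℂˣ} {k : KS S} :
    k ∈ SplitAbelian.stab (UK S U) lam ↔
      k ∈ UK S U ∧ ∀ i < Nat.card W₁, lam (pt h hl i) ≠ 1 → k ∈ lineKer h hl i := by
  rw [SplitAbelian.mem_stab]
  have : Fact (Nat.card W₂).Prime := ⟨h.p_prime⟩
  have hpt : ∀ (hk : ((k : S) : G) ∈ U) (i : ℕ), conjN k (pt h hl i) =
      pt h hl i ^ ((h.eigenAt hl i ⟨((k : S) : G), hk⟩ : (ZMod (Nat.card W₂))ˣ) : ZMod (Nat.card W₂)).val := by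
    intro hk i
    refine Subtype.ext (Subtype.ext (Subtype.ext ?_))
    simp only [Clifford.coe_conjN, Subgroup.coe_mul, InvMemClass.coe_inv, Subgroup.coe_pow, coe_pt]
    exact h.eigenAt_spec hl i ⟨_, hk⟩
  constructor
  · rintro ⟨hk, hall⟩
    refine ⟨hk, fun i _ hne => (mem_lineKer h hl).mpr ⟨hk, ?_⟩⟩
    have e1 := hall (pt h hl i)
    rw [hpt hk i, map_pow] at e1
    set n := ((h.eigenAt hl i ⟨((k : S) : G), hk⟩ : (ZMod (Nat.card W₂))ˣ) : ZMod (Nat.card W₂)) with hn
    have hord : orderOf (lam (pt h hl i)) = Nat.card W₂ :=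
      orderOf_eq_prime (lam_pt_pow h hl lam i) hne
    have hm : n.val ≡ 1 [MOD Nat.card W₂] := by
      have := pow_eq_pow_iff_modEq.mp (e1.trans (pow_one _).symm)
      rwa [hord] at this
    refine Units.ext ?_
    rw [← hn, Units.val_one, ← ZMod.natCast_zmod_val n, (ZMod.natCast_eq_natCast_iff _ _ _).mpr hm,
      Nat.cast_one]
  · rintro ⟨hk, hall⟩
    refine ⟨hk, fun y => ?_⟩
    refine DFunLike.congr_fun (f := lam.comp
      { toFun := fun y : PK S => conjN k y
        map_one' := Subtype.ext (by simp)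
        map_mul' := fun a b => Subtype.ext (by simp [mul_assoc]) }) (g := lam)
      (lam_ext h hl fun i hi => ?_) y
    show lam (conjN k (pt h hl i)) = lam (pt h hl i)
    rw [hpt hk i, map_pow]
    by_cases hne : lam (pt h hl i) = 1
    · rw [hne, one_pow]
    · obtain ⟨hk', e1⟩ := (mem_lineKer h hl).mp (hall i hi hne)
      rw [e1, Units.val_one, ZMod.val_one, pow_one]

/-- The index of a kernel. -/
noncomputable def lineIndex : ℕ := (h.eigen hl).ker.index

theorem relIndex_lineKer (i : ℕ) : (lineKer h hl i).relIndex (UK S U) = lineIndex h hl := by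
  have hker : (h.eigenAt hl i).ker.index = lineIndex h hl := by
    rw [lineIndex, S13.Side.eigenAt, ← MonoidHom.comap_ker]
    refine Subgroup.index_comap_of_surjective _ fun z => ?_
    exact ⟨⟨w ^ i * z * (w ^ i)⁻¹, h.conj_U (W₁.pow_mem hl.mem_w i) z.2⟩,
      Subtype.ext (by simp [mul_assoc])⟩
  have e1 : Nat.card (lineKer h hl i) = Nat.card (h.eigenAt hl i).ker := by
    have hle : (h.eigenAt hl i).ker.map U.subtype ≤ U := Subgroup.map_subtype_le _
    have hle' : ((h.eigenAt hl i).ker.map U.subtype).subgroupOf S ≤ KS S := fun k hk =>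
      Subgroup.mem_subgroupOf.mpr (h.U_le_derived (hle (Subgroup.mem_subgroupOf.mp hk)))
    rw [lineKer, Nat.card_congr (Subgroup.subgroupOfEquivOfLe hle').toEquiv,
      Nat.card_congr (Subgroup.subgroupOfEquivOfLe (hle.trans h.U_le)).toEquiv,
      Subgroup.card_map_of_injective U.subtype_injective]
  have e2 := CfsgLib.Coprime.card_mul_relIndex (lineKer_le h hl i)
  rw [card_UK h, e1, ← Subgroup.card_mul_index (h.eigenAt hl i).ker, hker] at e2
  exact Nat.eq_of_mul_eq_mul_left Nat.card_pos e2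

theorem lineIndex_dvd : lineIndex h hl ∣ Nat.card W₂ - 1 := by
  have : Fact (Nat.card W₂).Prime := ⟨h.p_prime⟩
  rw [lineIndex, Subgroup.index_ker, ← ZMod.card_units (Nat.card W₂), ← Nat.card_eq_fintype_card]
  exact Subgroup.card_subgroup_dvd_card _

theorem lineIndex_odd : Odd (lineIndex h hl) :=
  h.odd.of_dvd_nat ((Subgroup.index_dvd_card _).trans (Subgroup.card_subgroup_dvd_card U))

theorem two_mul_lineIndex_le : 2 * lineIndex h hl ≤ Nat.card W₂ - 1 := by
  have hd : 2 * lineIndex h hl ∣ Nat.card W₂ - 1 := by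
    refine Nat.Coprime.mul_dvd_of_dvd_of_dvd (Nat.coprime_two_left.mpr (lineIndex_odd h hl)) ?_
      (lineIndex_dvd h hl)
    exact (Nat.Prime.even_sub_one h.p_prime h.two_lt_p.ne').two_dvd
  exact Nat.le_of_dvd (by have := h.two_lt_p; omega) hd

theorem one_lt_lineIndex : 1 < lineIndex h hl := by
  refine Nat.lt_of_le_of_ne (Nat.one_le_iff_ne_zero.mpr Subgroup.index_ne_zero_of_finite) ?_
  intro e1
  refine h.not_centralizes fun z hz => ((h.eigenAt_one_imp hl (z := ⟨z, hz⟩)) fun i _ => ?_).2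
  have htop : (h.eigen hl).ker = ⊤ := Subgroup.index_eq_one.mp e1.symm
  refine (MonoidHom.mem_ker (f := h.eigen hl)).mp ?_
  rw [htop]
  trivial

end CfsgLib.PF.CalS
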