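import Cfsg.Agent.Lib.PF.Base.CalSMassSupport

/-!
# The critical case of the coherence of `calS`

In the case `p - 1 = 2a`, `C = 1`, with regular orbits off the lines: a virtual character `x` of norm
one of `G` whose coefficients are `m + [χ = χ₁]` on the members of degree `q a` and `t m + 1` on the
others has too much mass on the TI set `A₀(S)`, unless `u = a`.
-/

set_option autoImplicit false
set_option linter.unusedSectionVars false
set_option maxHeartbeats 1000000

namespace CfsgLib.PF.CalS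

open scoped Classical ComplexConjugate commutatorElement
open CfsgLib.Clifford CfsgLib.PF.S13

universe u

variable {G : Type u} [Group G] [Fintype G] {S W₁ W₂ U : Subgroup G} [Fintype S] [Fintype (KS S)]
  (h : Side S W₁ W₂ U)
include h

variable {w e : G} (hl : Lines S W₁ W₂ U w e)
include hl

/-- The cyclic shift of the lines. -/
theorem conjP_pt (i k : ℕ) :
    conjP (⟨w ^ i, h.W₁_le (W₁.pow_mem hl.mem_w i)⟩ : S) (pt h hl k) = pt h hl (i + k) := by
  refine Subtype.ext (Subtype.ext (Subtype.ext ?_))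
  simp only [coe_conjP, Subgroup.coe_mul, InvMemClass.coe_inv, coe_pt, pow_add]
  group

theorem card_single :
    Nat.card {lam : PK S →* ℂˣ // Single h hl lam} = Nat.card W₂ - 1 := by
  have := NeZero.of_pos (Nat.card_pos (α := W₂))
  have := Fintype.ofFinite (rootsOfUnity (Nat.card W₂) ℂ)
  have := Fintype.ofFinite {ζ : rootsOfUnity (Nat.card W₂) ℂ // ζ ≠ 1}
  let f : {lam : PK S →* ℂˣ // Single h hl lam} → {ζ : rootsOfUnity (Nat.card W₂) ℂ // ζ ≠ 1} :=
    fun l => ⟨⟨l.1 (pt h hl 0), (mem_rootsOfUnity _ _).mpr (lam_pt_pow h hl l.1 0)⟩,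
      fun e1 => l.2.1 (congrArg Subtype.val e1)⟩
  have hf : Function.Bijective f := by
    refine ⟨fun a b hab => Subtype.ext (lam_ext h hl fun i hi => ?_), fun ζ => ?_⟩
    · rcases eq_or_ne i 0 with rfl | h0
      · exact congrArg (fun z : {ζ : rootsOfUnity (Nat.card W₂) ℂ // ζ ≠ 1} => (z.1 : ℂˣ)) hab
      · exact (a.2.2 i hi h0).trans (b.2.2 i hi h0).symm
    · obtain ⟨lam, hlam⟩ := exists_lam h hl (fun i => if i = 0 then (ζ.1 : ℂˣ) else 1) fun i => by
        split_ifs
        · exact (mem_rootsOfUnity _ _).mp ζ.1.2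
        · exact one_pow _
      have h0 : lam (pt h hl 0) = (ζ.1 : ℂˣ) := by rw [hlam 0 Nat.card_pos, if_pos rfl]
      refine ⟨⟨lam, ?_, fun i hi hi0 => by rw [hlam i hi, if_neg hi0]⟩, Subtype.ext (Subtype.ext h0)⟩
      rw [h0]
      exact fun e1 => ζ.2 (Subtype.ext e1)
  rw [Nat.card_eq_of_bijective f hf,
    Nat.card_eq_fintype_card (α := {ζ : rootsOfUnity (Nat.card W₂) ℂ // ζ ≠ 1}),
    Fintype.card_subtype_compl, Fintype.card_subtype_eq, ← Nat.card_eq_fintype_card,
    Complex.card_rootsOfUnity]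

/-- The kernels of two lines meeting trivially, a character fixed by a non-identity element of the
first kernel is trivial or supported by the first line. -/
theorem single_or (hdisj : ∀ i < Nat.card W₁, ∀ j < Nat.card W₁, i ≠ j →
      lineKer h hl i ⊓ lineKer h hl j = ⊥)
    {lam : PK S →* ℂˣ} {z : KS S} (hz : z ∈ lineKer h hl 0) (hz1 : z ≠ 1)
    (hs : z ∈ SplitAbelian.stab (UK S U) lam) : lam = 1 ∨ Single h hl lam := by
  have key : ∀ i < Nat.card W₁, i ≠ 0 → lam (pt h hl i) = 1 := fun i hi hi0 => by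
    by_contra hne
    exact hz1 (Subgroup.mem_bot.mp ((hdisj i hi 0 Nat.card_pos hi0) ▸
      ⟨((mem_stab_iff h hl).mp hs).2 i hi hne, hz⟩))
  by_cases h0 : lam (pt h hl 0) = 1
  · refine Or.inl (lam_ext h hl fun i hi => ?_)
    rcases eq_or_ne i 0 with rfl | hi0
    · exact h0
    · exact key i hi hi0
  · exact Or.inr ⟨h0, key⟩

theorem critical_false {μ : (↥(W₁ ⊔ W₂) →* ℂˣ) → (S → ℂ)} {δ : (↥(W₁ ⊔ W₂) →* ℂˣ) → ℂ}
    (he : Exc S W₁ W₂ μ δ) (hp : Nat.card W₂ - 1 = 2 * lineIndex h hl) {t : ℕ} (ht : 1 < t)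
    (hU : Nat.card U = lineIndex h hl * t)
    (hdisj : ∀ i < Nat.card W₁, ∀ j < Nat.card W₁, i ≠ j → lineKer h hl i ⊓ lineKer h hl j = ⊥)
    {x : G → ℂ} (hx : Cfsg.IsGeneralizedCharacter G x) (hxx : Cfsg.classInner x x = 1)
    {lam₁ : PK S →* ℂˣ} (hs₁ : Single h hl lam₁) (ψ₁ : lineKer h hl 0 →* ℂˣ) (m : ℤ)
    (hsingle : ∀ lam, ∀ hs : Single h hl lam, ∀ ψ : lineKer h hl 0 →* ℂˣ,
      Cfsg.classInner (fun s : S => x s) (memb h (Single.stab h hl hs) ψ) =
        (m : ℂ) + if memb h (Single.stab h hl hs) ψ = memb h (Single.stab h hl hs₁) ψ₁ then 1 else 0)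
    (hregular : ∀ lam : PK S →* ℂˣ, lam ≠ 1 → ∀ hV : ⊥ = SplitAbelian.stab (UK S U) lam,
      Cfsg.classInner (fun s : S => x s) (memb h hV 1) = ((t : ℤ) * m + 1 : ℤ)) : False := by
  have := Fintype.ofFinite (PK S)
  have := Fintype.ofFinite (lineKer h hl 0)
  have := Fintype.ofFinite ↥(PK S ⊔ lineKer h hl 0)
  have := finite_hom_of_group (PK S)
  have := Fintype.ofFinite (PK S →* ℂˣ)
  have := finite_hom_of_group (lineKer h hl 0)
  have := Fintype.ofFinite (lineKer h hl 0 →* ℂˣ)
  set a := lineIndex h hl with ha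
  have hsp := isSplit h
  have hKU : (lineKer h hl 0) ≤ UK S U := lineKer_le h hl 0
  have hcardK : Nat.card (lineKer h hl 0) = t := by
    have e1 := CfsgLib.Coprime.card_mul_relIndex hKU
    rw [relIndex_lineKer, card_UK h, hU, mul_comm] at e1
    exact Nat.eq_of_mul_eq_mul_left (Nat.pos_of_ne_zero Subgroup.index_ne_zero_of_finite) e1
  have hcommP : ∀ y z : PK S, y * z = z * y := fun y z => Subtype.ext (hsp.P_comm _ y.2 _ z.2)
  have hcommK : ∀ y z : (lineKer h hl 0), y * z = z * y := fun y z =>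
    Subtype.ext (hsp.U_comm _ (hKU y.2) _ (hKU z.2))
  set y : KS S → ℂ := fun k => x ((k : S) : G) with hy
  have hygen : Cfsg.IsGeneralizedCharacter (KS S) y :=
    isGeneralized_res hx (S.subtype.comp (KS S).subtype)
  have hycl := Char.isGeneralized_isClassFunction hygen
  have hfrob : ∀ {V : Subgroup (KS S)} {lam : PK S →* ℂˣ}
      (hV : V = SplitAbelian.stab (UK S U) lam) (ψ : V →* ℂˣ),
      Cfsg.classInner y (theta h hV ψ) = Cfsg.classInner (fun s : S => x s) (memb h hV ψ) := by
    intro V lam hV ψ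
    rw [← Char.classInner_conj_symm (theta h hV ψ) y, ← Char.classInner_conj_symm (memb h hV ψ),
      memb, Char.frobenius_reciprocity _ _ (fun s : S => x s)
        (Char.isGeneralized_isClassFunction (isGeneralized_res hx S.subtype))]
  set θ₁ := theta h (Single.stab h hl hs₁) ψ₁ with hθ₁
  have hθ₁irr : Cfsg.IsIrrCharacter (KS S) θ₁ := theta_irr h _ ψ₁
  set g : (PK S →* ℂˣ) → KS S → ℂ := fun lam z => coef (SplitAbelian.slice θ₁ z) lam with hg
  -- on the first line
  have hline : ∀ lam, Single h hl lam → ∀ z : (lineKer h hl 0),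
      coef (SplitAbelian.slice y z) lam =
        (if z = 1 then ((t : ℤ) * m : ℤ) else 0 : ℂ) + g lam z := by
    intro lam hs z
    have hVe := Single.stab h hl hs
    rw [hg]
    simp only
    rw [SplitAbelian.coef_slice_eq_sum hsp hKU hycl hVe.le z,
      SplitAbelian.coef_slice_eq_sum hsp hKU (Char.irr_isClassFunction hθ₁irr) hVe.le z]
    have e1 : (if z = 1 then ((t : ℤ) * m : ℤ) else 0 : ℂ) =
        ∑ ψ : (lineKer h hl 0) →* ℂˣ, (m : ℂ) * (ψ z : ℂ) := by
      rw [← Finset.mul_sum, sum_linear_eq hcommK, hcardK]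
      split_ifs <;> push_cast <;> ring
    rw [e1, ← Finset.sum_add_distrib]
    refine Finset.sum_congr rfl fun ψ _ => ?_
    rw [← add_mul]
    congr 1
    refine ((hfrob hVe ψ).trans (hsingle lam hs ψ)).trans ?_
    congr 1
    change _ = Cfsg.classInner θ₁ (theta h hVe ψ)
    rw [Char.irr_classInner hθ₁irr (theta_irr h hVe ψ)]
    refine if_congr ⟨fun e1 => ?_, fun e1 => ?_⟩ rfl rfl
    · obtain ⟨s, s', hst, hts, ht'⟩ := memb_eq h (Single.stab h hl hs₁) hVe e1.symm
      have hsK := hts (single_mem_KS h hl hs₁ hs ht')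
      exact (funext fun k => (hst k).symm.trans (congrFun (mem_inertia_iff_conjFn.mp
        (le_inertia (Char.irr_isClassFunction (theta_irr h hVe ψ)) hsK)) k))
    · exact congrArg (Cfsg.indFun (KS S)) e1.symm
  -- the special characters
  have hg01 : ∀ lam, (g lam 1 = 0 ∧ (Single h hl lam → ∀ z : (lineKer h hl 0), g lam z = 0)) ∨
      (Single h hl lam ∧ g lam 1 = 1 ∧ ∀ z : (lineKer h hl 0), ‖g lam z‖ = 1) := by
    intro lam
    by_cases h0 : g lam 1 = 0
    · refine Or.inl ⟨h0, fun hs z => ?_⟩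
      have hVe := Single.stab h hl hs
      rw [hg]
      simp only
      rw [SplitAbelian.coef_slice_eq_sum hsp hKU (Char.irr_isClassFunction hθ₁irr) hVe.le z]
      refine Finset.sum_eq_zero fun ψ _ => ?_
      change Cfsg.classInner θ₁ (theta h hVe ψ) * _ = 0
      rw [Char.irr_classInner_ne hθ₁irr (theta_irr h hVe ψ) fun e1 => ?_, zero_mul]
      refine one_ne_zero (α := ℂ) ?_
      rw [← h0, ← coef_theta h hVe ψ, hg]
      simp only
      rw [e1]
      congr 1
      funext u
      simp [SplitAbelian.slice]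
    · right
      have hne : coef (fun u : PK S => θ₁ u) lam ≠ 0 := by
        have e1 : SplitAbelian.slice θ₁ (1 : KS S) = fun u : PK S => θ₁ u :=
          funext fun u => by simp [SplitAbelian.slice]
        rw [← e1]
        exact h0
      obtain ⟨v, hv, hvv⟩ := SplitAbelian.exists_conj hsp hθ₁irr
        (by rw [coef_theta]; exact one_ne_zero) hne
      have hst : ∀ z ∈ (lineKer h hl 0), z ∈ SplitAbelian.stab (UK S U) lam := by
        intro z hz
        refine SplitAbelian.mem_stab.mpr ⟨hKU hz, fun u => ?_⟩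
        rw [← hvv, ← hvv, ← Clifford.conjN_mul, hsp.U_comm v hv z (hKU hz), Clifford.conjN_mul]
        exact (SplitAbelian.mem_stab.mp ((Single.stab h hl hs₁).le hz)).2 _
      have hs : Single h hl lam := by
        obtain ⟨z, hz, hz1⟩ := (Subgroup.bot_or_exists_ne_one (lineKer h hl 0)).resolve_left fun e1 => by
          rw [← Subgroup.card_eq_one, hcardK] at e1
          omega
        refine (single_or h hl hdisj hz hz1 (hst z hz)).resolve_left fun e1 => hs₁.1 ?_
        have e2 := hvv (conjN v⁻¹ (pt h hl 0))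
        rw [← Clifford.conjN_mul, mul_inv_cancel, Clifford.conjN_one, e1] at e2
        exact e2
      have hVe := Single.stab h hl hs
      obtain ⟨ψ, hψ⟩ : ∃ ψ : (lineKer h hl 0) →* ℂˣ, θ₁ = theta h hVe ψ := by
        have key : ∀ (V : Subgroup (KS S)) (hV : V = SplitAbelian.stab (UK S U) lam),
            ∃ ψ : V →* ℂˣ, θ₁ = theta h hV ψ := by
          rintro V rfl
          exact SplitAbelian.exists_eq_ind hsp hθ₁irr hne
        exact key _ hVe
      have hval : ∀ z : (lineKer h hl 0), g lam z = (ψ z : ℂ) := fun z => by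
        rw [hg]
        simp only
        rw [hψ]
        exact SplitAbelian.coef_ind_self hsp hKU hVe ψ z
      refine ⟨hs, by simpa using hval 1, fun z => ?_⟩
      rw [hval]
      refine Complex.norm_eq_one_of_pow_eq_one (n := Nat.card (lineKer h hl 0)) ?_ Nat.card_pos.ne'
      rw [← Units.val_pow_eq_pow_val, ← map_pow, pow_card_eq_one', map_one, Units.val_one]
  set Sp : Finset (PK S →* ℂˣ) := Finset.univ.filter fun lam => g lam 1 ≠ 0 with hSp
  have hSpS : ∀ lam ∈ Sp, Single h hl lam ∧ g lam 1 = 1 ∧ ∀ z : (lineKer h hl 0), ‖g lam z‖ = 1 := fun lam hlam =>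
    (hg01 lam).resolve_left fun h0 => (Finset.mem_filter.mp hlam).2 h0.1
  have hSpcard : Sp.card = a := by
    have e1 := apply_eq_sum_coef hcommP (SplitAbelian.slice θ₁ (1 : KS S)) 1
    simp only [map_one, Units.val_one, mul_one] at e1
    rw [SplitAbelian.slice, OneMemClass.coe_one, mul_one, hθ₁, theta_one, relIndex_lineKer] at e1
    have e2 : (a : ℂ) = ∑ lam : PK S →* ℂˣ, g lam 1 := e1
    rw [← Finset.sum_filter_ne_zero, ← hSp, Finset.sum_congr rfl fun lam hlam => (hSpS lam hlam).2.1,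
      Finset.sum_const, nsmul_eq_mul, mul_one] at e2
    exact_mod_cast e2.symm
  -- the coefficients on `P`
  set M : (PK S →* ℂˣ) → ℂ := fun lam => coef (fun u : PK S => y u) lam with hM
  have hslice1 : SplitAbelian.slice y ((1 : (lineKer h hl 0)) : KS S) = fun u : PK S => y u :=
    funext fun u => by simp [SplitAbelian.slice]
  have hMconj : ∀ (s : S) lam, M (lam.comp (conjP s)) = M lam := by
    intro s lam
    simp only [hM, coef, Char.classInner_def]
    congr 1
    refine Fintype.sum_bijective (conjP s) ⟨fun b c hbc => ?_, fun b => ⟨conjP s⁻¹ b, ?_⟩⟩ _ _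
      fun u => ?_
    · have := congrArg (conjP s⁻¹) hbc
      rwa [← conjP_mul, ← conjP_mul, inv_mul_cancel, conjP_one, conjP_one] at this
    · rw [← conjP_mul, mul_inv_cancel, conjP_one]
    · rw [MonoidHom.comp_apply]
      congr 1
      simp only [hy, coe_conjP, Subgroup.coe_mul, InvMemClass.coe_inv]
      exact (Char.isGeneralized_isClassFunction hx _ _).symm
  set NS : Finset (PK S →* ℂˣ) := Finset.univ.filter fun lam => Single h hl lam ∧ lam ∉ Sp with hNS
  have hNScard : NS.card = a := by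
    have e1 : (Finset.univ.filter fun lam : PK S →* ℂˣ => Single h hl lam).card = 2 * a := by
      rw [← Fintype.card_subtype, ← Nat.card_eq_fintype_card, card_single, hp]
    rw [show (Finset.univ.filter fun lam : PK S →* ℂˣ => Single h hl lam) = Sp ∪ NS from
        Finset.ext fun lam => by
          simp only [hNS, Finset.mem_union, Finset.mem_filter, Finset.mem_univ, true_and]
          exact ⟨fun hs => (em (lam ∈ Sp)).imp id fun hn => ⟨hs, hn⟩,
            fun hh => hh.elim (fun hm => (hSpS lam hm).1) And.left⟩,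
      Finset.card_union_of_disjoint (Finset.disjoint_left.mpr fun lam h1 h2 =>
        (Finset.mem_filter.mp h2).2.2 h1), hSpcard] at e1
    omega
  let sh : ℕ → S := fun i => ⟨w ^ i, h.W₁_le (W₁.pow_mem hl.mem_w i)⟩
  set NSA : Finset (PK S →* ℂˣ) :=
    (Finset.range (Nat.card W₁) ×ˢ NS).image fun p => p.2.comp (conjP (sh p.1)⁻¹) with hNSA
  have hback : ∀ (i : ℕ) (lam : PK S →* ℂˣ),
      (lam.comp (conjP (sh i)⁻¹)).comp (conjP (sh i)) = lam := fun i lam =>
    MonoidHom.ext fun u => by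
      simp only [MonoidHom.comp_apply, ← conjP_mul, inv_mul_cancel, conjP_one]
  have hpti : ∀ (i k : ℕ) (lam : PK S →* ℂˣ),
      (lam.comp (conjP (sh i))) (pt h hl k) = lam (pt h hl (i + k)) := fun i k lam => by
    rw [MonoidHom.comp_apply, conjP_pt]
  have huniq : ∀ {i j : ℕ} {lam : PK S →* ℂˣ}, i < Nat.card W₁ → j < Nat.card W₁ →
      Single h hl (lam.comp (conjP (sh i))) → Single h hl (lam.comp (conjP (sh j))) → i = j := by
    intro i j lam hi hj h1 h2
    have hne := h1.1
    rw [hpti, add_zero] at hne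
    have h3 := (Single.iff h hl h2 (i + (Nat.card W₁ - j))).mp (by
      rw [hpti, ← pt_mod h hl, show (j + (i + (Nat.card W₁ - j))) % Nat.card W₁ = i from ?_]
      · exact hne
      · rw [show j + (i + (Nat.card W₁ - j)) = i + Nat.card W₁ by omega, Nat.add_mod_right,
          Nat.mod_eq_of_lt hi])
    rcases Nat.lt_or_ge i j with hlt | hge
    · rw [Nat.mod_eq_of_lt (by omega)] at h3; omega
    · rw [show i + (Nat.card W₁ - j) = (i - j) + Nat.card W₁ by omega, Nat.add_mod_right,
        Nat.mod_eq_of_lt (by omega)] at h3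
      omega
  have hNSAcard : NSA.card = Nat.card W₁ * a := by
    rw [hNSA, Finset.card_image_of_injOn, Finset.card_product, Finset.card_range, hNScard]
    rintro ⟨i, l⟩ hil ⟨j, l'⟩ hjl hij
    simp only [Finset.coe_product, Set.mem_prod, Finset.mem_coe, Finset.mem_range] at hil hjl
    have e1 : i = j := huniq (lam := l.comp (conjP (sh i)⁻¹)) hil.1 hjl.1
      (by rw [hback]; exact (Finset.mem_filter.mp hil.2).2.1)
      (by dsimp only at hij; rw [hij, hback]; exact (Finset.mem_filter.mp hjl.2).2.1)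
    subst e1
    have e2 := congrArg (fun l : PK S →* ℂˣ => l.comp (conjP (sh i))) hij
    simp only [hback] at e2
    rw [e2]
  set c : ℤ := t * m + 1 with hc
  obtain ⟨n₁, hn₁⟩ : ∃ n : ℤ, M 1 = n := by
    refine Char.classInner_isGeneralized_int (isGeneralized_res hygen (PK S).subtype) ?_
    exact Char.isGeneralized_of_isCharacter (Char.irr_isCharacter (Char.isIrrCharacter_linear _))
  set d : ℤ := n₁ - c with hd
  let ee : (PK S →* ℂˣ) → ℤ := fun lam => (if lam = 1 then d else 0) - if lam ∈ NSA then 1 else 0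
  have h1NSA : (1 : PK S →* ℂˣ) ∉ NSA := fun hm => by
    obtain ⟨⟨i, l⟩, hil, e1⟩ := Finset.mem_image.mp hm
    have e2 := congrArg (fun l : PK S →* ℂˣ => l.comp (conjP (sh i))) e1
    simp only [hback] at e2
    refine (Finset.mem_filter.mp (Finset.mem_product.mp hil).2).2.1.1 ?_
    rw [e2]
    rfl
  have hMval : ∀ lam, M lam = ((ee lam + c : ℤ) : ℂ) := by
    intro lam
    by_cases h1 : lam = 1
    · subst h1
      simp only [ee, if_pos, if_neg h1NSA, hd, hn₁]
      push_cast; ring
    by_cases hone : ∃ i < Nat.card W₁, Single h hl (lam.comp (conjP (sh i)))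
    · obtain ⟨i, hi, hs⟩ := hone
      have e1 := hline _ hs 1
      rw [hslice1, if_pos rfl] at e1
      change M (lam.comp (conjP (sh i))) = _ at e1
      rw [hMconj] at e1
      have hiff : lam ∈ NSA ↔ lam.comp (conjP (sh i)) ∉ Sp := by
        constructor
        · intro hm
          obtain ⟨⟨j, l⟩, hjl, e2⟩ := Finset.mem_image.mp hm
          obtain ⟨hj, hl'⟩ := Finset.mem_product.mp hjl
          have hl'' : lam.comp (conjP (sh j)) = l := by rw [← e2, hback]
          have e3 := huniq hi (Finset.mem_range.mp hj) hs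
            (by rw [hl'']; exact (Finset.mem_filter.mp hl').2.1)
          rw [e3, hl'']
          exact (Finset.mem_filter.mp hl').2.2
        · intro hn
          refine Finset.mem_image.mpr ⟨(i, lam.comp (conjP (sh i))), Finset.mem_product.mpr
            ⟨Finset.mem_range.mpr hi, Finset.mem_filter.mpr ⟨Finset.mem_univ _, hs, hn⟩⟩,
            MonoidHom.ext fun u => ?_⟩
          simp only [MonoidHom.comp_apply, ← conjP_mul, mul_inv_cancel, conjP_one]
      rw [e1, show ((1 : (lineKer h hl 0)) : KS S) = 1 from rfl]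
      by_cases hsp' : lam.comp (conjP (sh i)) ∈ Sp
      · rw [(hSpS _ hsp').2.1]
        simp only [ee, if_neg h1, if_neg (fun hm => hiff.mp hm hsp'), hc]
        push_cast; ring
      · rw [show g (lam.comp (conjP (sh i))) 1 = 0 from by
          by_contra h0; exact hsp' (Finset.mem_filter.mpr ⟨Finset.mem_univ _, h0⟩)]
        simp only [ee, if_neg h1, if_pos (hiff.mpr hsp'), hc]
        push_cast; ring
    · push Not at hone
      have hnot : lam ∉ NSA := fun hm => by
        obtain ⟨⟨j, l⟩, hjl, e2⟩ := Finset.mem_image.mp hm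
        obtain ⟨hj, hl'⟩ := Finset.mem_product.mp hjl
        exact hone j (Finset.mem_range.mp hj)
          (by rw [← e2, hback]; exact (Finset.mem_filter.mp hl').2.1)
      have hbot : ⊥ = SplitAbelian.stab (UK S U) lam := by
        refine (eq_bot_iff.mpr fun z hz => ?_).symm
        obtain ⟨i, hi, hne⟩ : ∃ i < Nat.card W₁, lam (pt h hl i) ≠ 1 := by
          by_contra hn
          push Not at hn
          exact h1 (lam_ext h hl fun i hi => by rw [hn i hi]; rfl)
        obtain ⟨j, hj, hji, hnej⟩ : ∃ j < Nat.card W₁, j ≠ i ∧ lam (pt h hl j) ≠ 1 := by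
          by_contra hn
          push Not at hn
          refine hone i hi ⟨by rw [hpti, add_zero]; exact hne, fun k hk hk0 => ?_⟩
          rw [hpti, ← pt_mod h hl]
          refine hn _ (Nat.mod_lt _ Nat.card_pos) fun e1 => hk0 ?_
          rcases Nat.lt_or_ge (i + k) (Nat.card W₁) with hlt | hge
          · rw [Nat.mod_eq_of_lt hlt] at e1; omega
          · rw [Nat.mod_eq_sub_mod hge, Nat.mod_eq_of_lt (by omega)] at e1; omega
        have h2 := ((mem_stab_iff h hl).mp hz).2
        rw [← hdisj j hj i hi hji]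
        exact ⟨h2 j hj hnej, h2 i hi hne⟩
      have := Fintype.ofFinite (⊥ : Subgroup (KS S))
      have := Fintype.ofFinite ↥(PK S ⊔ (⊥ : Subgroup (KS S)))
      have : Unique ((⊥ : Subgroup (KS S)) →* ℂˣ) :=
        { default := 1
          uniq := fun f => MonoidHom.ext fun z => by
            rw [show z = 1 from Subtype.ext (Subgroup.mem_bot.mp z.2), map_one, map_one] }
      have e1 := SplitAbelian.coef_slice_eq_sum hsp bot_le hycl hbot.le (1 : (⊥ : Subgroup (KS S)))
      rw [Fintype.sum_eq_single (1 : (⊥ : Subgroup (KS S)) →* ℂˣ)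
          (fun f hf => absurd (Subsingleton.elim f 1) hf), MonoidHom.one_apply, Units.val_one, mul_one,
        show SplitAbelian.slice y ((1 : (⊥ : Subgroup (KS S))) : KS S) = fun u : PK S => y u from
          funext fun u => by simp [SplitAbelian.slice]] at e1
      refine e1.trans (((hfrob hbot 1).trans (hregular lam h1 hbot)).trans ?_)
      simp only [ee, if_neg h1, if_neg hnot, hc]
      push_cast; ring
  -- the mass on `P`
  set N : ℝ := (Nat.card (PK S) : ℝ) with hN
  have hsum0 : (∑ lam, ee lam : ℤ) = d - (Nat.card W₁ * a : ℕ) := by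
    simp only [ee, Finset.sum_sub_distrib, Finset.sum_ite_eq', Finset.mem_univ, if_true,
      Finset.sum_ite_mem, Finset.univ_inter, Finset.sum_const, nsmul_eq_mul, mul_one, hNSAcard]
  have hsum2 : (∑ lam, ee lam ^ 2 : ℤ) = d ^ 2 + (Nat.card W₁ * a : ℕ) := by
    rw [Finset.sum_congr rfl (g := fun lam => (if lam = 1 then d ^ 2 else 0) +
      if lam ∈ NSA then 1 else 0) fun lam _ => by
        simp only [ee]
        by_cases e1 : lam = 1
        · subst e1; simp [h1NSA]
        · by_cases e2 : lam ∈ NSA <;> simp [e1, e2]]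
    simp only [Finset.sum_add_distrib, Finset.sum_ite_eq', Finset.mem_univ, if_true,
      Finset.sum_ite_mem, Finset.univ_inter, Finset.sum_const, nsmul_eq_mul, mul_one, hNSAcard]
  have hPmass : ∑ u ∈ Finset.univ.erase (1 : PK S), ‖y u‖ ^ 2 =
      N * ((d : ℝ) ^ 2 + Nat.card W₁ * a) - ((d : ℝ) - Nat.card W₁ * a) ^ 2 := by
    have e0 := sum_erase_one_eq hcommP (fun u : PK S => y u) ee c hMval
    have e1 : (∑ lam, (ee lam : ℝ) ^ 2) = ((∑ lam, ee lam ^ 2 : ℤ) : ℝ) := by push_cast; rfl
    have e2 : (∑ lam, (ee lam : ℝ)) = ((∑ lam, ee lam : ℤ) : ℝ) := by push_cast; rfl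
    rw [e1, e2, hsum0, hsum2] at e0
    push_cast at e0
    convert e0
  -- the cosets
  set O : (lineKer h hl 0) → ℂ := fun z => coef (SplitAbelian.slice y z) (1 : PK S →* ℂˣ) with hO
  have hcoset : ∀ z : (lineKer h hl 0), z ≠ 1 →
      N * ((a : ℝ) + ‖O z‖ ^ 2) ≤ ∑ u : PK S, ‖y ((u : KS S) * z)‖ ^ 2 := by
    intro z hz
    have e1 := sum_normSq_eq hcommP (SplitAbelian.slice y (z : KS S))
    have hsq : ∀ v : ℂ, v * conj v = ((‖v‖ ^ 2 : ℝ) : ℂ) := fun v => by
      rw [Complex.mul_conj, Complex.normSq_eq_norm_sq]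
    simp only [hsq] at e1
    have e2 : ∑ u : PK S, ‖y ((u : KS S) * z)‖ ^ 2 =
        N * ∑ lam : PK S →* ℂˣ, ‖coef (SplitAbelian.slice y z) lam‖ ^ 2 := by
      have e3 : ((∑ u : PK S, ‖SplitAbelian.slice y (z : KS S) u‖ ^ 2 : ℝ) : ℂ) =
          ((N * ∑ lam : PK S →* ℂˣ, ‖coef (SplitAbelian.slice y z) lam‖ ^ 2 : ℝ) : ℂ) := by
        rw [hN]; push_cast; exact_mod_cast e1
      exact_mod_cast e3
    rw [e2]
    refine mul_le_mul_of_nonneg_left ?_ (Nat.cast_nonneg _)
    have h1Sp : (1 : PK S →* ℂˣ) ∉ Sp := fun hm => (hSpS 1 hm).1.1 rfl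
    refine le_trans ?_ (Finset.sum_le_sum_of_subset_of_nonneg (Finset.subset_univ (insert 1 Sp))
      fun _ _ _ => by positivity)
    rw [Finset.sum_insert h1Sp, add_comm, Finset.sum_congr rfl (g := fun _ => (1 : ℝ)) fun lam hlam => ?_,
      Finset.sum_const, hSpcard, nsmul_eq_mul, mul_one]
    rw [hline lam (hSpS lam hlam).1 z, if_neg hz, zero_add, (hSpS lam hlam).2.2 z, one_pow]
  choose nn hnn using fun ψ : (lineKer h hl 0) →* ℂˣ => show ∃ k : ℤ, coef O ψ = k by
    have hV1 : (lineKer h hl 0) ≤ SplitAbelian.stab (UK S U) (1 : PK S →* ℂˣ) := fun z hz =>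
      SplitAbelian.mem_stab.mpr ⟨hKU hz, fun _ => rfl⟩
    rw [show coef O ψ = _ from (SplitAbelian.coef_slice_ext hsp hKU y hV1 ψ).symm]
    exact Char.classInner_isGeneralized_int (isGeneralized_res hygen (PK S ⊔ (lineKer h hl 0)).subtype)
      (Char.isGeneralized_of_isCharacter (Char.irr_isCharacter (Char.isIrrCharacter_linear _)))
  have hO1 : O 1 = ((∑ ψ, nn ψ : ℤ) : ℂ) := by
    rw [apply_eq_sum_coef hcommK O 1]
    simp [hnn]
  set E : ℤ := t * ∑ ψ, nn ψ ^ 2 - (∑ ψ, nn ψ) ^ 2 with hE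
  have hEeq : ∑ z ∈ Finset.univ.erase (1 : (lineKer h hl 0)), ‖O z‖ ^ 2 = (E : ℝ) := by
    have e0 := sum_erase_one_eq hcommK O nn 0 (fun ψ => by rw [hnn, add_zero])
    rw [hcardK] at e0
    rw [hE]
    push_cast
    convert e0
  have hE0 : 0 ≤ E := by
    have : (0 : ℝ) ≤ (E : ℝ) := hEeq ▸ Finset.sum_nonneg fun _ _ => by positivity
    exact_mod_cast this
  -- the estimate
  have hlt := mass_lines_lt h hl he hdisj hx hxx
  have hrows : (Nat.card W₁ : ℝ) * (N * (((t : ℝ) - 1) * a + E)) ≤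
      (Nat.card W₁ : ℝ) * ∑ z ∈ Finset.univ.erase (1 : (lineKer h hl 0)),
        ∑ u : PK S, ‖y ((u : KS S) * z)‖ ^ 2 := by
    refine mul_le_mul_of_nonneg_left ?_ (Nat.cast_nonneg _)
    refine le_trans (le_of_eq ?_) (Finset.sum_le_sum fun z hz => hcoset z (Finset.mem_erase.mp hz).1)
    rw [← Finset.mul_sum, Finset.sum_add_distrib, hEeq, Finset.sum_const,
      Finset.card_erase_of_mem (Finset.mem_univ _), Finset.card_univ, ← Nat.card_eq_fintype_card,
      hcardK, nsmul_eq_mul, Nat.cast_sub ht.le, Nat.cast_one]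
  have hP1 : ∑ u ∈ Finset.univ.erase (1 : PK S), ‖x ((u : KS S) : S)‖ ^ 2 =
      N * ((d : ℝ) ^ 2 + Nat.card W₁ * a) - ((d : ℝ) - Nat.card W₁ * a) ^ 2 := hPmass
  rw [hP1, h.card_S, hU, ← card_PK h] at hlt
  push_cast at hlt
  -- `N` is large
  have hbig : ((Nat.card W₁ * a : ℕ) + 1 : ℝ) ^ 2 ≤ N := by
    have hp' : Nat.card W₂ = 2 * a + 1 := by have := h.two_lt_p; omega
    have hq := h.two_lt_q
    have hnat : (Nat.card W₁ * a + 1) ^ 2 ≤ Nat.card (PK S) := by
      rw [card_PK h, h.card_P, hp']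
      have key : ∀ n : ℕ, 3 ≤ n → (n * a + 1) ^ 2 ≤ (2 * a + 1) ^ n := by
        intro n hn
        have ha1 : 1 < a := one_lt_lineIndex h hl
        induction n, hn using Nat.le_induction with
        | base => nlinarith [ha1, Nat.mul_le_mul (Nat.mul_le_mul ha1.le ha1.le) ha1.le]
        | succ n hn ih =>
          rw [pow_succ (2 * a + 1)]
          refine le_trans ?_ (Nat.mul_le_mul_right _ ih)
          have h3 : 3 * a ≤ n * a := Nat.mul_le_mul_right a hn
          nlinarith [Nat.mul_le_mul_left (n * a) h3, Nat.mul_le_mul_left a h3, Nat.zero_le (n * a * a)]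
      exact key _ hq
    rw [hN]
    exact_mod_cast hnat
  push_cast at hbig
  set qa : ℝ := (Nat.card W₁ : ℝ) * a with hqa
  have hqa0 : 0 ≤ qa := by positivity
  have hmain : N * ((d : ℝ) ^ 2 + Nat.card W₁ * E) < ((d : ℝ) - qa) ^ 2 := by
    rw [hqa]
    linear_combination hlt + hrows
  have hd0 : d = 0 := by
    by_contra hne
    have hd1 : (1 : ℝ) ≤ |(d : ℝ)| := by exact_mod_cast Int.one_le_abs hne
    have hEr : (0 : ℝ) ≤ E := by exact_mod_cast hE0
    have h2 : ((d : ℝ) - qa) ^ 2 ≤ (qa + 1) ^ 2 * (d : ℝ) ^ 2 := by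
      have h3 : |(d : ℝ) - qa| ≤ (qa + 1) * |(d : ℝ)| := by
        refine (abs_sub _ _).trans ?_
        rw [abs_of_nonneg hqa0]
        nlinarith [mul_le_mul_of_nonneg_left hd1 hqa0]
      calc ((d : ℝ) - qa) ^ 2 = |(d : ℝ) - qa| ^ 2 := (sq_abs _).symm
        _ ≤ ((qa + 1) * |(d : ℝ)|) ^ 2 := pow_le_pow_left₀ (abs_nonneg _) h3 2
        _ = _ := by rw [mul_pow, sq_abs]
    nlinarith [mul_le_mul_of_nonneg_right hbig (sq_nonneg (d : ℝ)),
      mul_nonneg (mul_nonneg (show (0 : ℝ) ≤ N by rw [hN]; positivity)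
        (Nat.cast_nonneg (α := ℝ) (Nat.card W₁))) hEr]
  have hEz : E = 0 := by
    by_contra hne
    have hE1 : (1 : ℝ) ≤ E := by exact_mod_cast (show (1 : ℤ) ≤ E by omega)
    have hq1 : (1 : ℝ) ≤ Nat.card W₁ := by exact_mod_cast h.q_prime.one_lt.le
    rw [hd0] at hmain
    push_cast at hmain
    nlinarith [mul_le_mul hq1 hE1 zero_le_one (Nat.cast_nonneg _), hbig, hqa0,
      show (0 : ℝ) ≤ N by rw [hN]; positivity]
  -- `O` is a multiple of the regular function
  have hOzero : ∀ z : (lineKer h hl 0), z ≠ 1 → O z = 0 := fun z hz => by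
    have h0 := (Finset.sum_eq_zero_iff_of_nonneg (fun z _ => by positivity)).mp
      (hEeq.trans (by rw [hEz, Int.cast_zero])) z (Finset.mem_erase.mpr ⟨hz, Finset.mem_univ _⟩)
    simpa using h0
  have hO1c : O 1 = (c : ℂ) := by
    have e1 : O 1 = M 1 := by rw [hO, hM]; simp only [hslice1]
    rw [e1, hn₁, show n₁ = c by omega]
  have hkey : (t : ℤ) * nn 1 = c := by
    have e1 : coef O 1 = (Nat.card (lineKer h hl 0) : ℂ)⁻¹ * O 1 := by
      rw [coef, Char.classInner_def, Finset.sum_eq_single (1 : (lineKer h hl 0)) (fun z _ hz => by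
        rw [hOzero z hz, zero_mul]) (fun hn => absurd (Finset.mem_univ _) hn), map_one, Units.val_one,
        map_one, mul_one]
    rw [hnn, hO1c, hcardK, eq_inv_mul_iff_mul_eq₀ (by exact_mod_cast (show t ≠ 0 by omega))] at e1
    exact_mod_cast e1
  have hdvd : (t : ℤ) ∣ 1 := ⟨nn 1 - m, by rw [mul_sub, hkey, hc]; ring⟩
  have := Int.eq_one_of_dvd_one (by omega) hdvd
  omega

end CfsgLib.PF.CalS
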