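import Cfsg.Agent.Lib.PF.Base.CalSMembers
import Cfsg.Agent.Lib.PF.Exceptional13

/-!
# The part of `A₀(S)` on the lines

A norm one virtual character of `G` has less than `|S|` mass on `P#` together with the conjugates under
`W₁` of the cosets `P z` of the non-identity elements `z` fixing the first line.
-/

set_option autoImplicit false
set_option linter.unusedSectionVars false
set_option maxHeartbeats 1000000

namespace CfsgLib.PF.CalS

open scoped Classical commutatorElement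
open CfsgLib.Clifford CfsgLib.PF.S13

universe u

variable {G : Type u} [Group G] [Fintype G] {S W₁ W₂ U : Subgroup G} [Fintype S] [Fintype (KS S)]
  (h : Side S W₁ W₂ U)

/-- A restricted virtual character. -/
theorem isGeneralized_res {x : G → ℂ} (hx : Cfsg.IsGeneralizedCharacter G x) {H : Type u} [Group H]
    (f : H →* G) : Cfsg.IsGeneralizedCharacter H (fun y => x (f y)) := by
  obtain ⟨a, b, ha, hb, rfl⟩ := hx
  exact ⟨_, _, Char.isCharacter_comp ha f, Char.isCharacter_comp hb f, rfl⟩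

include h

/-- The mass of a norm one virtual character on `A₀(S)`. -/
theorem mass_A0_lt {μ : (↥(W₁ ⊔ W₂) →* ℂˣ) → (S → ℂ)} {δ : (↥(W₁ ⊔ W₂) →* ℂˣ) → ℂ}
    (he : Exc S W₁ W₂ μ δ) {x : G → ℂ} (hx : Cfsg.IsGeneralizedCharacter G x)
    (hxx : Cfsg.classInner x x = 1) (Y : Finset G) (hY : ∀ y ∈ Y, y ∈ Cfsg.typeA0 S) :
    ∑ y ∈ Y, ‖x y‖ ^ 2 < Nat.card S := by
  set X : Finset G := Finset.univ.filter (· ∈ Cfsg.typeA0 S) with hX
  have hmem : ∀ y, y ∈ X ↔ y ∈ Cfsg.typeA0 S := fun y => by simp [hX]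
  have hsum := sum_conjUnion X S (fun l hl y hy => by
      rw [hmem] at hy ⊢
      rw [he.A0_eq] at hy ⊢
      exact he.hyp.dade.conj_mem l hl y hy)
    (fun g y hy hgy => h.mem_of_conj_A0 ((hmem y).mp hy)
      (fun e => h.one_not_mem_A0 he (e ▸ (hmem y).mp hy)) ((hmem _).mp hgy))
    (fun y => ‖x y‖ ^ 2) (norm_class_eq hx)
  have htot : ∑ g, ‖x g‖ ^ 2 = (Nat.card G : ℝ) := by
    rw [Char.classInner_self_eq_norm] at hxx
    have h1 : (Nat.card G : ℝ)⁻¹ * ∑ g, ‖x g‖ ^ 2 = 1 := by exact_mod_cast hxx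
    rw [inv_mul_eq_one₀ (Nat.cast_ne_zero.mpr Nat.card_pos.ne')] at h1
    exact h1.symm
  have h1 : (0 : ℝ) < ‖x 1‖ ^ 2 := by
    have : x 1 ≠ 0 := by
      rcases Char.isGeneralized_norm_one hx hxx with h1 | h1
      · exact Char.irr_apply_one_ne_zero h1
      · exact fun e => Char.irr_apply_one_ne_zero h1 (by simp [e])
    positivity
  have hlt : ∑ y ∈ conjUnion X, ‖x y‖ ^ 2 < (Nat.card G : ℝ) := by
    rw [← htot, ← Finset.add_sum_erase _ _ (Finset.mem_univ (1 : G))]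
    refine lt_add_of_pos_of_le h1 (Finset.sum_le_sum_of_subset_of_nonneg (fun y hy => ?_)
      fun _ _ _ => by positivity)
    refine Finset.mem_erase.mpr ⟨fun e => h.one_not_mem_A0 he ?_, Finset.mem_univ _⟩
    obtain ⟨g, y', hy', e'⟩ := mem_conjUnion.mp (e ▸ hy)
    rw [conj_eq_one_iff] at e'
    exact e' ▸ (hmem y').mp hy'
  rw [hsum, ← Subgroup.card_mul_index S, Nat.cast_mul, mul_comm (Nat.card S : ℝ)] at hlt
  refine lt_of_le_of_lt (Finset.sum_le_sum_of_subset_of_nonneg (fun y hy => (hmem y).mpr (hY y hy))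
    fun _ _ _ => by positivity) (lt_of_mul_lt_mul_left hlt (Nat.cast_nonneg _))

variable {w e : G} (hl : Lines S W₁ W₂ U w e)
include hl

/-- The mass on `P#` and on the cosets of the lines. -/
theorem mass_lines_lt [Fintype (PK S)] [Fintype (lineKer h hl 0)]
    {μ : (↥(W₁ ⊔ W₂) →* ℂˣ) → (S → ℂ)} {δ : (↥(W₁ ⊔ W₂) →* ℂˣ) → ℂ} (he : Exc S W₁ W₂ μ δ)
    (hdisj : ∀ i < Nat.card W₁, ∀ j < Nat.card W₁, i ≠ j → lineKer h hl i ⊓ lineKer h hl j = ⊥)
    {x : G → ℂ} (hx : Cfsg.IsGeneralizedCharacter G x) (hxx : Cfsg.classInner x x = 1) :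
    ∑ u ∈ Finset.univ.erase (1 : PK S), ‖x ((u : KS S) : S)‖ ^ 2 +
      (Nat.card W₁ : ℝ) * ∑ z ∈ Finset.univ.erase (1 : lineKer h hl 0),
        ∑ u : PK S, ‖x (((u : KS S) * z : KS S) : S)‖ ^ 2 < Nat.card S := by
  have hKU : lineKer h hl 0 ≤ UK S U := lineKer_le h hl 0
  let emb : (PK S ⊕ ℕ × (lineKer h hl 0) × PK S) → G := Sum.elim (fun u => (((u : KS S) : S) : G))
    fun p => w ^ p.1 * ((((p.2.2 : KS S) : S) : G) * (((p.2.1 : KS S) : S) : G)) * (w ^ p.1)⁻¹
  set D : Finset (PK S ⊕ ℕ × (lineKer h hl 0) × PK S) := ((Finset.univ.erase (1 : PK S))).disjSum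
    (Finset.range (Nat.card W₁) ×ˢ ((Finset.univ.erase (1 : (lineKer h hl 0))) ×ˢ (Finset.univ : Finset (PK S))))
    with hD
  have hcoe1 : ∀ z : (lineKer h hl 0), z ≠ 1 → (((z : KS S) : S) : G) ≠ 1 := fun z hz e1 =>
    hz (Subtype.ext (Subtype.ext (Subtype.ext e1)))
  have hzU : ∀ z : (lineKer h hl 0), (((z : KS S) : S) : G) ∈ U := fun z => mem_UK.mp (hKU z.2)
  have hzi : ∀ (i : ℕ) (z : (lineKer h hl 0)), w ^ i * (((z : KS S) : S) : G) * (w ^ i)⁻¹ ∈ U := fun i z =>
    h.conj_U (W₁.pow_mem hl.mem_w i) (hzU z)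
  have hsplit : ∀ {b c z v : G}, b ∈ Cfsg.fittingHallOf S → c ∈ Cfsg.fittingHallOf S →
      z ∈ U → v ∈ U → b * z = c * v → b = c ∧ z = v := by
    intro b c z v hb hc hz hv e1
    have hm : c⁻¹ * b ∈ Cfsg.fittingHallOf S ⊓ U := by
      refine ⟨Subgroup.mul_mem _ (Subgroup.inv_mem _ hc) hb, ?_⟩
      rw [show c⁻¹ * b = v * z⁻¹ by rw [eq_mul_inv_iff_mul_eq, mul_assoc, e1, inv_mul_cancel_left]]
      exact U.mul_mem hv (U.inv_mem hz)
    rw [h.data.U_compl.2.2.1, Subgroup.mem_bot, inv_mul_eq_one] at hm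
    subst hm
    exact ⟨rfl, mul_left_cancel e1⟩
  have hconjP' : ∀ (i : ℕ) (u : PK S), w ^ i * (((u : KS S) : S) : G) * (w ^ i)⁻¹ ∈
      Cfsg.fittingHallOf S := fun i u =>
    h.conj_P (h.W₁_le (W₁.pow_mem hl.mem_w i)) (mem_PK.mp u.2)
  have hinj : Set.InjOn emb D := by
    rintro (u | ⟨i, z, u⟩) hu (u' | ⟨j, z', u'⟩) hu' e1 <;>
      simp only [hD, Finset.mem_coe, Finset.inl_mem_disjSum, Finset.inr_mem_disjSum,
        Finset.mem_product, Finset.mem_erase, Finset.mem_range, Finset.mem_univ, and_true,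
        ne_eq] at hu hu' <;>
      simp only [emb, Sum.elim_inl, Sum.elim_inr] at e1
    · exact congrArg Sum.inl (Subtype.ext (Subtype.ext (Subtype.ext e1)))
    · exfalso
      rw [← mul_one (((u : KS S) : S) : G), show w ^ j * ((((u' : KS S) : S) : G) * (((z' : KS S) : S) : G)) * (w ^ j)⁻¹ =
        (w ^ j * (((u' : KS S) : S) : G) * (w ^ j)⁻¹) * (w ^ j * (((z' : KS S) : S) : G) * (w ^ j)⁻¹)
        by group] at e1
      exact hcoe1 z' hu'.2 (conj_eq_one_iff.mp
        (hsplit (mem_PK.mp u.2) (hconjP' j u') U.one_mem (hzi j z') e1).2.symm)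
    · exfalso
      rw [← mul_one (((u' : KS S) : S) : G), show w ^ i * ((((u : KS S) : S) : G) * (((z : KS S) : S) : G)) * (w ^ i)⁻¹ =
        (w ^ i * (((u : KS S) : S) : G) * (w ^ i)⁻¹) * (w ^ i * (((z : KS S) : S) : G) * (w ^ i)⁻¹)
        by group] at e1
      exact hcoe1 z hu.2 (conj_eq_one_iff.mp
        (hsplit (hconjP' i u) (mem_PK.mp u'.2) (hzi i z) U.one_mem e1).2)
    · have hz' := hsplit (hconjP' i u) (hconjP' j u') (hzi i z) (hzi j z') (by
        refine Eq.trans ?_ (e1.trans ?_) <;> group)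
      have hij : i = j := by
        by_contra hne
        have hk : ∀ (k : ℕ) (v : (lineKer h hl 0)) (hv : w ^ k * (((v : KS S) : S) : G) * (w ^ k)⁻¹ ∈ U),
            h.eigenAt hl k ⟨_, hv⟩ = 1 := fun k v hv => by
          obtain ⟨hv0, e0⟩ := (mem_lineKer h hl).mp v.2
          refine Eq.trans ?_ e0
          refine congrArg (h.eigen hl) (Subtype.ext ?_)
          show (w ^ k)⁻¹ * (w ^ k * (((v : KS S) : S) : G) * (w ^ k)⁻¹) * w ^ k =
            (w ^ 0)⁻¹ * (((v : KS S) : S) : G) * w ^ 0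
          group
        let b : KS S := ⟨⟨_, h.U_le (hzi i z)⟩,
          Subgroup.mem_subgroupOf.mpr (h.U_le_derived (hzi i z))⟩
        have hb : b ∈ lineKer h hl i ⊓ lineKer h hl j := by
          refine ⟨(mem_lineKer h hl).mpr ⟨hzi i z, hk i z _⟩,
            (mem_lineKer h hl).mpr ⟨hzi i z, ?_⟩⟩
          have := hk j z' (hzi j z')
          simp only [← hz'.2] at this
          exact this
        rw [hdisj i hu.1 j hu'.1 hne, Subgroup.mem_bot] at hb
        exact hcoe1 z hu.2 (conj_eq_one_iff.mp (congrArg (fun k : KS S => ((k : S) : G)) hb))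
      subst hij
      have e2 : u = u' := Subtype.ext (Subtype.ext (Subtype.ext
        (mul_left_cancel (mul_right_cancel hz'.1))))
      have e3 : z = z' := Subtype.ext (Subtype.ext (Subtype.ext
        (mul_left_cancel (mul_right_cancel hz'.2))))
      rw [e2, e3]
  have hA0 : ∀ v ∈ D.image emb, v ∈ Cfsg.typeA0 S := by
    intro v hv
    obtain ⟨p, hp', rfl⟩ := Finset.mem_image.mp hv
    rcases p with u | ⟨i, z, u⟩
    · exact h.mem_typeA0 (Subgroup.mem_sup_left (mem_PK.mp u.2))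
        fun e1 => (Finset.mem_erase.mp (Finset.inl_mem_disjSum.mp hp')).1
          (Subtype.ext (Subtype.ext (Subtype.ext e1)))
    have hz : z ≠ 1 := (Finset.mem_erase.mp
      (Finset.mem_product.mp (Finset.mem_product.mp (Finset.inr_mem_disjSum.mp hp')).2).1).1
    have hmem : (((u : KS S) : S) : G) * (((z : KS S) : S) : G) ∈ Cfsg.typeA0 S := by
      refine Or.inl ?_
      obtain ⟨hz0, e0⟩ := (mem_lineKer h hl).mp z.2
      have hze : (((z : KS S) : S) : G) * e = e * (((z : KS S) : S) : G) := by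
        have e2 := h.eigenAt_spec hl 0 ⟨_, hz0⟩
        have : Fact (Nat.card W₂).Prime := ⟨h.p_prime⟩
        rw [e0, Units.val_one, ZMod.val_one, pow_one, mul_inv_eq_iff_eq_mul] at e2
        simpa using e2
      have hxe : (((u : KS S) : S) : G) * (((z : KS S) : S) : G) * e =
          e * ((((u : KS S) : S) : G) * (((z : KS S) : S) : G)) := by
        rw [mul_assoc, hze, ← mul_assoc, h.P_comm' (mem_PK.mp u.2) hl.mem, mul_assoc]
      have hne : (((u : KS S) : S) : G) * (((z : KS S) : S) : G) ≠ 1 := fun e1 =>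
        hcoe1 z hz (hsplit (mem_PK.mp u.2) (Subgroup.one_mem _) (hzU z) U.one_mem
          (e1.trans (one_mul 1).symm)).2
      have hder : (((u : KS S) : S) : G) * (((z : KS S) : S) : G) ∈ ⁅S, S⁆ :=
        Subgroup.mul_mem _ (h.P_le_derived (mem_PK.mp u.2)) (h.U_le_derived (hzU z))
      rw [Cfsg.typeA]
      split_ifs
      · exact ⟨h.derived_le hder, hne, e, hl.mem, hl.ne, hxe⟩
      · refine ⟨hder, hne, e, ?_, hl.ne, hxe⟩
        rw [Cfsg.typeCore]
        split_ifs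
        exacts [h.P_le_derived hl.mem, hl.mem]
    simp only [emb, Sum.elim_inr]
    rw [he.A0_eq] at hmem ⊢
    exact he.hyp.dade.conj_mem _ (h.W₁_le (W₁.pow_mem hl.mem_w i)) _ hmem
  have hlt := mass_A0_lt h he hx hxx (D.image emb) hA0
  rw [Finset.sum_image hinj, hD, Finset.sum_disjSum, Finset.sum_product] at hlt
  refine lt_of_le_of_lt (le_of_eq ?_) hlt
  congr 1
  rw [Finset.sum_congr rfl (g := fun _ : ℕ => ∑ z ∈ Finset.univ.erase (1 : lineKer h hl 0),
      ∑ u : PK S, ‖x (((u : KS S) * z : KS S) : S)‖ ^ 2) fun i _ => ?_,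
    Finset.sum_const, Finset.card_range, nsmul_eq_mul]
  rw [Finset.sum_product]
  exact Finset.sum_congr rfl fun z _ => Finset.sum_congr rfl fun u _ => norm_class_eq hx _ _

end CfsgLib.PF.CalS
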