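import Cfsg.Agent.Lib.PF.Base.CalSLines
import Cfsg.Agent.Lib.PF.Members13

/-!
# The members of `calS` from the extensions of the characters of `P`

Every member is `memb` of a non-trivial character of `P` and a character of its stabiliser in `U`;
its degree is `q` times the index of the stabiliser.  The characters supported by one line give
irreducible members of degree `q a`, at least `(p - 1) |K₀| / a` of them.
-/

set_option autoImplicit false
set_option linter.unusedSectionVars false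
set_option maxHeartbeats 1000000

namespace CfsgLib.PF.CalS

open scoped Classical commutatorElement
open CfsgLib.Clifford CfsgLib.PF.S13

universe u

variable {G : Type u} [Group G] [Fintype G] {S W₁ W₂ U : Subgroup G} [Fintype S] [Fintype (KS S)]
  (h : Side S W₁ W₂ U) {V : Subgroup (KS S)} {lam : PK S →* ℂˣ}
  (hVe : V = SplitAbelian.stab (UK S U) lam)

include h hVe

/-- The character of `S'` of an extension. -/
noncomputable def theta (ψ : V →* ℂˣ) : KS S → ℂ :=
  Cfsg.indFun (PK S ⊔ V) fun t =>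
    (SplitAbelian.ext (isSplit h) (hVe.le.trans (SplitAbelian.stab_le lam)) hVe.le ψ t : ℂ)

/-- The member of an extension. -/
noncomputable def memb (ψ : V →* ℂˣ) : S → ℂ := Cfsg.indFun (KS S) (theta h hVe ψ)

theorem theta_irr (ψ : V →* ℂˣ) : Cfsg.IsIrrCharacter (KS S) (theta h hVe ψ) :=
  SplitAbelian.isIrr_ind (isSplit h) (hVe.le.trans (SplitAbelian.stab_le lam)) hVe ψ

theorem theta_one (ψ : V →* ℂˣ) : theta h hVe ψ 1 = (V.relIndex (UK S U) : ℂ) :=
  SplitAbelian.ind_apply_one (isSplit h) (hVe.le.trans (SplitAbelian.stab_le lam)) hVe ψ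

theorem coef_theta [Fintype (PK S)] (ψ : V →* ℂˣ) :
    coef (fun y : PK S => theta h hVe ψ y) lam = 1 := by
  have e := SplitAbelian.coef_ind_self (isSplit h) (hVe.le.trans (SplitAbelian.stab_le lam)) hVe ψ
    (1 : V)
  simp only [map_one, Units.val_one] at e
  refine Eq.trans ?_ e
  congr 1
  funext y
  simp [SplitAbelian.slice, theta]

theorem memb_one (ψ : V →* ℂˣ) :
    memb h hVe ψ 1 = ((Nat.card W₁ * V.relIndex (UK S U) : ℕ) : ℂ) := by
  rw [memb, Char.indFun_apply_one, theta_one, h.index_KS, Nat.cast_mul]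

theorem memb_mem (hlam : lam ≠ 1) (ψ : V →* ℂˣ) : memb h hVe ψ ∈ calS S := by
  have := Fintype.ofFinite (PK S)
  refine h.mem_calS (theta_irr h hVe ψ) fun hc => ?_
  have e := coef_theta h hVe ψ
  rw [show (fun y : PK S => theta h hVe ψ y) = theta h hVe ψ 1 • fun _ : PK S => (1 : ℂ) from
      funext fun y => by
        rw [Pi.smul_apply, smul_eq_mul, mul_one]
        exact hc y ((h.mem_fittingHall).mpr (mem_PK.mp y.2)),
    coef, Char.classInner_smul_left, Char.irr_classInner_ne Char.isIrrCharacter_one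
      (Char.isIrrCharacter_linear lam) (fun e1 => hlam (MonoidHom.ext fun y =>
        Units.ext (congrFun e1 y).symm)), mul_zero] at e
  exact zero_ne_one e

omit hVe in
/-- Every member is of this form. -/
theorem exists_memb {χ : S → ℂ} (hχ : χ ∈ calS S) :
    ∃ lam : PK S →* ℂˣ, lam ≠ 1 ∧ ∃ ψ : SplitAbelian.stab (UK S U) lam →* ℂˣ,
      χ = memb h rfl ψ := by
  have := Fintype.ofFinite (PK S)
  obtain ⟨θ, hθ, hne, rfl⟩ := h.exists_of_mem_calS hχ
  obtain ⟨lam, hlam, hc⟩ : ∃ lam : PK S →* ℂˣ, lam ≠ 1 ∧ coef (fun y : PK S => θ y) lam ≠ 0 := by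
    by_contra hn
    push Not at hn
    refine hne fun a ha => ?_
    have := finite_hom_of_group (PK S)
    have := Fintype.ofFinite (PK S →* ℂˣ)
    have hcomm : ∀ x y : PK S, x * y = y * x := fun x y =>
      Subtype.ext ((isSplit h).P_comm _ x.2 _ y.2)
    have hval : ∀ y : PK S, θ y = coef (fun y : PK S => θ y) 1 := fun y => by
      rw [show θ y = _ from apply_eq_sum_coef hcomm (fun y : PK S => θ y) y,
        Finset.sum_eq_single 1 (fun l _ hl => by rw [hn l hl, zero_mul])
          (fun hn' => absurd (Finset.mem_univ _) hn'), MonoidHom.one_apply, Units.val_one, mul_one]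
    exact (hval ⟨a, mem_PK.mpr ((h.mem_fittingHall).mp ha)⟩).trans (hval 1).symm
  obtain ⟨ψ, rfl⟩ := SplitAbelian.exists_eq_ind (isSplit h) hθ hc
  exact ⟨lam, hlam, ψ, rfl⟩

/-- Equal members come from characters conjugate in `S`. -/
theorem memb_eq {V' : Subgroup (KS S)} {lam' : PK S →* ℂˣ}
    (hVe' : V' = SplitAbelian.stab (UK S U) lam') {ψ : V →* ℂˣ} {ψ' : V' →* ℂˣ}
    (he : memb h hVe ψ = memb h hVe' ψ') :
    ∃ s t : S, (∀ x, conjFn s (theta h hVe' ψ') x = theta h hVe ψ x) ∧
      (t ∈ KS S → s ∈ KS S) ∧ ∀ y, lam' (conjP t y) = lam y := by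
  have := Fintype.ofFinite (PK S)
  have h0 : Cfsg.classInner (memb h hVe ψ) (memb h hVe' ψ') ≠ 0 := by
    rw [← he, memb, classInner_indFun_indFun (theta_irr h hVe ψ) (theta_irr h hVe ψ)]
    have : Nonempty {x : S // conjFn x (theta h hVe ψ) = theta h hVe ψ} := ⟨⟨1, conjFn_one _⟩⟩
    exact mul_ne_zero (inv_ne_zero Char.natCard_ne_zero) (Nat.cast_ne_zero.mpr Nat.card_pos.ne')
  rw [memb, memb, classInner_indFun_indFun (theta_irr h hVe ψ) (theta_irr h hVe' ψ')] at h0
  obtain ⟨⟨s, hs⟩⟩ : Nonempty {x : S // conjFn x (theta h hVe' ψ') = theta h hVe ψ} := by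
    by_contra hn
    rw [not_nonempty_iff] at hn
    simp at h0
  have h1 : coef (fun y : PK S => theta h hVe' ψ' y) (lam.comp (conjP s⁻¹)) ≠ 0 := by
    have e : coef (fun y : PK S => theta h hVe' ψ' y) (lam.comp (conjP s⁻¹)) =
        coef (fun y : PK S => theta h hVe ψ y) lam := by
      simp only [coef, Char.classInner_def]
      congr 1
      refine Fintype.sum_bijective (conjP s⁻¹) ⟨fun a b hab => ?_, fun a => ⟨conjP s a, ?_⟩⟩ _ _
        fun y => ?_
      · have := congrArg (conjP s) hab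
        rwa [← conjP_mul, ← conjP_mul, mul_inv_cancel, conjP_one, conjP_one] at this
      · rw [← conjP_mul, inv_mul_cancel, conjP_one]
      · rw [MonoidHom.comp_apply, ← hs]
        congr 1
        rw [conjFn_apply]
        refine congrArg _ (Subtype.ext ?_)
        simp only [Clifford.coe_conjN, coe_conjP]
        group
    rw [e, coef_theta]
    exact one_ne_zero
  obtain ⟨z, hz, hzz⟩ := SplitAbelian.exists_conj (isSplit h) (theta_irr h hVe' ψ')
    (by rw [coef_theta]; exact one_ne_zero) h1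
  refine ⟨s, (z : S) * s, congrFun hs, fun ht => ?_, fun y => ?_⟩
  · simpa using (KS S).mul_mem ((KS S).inv_mem z.2) ht
  · rw [conjP_mul, conjP_coe, hzz (conjP s y), MonoidHom.comp_apply, ← conjP_mul, inv_mul_cancel,
      conjP_one]

omit hVe

variable {w e : G} (hl : Lines S W₁ W₂ U w e)
include hl

/-- A character supported by the first line alone. -/
def Single (lam : PK S →* ℂˣ) : Prop :=
  lam (pt h hl 0) ≠ 1 ∧ ∀ i < Nat.card W₁, i ≠ 0 → lam (pt h hl i) = 1

theorem Single.ne_one {lam : PK S →* ℂˣ} (hs : Single h hl lam) : lam ≠ 1 := fun e1 =>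
  hs.1 (by rw [e1]; rfl)

theorem Single.iff {lam : PK S →* ℂˣ} (hs : Single h hl lam) (n : ℕ) :
    lam (pt h hl n) ≠ 1 ↔ n % Nat.card W₁ = 0 := by
  rw [← pt_mod h hl n]
  refine ⟨fun hne => by_contra fun h0 => hne (hs.2 _ (Nat.mod_lt _ Nat.card_pos) h0), fun h0 => ?_⟩
  rw [h0]
  exact hs.1

theorem Single.stab {lam : PK S →* ℂˣ} (hs : Single h hl lam) :
    lineKer h hl 0 = SplitAbelian.stab (UK S U) lam := by
  ext k
  rw [mem_stab_iff h hl]
  refine ⟨fun hk => ⟨lineKer_le h hl 0 hk, fun i hi hne => ?_⟩, fun hk =>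
    hk.2 0 Nat.card_pos hs.1⟩
  rw [Single.iff h hl hs, Nat.mod_eq_of_lt hi] at hne
  exact hne ▸ hk

theorem single_mem_KS {lam lam' : PK S →* ℂˣ} (hs : Single h hl lam) (hs' : Single h hl lam')
    {t : S} (ht : ∀ y, lam' (conjP t y) = lam y) : t ∈ KS S := by
  obtain ⟨j, hj, hsupp⟩ := supp_conj h hl t
  refine hj ?_
  have h1 : lam' (pt h hl (j + 0)) ≠ 1 := fun e1 => hs.1 (by
    rw [← ht]; exact (hsupp lam' 0).mpr e1)
  rw [add_zero, Single.iff h hl hs'] at h1
  exact h1

/-- A conjugate of a character of the first line has one point in its support. -/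
theorem support_unique {lam lam' : PK S →* ℂˣ} (hs' : Single h hl lam') {t : S}
    (ht : ∀ y, lam' (conjP t y) = lam y) {i i' : ℕ} (hi : i < Nat.card W₁) (hi' : i' < Nat.card W₁)
    (h1 : lam (pt h hl i) ≠ 1) (h2 : lam (pt h hl i') ≠ 1) : i = i' := by
  obtain ⟨j, -, hsupp⟩ := supp_conj h hl t
  rw [← ht, Ne, hsupp, ← Ne, Single.iff h hl hs'] at h1 h2
  have e0 : i ≡ i' [MOD Nat.card W₁] :=
    Nat.ModEq.add_left_cancel' j (h1.trans h2.symm : (j + i) % _ = (j + i') % _)
  rwa [Nat.ModEq, Nat.mod_eq_of_lt hi, Nat.mod_eq_of_lt hi'] at e0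

/-- A character of the first line gives an irreducible member. -/
theorem single_irr (hs : Single h hl lam) (hVe : V = SplitAbelian.stab (UK S U) lam)
    (ψ : V →* ℂˣ) : Cfsg.IsIrrCharacter S (memb h hVe ψ) := by
  refine Char.isIrrCharacter_iff.mpr ⟨Char.isCharacter_indFun _
    (Char.irr_isCharacter (theta_irr h hVe ψ)), ?_⟩
  have hfix : ∀ x : S, conjFn x (theta h hVe ψ) = theta h hVe ψ ↔ x ∈ KS S := by
    refine fun x => ⟨fun e1 => ?_, fun hx =>
      mem_inertia_iff_conjFn.mp (le_inertia (Char.irr_isClassFunction (theta_irr h hVe ψ)) hx)⟩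
    have := Fintype.ofFinite (PK S)
    have h1 : coef (fun y : PK S => theta h hVe ψ y) (lam.comp (conjP x⁻¹)) ≠ 0 := by
      have e2 : coef (fun y : PK S => theta h hVe ψ y) (lam.comp (conjP x⁻¹)) =
          coef (fun y : PK S => theta h hVe ψ y) lam := by
        simp only [coef, Char.classInner_def]
        congr 1
        refine Fintype.sum_bijective (conjP x⁻¹) ⟨fun a b hab => ?_, fun a => ⟨conjP x a, ?_⟩⟩ _ _
          fun y => ?_
        · have := congrArg (conjP x) hab
          rwa [← conjP_mul, ← conjP_mul, mul_inv_cancel, conjP_one, conjP_one] at this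
        · rw [← conjP_mul, inv_mul_cancel, conjP_one]
        · rw [MonoidHom.comp_apply]
          congr 1
          conv_rhs => rw [← e1, conjFn_apply]
          refine congrArg _ (Subtype.ext ?_)
          simp only [Clifford.coe_conjN, coe_conjP]
          group
      rw [e2, coef_theta]
      exact one_ne_zero
    obtain ⟨z, -, hzz⟩ := SplitAbelian.exists_conj (isSplit h) (theta_irr h hVe ψ)
      (by rw [coef_theta]; exact one_ne_zero) h1
    have hmem := single_mem_KS h hl hs hs (t := (z : S) * x) fun y => by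
      rw [conjP_mul, conjP_coe, hzz (conjP x y), MonoidHom.comp_apply, ← conjP_mul, inv_mul_cancel,
        conjP_one]
    simpa using (KS S).mul_mem ((KS S).inv_mem z.2) hmem
  rw [memb, classInner_indFun_indFun (theta_irr h hVe ψ) (theta_irr h hVe ψ),
    Nat.card_congr (Equiv.subtypeEquivRight hfix)]
  exact inv_mul_cancel₀ Char.natCard_ne_zero

/-- Members of the first line agree only for conjugate characters. -/
theorem single_eq {lam' : PK S →* ℂˣ} (hs : Single h hl lam) (hs' : Single h hl lam')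
    (hVe : V = SplitAbelian.stab (UK S U) lam) (hVe' : V = SplitAbelian.stab (UK S U) lam')
    {ψ ψ' : V →* ℂˣ} (he : memb h hVe ψ = memb h hVe' ψ') :
    ψ' = ψ ∧ ∃ z ∈ UK S U, ∀ y : PK S, lam' (conjN z y) = lam y := by
  obtain ⟨s, t, hst, hts, ht⟩ := memb_eq h hVe hVe' he
  have hsK := hts (single_mem_KS h hl hs hs' ht)
  refine SplitAbelian.ind_eq (isSplit h) (hVe.le.trans (SplitAbelian.stab_le lam)) hVe hVe' ?_
  refine funext fun x => (hst x).symm.trans ?_
  exact congrFun (mem_inertia_iff_conjFn.mp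
    (le_inertia (Char.irr_isClassFunction (theta_irr h hVe' ψ')) hsK)) x

/-- There are at least `(p - 1) |K₀| / a` members of the first line. -/
theorem exists_single_members : ∃ J : Finset (S → ℂ),
    (∀ φ ∈ J, ∃ lam, ∃ hs : Single h hl lam, ∃ ψ : lineKer h hl 0 →* ℂˣ,
      φ = memb h (Single.stab h hl hs) ψ) ∧
    (∀ lam, ∀ hs : Single h hl lam, ∀ ψ : lineKer h hl 0 →* ℂˣ,
      memb h (Single.stab h hl hs) ψ ∈ J) ∧
    (Nat.card W₂ - 1) * Nat.card (lineKer h hl 0) ≤ lineIndex h hl * J.card := by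
  have := finite_hom_of_group (PK S)
  have := Fintype.ofFinite (PK S →* ℂˣ)
  have := finite_hom_of_group (lineKer h hl 0)
  have := Fintype.ofFinite (lineKer h hl 0 →* ℂˣ)
  have := NeZero.of_pos (Nat.card_pos (α := W₂))
  let f : {lam : PK S →* ℂˣ // Single h hl lam} × (lineKer h hl 0 →* ℂˣ) → (S → ℂ) := fun x =>
    memb h (Single.stab h hl x.1.2) x.2
  refine ⟨Finset.univ.image f, fun φ hφ => ?_, fun lam hs ψ =>
    Finset.mem_image.mpr ⟨(⟨lam, hs⟩, ψ), Finset.mem_univ _, rfl⟩, ?_⟩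
  · obtain ⟨⟨⟨lam, hs⟩, ψ⟩, -, rfl⟩ := Finset.mem_image.mp hφ
    exact ⟨lam, hs, ψ, rfl⟩
  have hcount : (Nat.card W₂ - 1) * Nat.card (lineKer h hl 0) ≤
      (Finset.univ : Finset ({lam : PK S →* ℂˣ // Single h hl lam} × (lineKer h hl 0 →* ℂˣ))).card := by
    rw [Finset.card_univ, ← Nat.card_eq_fintype_card, Nat.card_prod]
    refine Nat.mul_le_mul ?_ (le_of_eq ?_)
    · have hex : ∀ ζ : {ζ : rootsOfUnity (Nat.card W₂) ℂ // ζ ≠ 1}, ∃ lam : PK S →* ℂˣ,
          Single h hl lam ∧ lam (pt h hl 0) = (ζ.1 : ℂˣ) := fun ζ => by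
        obtain ⟨lam, hlam⟩ := exists_lam h hl (fun i => if i = 0 then (ζ.1 : ℂˣ) else 1) fun i => by
          split_ifs
          · exact (mem_rootsOfUnity _ _).mp ζ.1.2
          · exact one_pow _
        refine ⟨lam, ⟨?_, fun i hi h0 => by rw [hlam i hi, if_neg h0]⟩,
          by rw [hlam 0 Nat.card_pos, if_pos rfl]⟩
        rw [hlam 0 Nat.card_pos, if_pos rfl]
        exact fun e1 => ζ.2 (Subtype.ext e1)
      choose g hg hg0 using hex
      have := Fintype.ofFinite (rootsOfUnity (Nat.card W₂) ℂ)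
      have := Fintype.ofFinite {ζ : rootsOfUnity (Nat.card W₂) ℂ // ζ ≠ 1}
      refine le_of_eq_of_le ?_ (Nat.card_le_card_of_injective (fun ζ => ⟨g ζ, hg ζ⟩)
        fun a b hab => Subtype.ext (Subtype.ext ?_))
      · rw [Nat.card_eq_fintype_card (α := {ζ : rootsOfUnity (Nat.card W₂) ℂ // ζ ≠ 1}),
          Fintype.card_subtype_compl, Fintype.card_subtype_eq,
          ← Nat.card_eq_fintype_card, Complex.card_rootsOfUnity]
      · rw [← hg0, ← hg0, show g a = g b from congrArg Subtype.val hab]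
    · rw [Char.natCard_linear, show commutator (lineKer h hl 0) = ⊥ from ?_, Subgroup.index_bot]
      rw [commutator_def, Subgroup.commutator_eq_bot_iff_le_centralizer]
      exact fun a _ => Subgroup.mem_centralizer_iff.mpr fun b _ => Subtype.ext
        ((isSplit h).U_comm _ (lineKer_le h hl 0 b.2) _ (lineKer_le h hl 0 a.2))
  refine hcount.trans (Finset.card_le_mul_card_image _ _ fun φ hφ => ?_)
  obtain ⟨⟨⟨lam₀, hs₀⟩, ψ₀⟩, -, rfl⟩ := Finset.mem_image.mp hφ
  let g : (ZMod (Nat.card W₂))ˣ → ℂˣ := fun n =>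
    lam₀ (pt h hl 0) ^ (n : ZMod (Nat.card W₂)).val
  have hsub : ∀ x : {lam : PK S →* ℂˣ // Single h hl lam} × (lineKer h hl 0 →* ℂˣ),
      f x = f (⟨lam₀, hs₀⟩, ψ₀) →
      x.2 = ψ₀ ∧ x.1.1 (pt h hl 0) ∈ ((h.eigen hl).range : Set (ZMod (Nat.card W₂))ˣ).toFinset.image g := by
    rintro ⟨⟨lam', hs'⟩, ψ'⟩ he
    obtain ⟨e1, z, hz, hzz⟩ := single_eq h hl hs' hs₀ _ _ he
    refine ⟨e1.symm, ?_⟩
    refine Finset.mem_image.mpr ⟨h.eigen hl ⟨_, mem_UK.mp hz⟩,
      by rw [Set.mem_toFinset]; exact ⟨_, rfl⟩, ?_⟩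
    show _ = lam' (pt h hl 0)
    rw [← hzz, show g (h.eigen hl ⟨_, mem_UK.mp hz⟩) = lam₀ (pt h hl 0 ^
      ((h.eigen hl ⟨((z : S) : G), mem_UK.mp hz⟩ : (ZMod (Nat.card W₂))ˣ) :
        ZMod (Nat.card W₂)).val) from (map_pow lam₀ _ _).symm]
    refine congrArg lam₀ (Subtype.ext (Subtype.ext (Subtype.ext ?_)))
    simp only [Clifford.coe_conjN, Subgroup.coe_mul, InvMemClass.coe_inv, Subgroup.coe_pow, coe_pt,
      pow_zero, one_mul, inv_one, mul_one]
    exact (h.eigen_spec hl ⟨_, mem_UK.mp hz⟩).symm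
  refine le_trans (Finset.card_le_card_of_injOn (fun x => x.1.1 (pt h hl 0))
    (t := ((h.eigen hl).range : Set (ZMod (Nat.card W₂))ˣ).toFinset.image g)
    (fun x hx => (hsub x (Finset.mem_filter.mp hx).2).2) ?_) (Finset.card_image_le.trans ?_)
  · rintro ⟨⟨l₁, hs₁⟩, ψ₁⟩ h1 ⟨⟨l₂, hs₂⟩, ψ₂⟩ h2 he
    have e1 := (hsub _ (Finset.mem_filter.mp h1).2).1
    have e2 := (hsub _ (Finset.mem_filter.mp h2).2).1
    refine Prod.ext (Subtype.ext (lam_ext h hl fun i hi => ?_)) (e1.trans e2.symm)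
    rcases eq_or_ne i 0 with rfl | h0
    · exact he
    · exact (hs₁.2 i hi h0).trans (hs₂.2 i hi h0).symm
  · rw [lineIndex, Subgroup.index_ker, Set.toFinset_card]
    exact Nat.card_eq_fintype_card.ge

omit hl

/-- The degrees are at most those of the regular orbits. -/
theorem relIndex_dvd (lam : PK S →* ℂˣ) :
    (SplitAbelian.stab (UK S U) lam).relIndex (UK S U) ∣
      (U ⊓ Subgroup.centralizer (Cfsg.fittingHallOf S : Set G)).relIndex U := by
  set C := U ⊓ Subgroup.centralizer (Cfsg.fittingHallOf S : Set G) with hC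
  set CK : Subgroup (KS S) := (C.subgroupOf S).subgroupOf (KS S) with hCK
  have hle : CK ≤ SplitAbelian.stab (UK S U) lam := fun k hk => mem_stab_of_mem_C h hk lam
  have hcard : Nat.card CK = Nat.card C :=
    (Nat.card_congr (Subgroup.subgroupOfEquivOfLe (fun k hk => Subgroup.mem_subgroupOf.mpr
      (h.U_le_derived (Subgroup.mem_subgroupOf.mp hk).1) : C.subgroupOf S ≤ KS S)).toEquiv).trans
      (Nat.card_congr (Subgroup.subgroupOfEquivOfLe (inf_le_left.trans h.U_le : C ≤ S)).toEquiv)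
  have e1 := CfsgLib.Coprime.card_mul_relIndex (hle.trans (SplitAbelian.stab_le lam))
  rw [hcard, card_UK h, h.card_U_eq] at e1
  rw [← Nat.eq_of_mul_eq_mul_left Nat.card_pos e1]
  exact ⟨_, (Subgroup.relIndex_mul_relIndex _ _ _ hle (SplitAbelian.stab_le lam)).symm.trans
    (mul_comm _ _)⟩

include hl in
/-- In the reducible case every degree is a multiple of `a`. -/
theorem lineIndex_dvd_relIndex (hlam : lam ≠ 1) :
    lineIndex h hl ∣ (SplitAbelian.stab (UK S U) lam).relIndex (UK S U) := by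
  obtain ⟨i, hi, hne⟩ : ∃ i < Nat.card W₁, lam (pt h hl i) ≠ 1 := by
    by_contra hn
    push Not at hn
    exact hlam (lam_ext h hl fun i hi => by rw [hn i hi]; rfl)
  rw [← relIndex_lineKer h hl i]
  exact ⟨_, (Subgroup.relIndex_mul_relIndex _ _ _ (fun k hk => ((mem_stab_iff h hl).mp hk).2 i hi hne)
    (lineKer_le h hl i)).symm.trans (mul_comm _ _)⟩

/-- In the irreducible case all orbits are regular. -/
theorem relIndex_of_isGalois (hgal : Interface.IsGalois S U) (hlam : lam ≠ 1) :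
    (SplitAbelian.stab (UK S U) lam).relIndex (UK S U) =
      (U ⊓ Subgroup.centralizer (Cfsg.fittingHallOf S : Set G)).relIndex U := by
  refine Nat.dvd_antisymm (relIndex_dvd h lam) ?_
  have hle : SplitAbelian.stab (UK S U) lam ≤
      ((U ⊓ Subgroup.centralizer (Cfsg.fittingHallOf S : Set G)).subgroupOf S).subgroupOf (KS S) := by
    intro k hk
    rw [SplitAbelian.mem_stab] at hk
    refine Subgroup.mem_subgroupOf.mpr (Subgroup.mem_subgroupOf.mpr (by_contra fun hkC => hlam ?_))
    have hcomm : ∀ x y : PK S, x * y = y * x := fun x y =>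
      Subtype.ext ((isSplit h).P_comm _ x.2 _ y.2)
    let f : PK S → PK S := fun y => conjN k y * y⁻¹
    have hf : Function.Injective f := by
      intro a b hab
      have key : conjN k (b⁻¹ * a) = b⁻¹ * a := by
        have e0 : conjN k (b⁻¹ * a) = (conjN k b)⁻¹ * conjN k a :=
          Subtype.ext (by simp [mul_assoc])
        have hab' : conjN k a = conjN k b * b⁻¹ * a := mul_inv_eq_iff_eq_mul.mp hab
        rw [e0, hab', ← mul_assoc, inv_mul_cancel_left]
      have h1 := congrArg (fun y : PK S => (((y : KS S) : S) : G)) key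
      simp only [Clifford.coe_conjN, Subgroup.coe_mul, InvMemClass.coe_inv] at h1
      have h2 := h.fpf_of_isGalois hgal (mem_UK.mp hk.1) hkC
        (x := (((b⁻¹ * a : PK S) : KS S) : S).val) (mem_PK.mp (b⁻¹ * a : PK S).2)
        (by simpa only [Subgroup.coe_mul, InvMemClass.coe_inv] using mul_inv_eq_iff_eq_mul.mp h1)
      have h3 : b⁻¹ * a = 1 := Subtype.ext (Subtype.ext (Subtype.ext h2))
      exact (inv_mul_eq_one.mp h3).symm
    refine MonoidHom.ext fun y => ?_
    obtain ⟨x, rfl⟩ := (Finite.injective_iff_surjective.mp hf) y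
    rw [map_mul, map_inv, hk.2 x, mul_inv_cancel]
    rfl
  have hle' : ((U ⊓ Subgroup.centralizer (Cfsg.fittingHallOf S : Set G)).subgroupOf S).subgroupOf
      (KS S) ≤ UK S U := fun k hk => hk.1
  have e1 := CfsgLib.Coprime.card_mul_relIndex hle'
  have hcard : Nat.card ↥(((U ⊓ Subgroup.centralizer (Cfsg.fittingHallOf S : Set G)).subgroupOf
      S).subgroupOf (KS S)) =
        Nat.card ↥(U ⊓ Subgroup.centralizer (Cfsg.fittingHallOf S : Set G)) :=
    (Nat.card_congr (Subgroup.subgroupOfEquivOfLe (fun k hk => Subgroup.mem_subgroupOf.mpr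
      (h.U_le_derived (Subgroup.mem_subgroupOf.mp hk).1) :
        (U ⊓ Subgroup.centralizer (Cfsg.fittingHallOf S : Set G)).subgroupOf S ≤ KS S)).toEquiv).trans
      (Nat.card_congr (Subgroup.subgroupOfEquivOfLe (inf_le_left.trans h.U_le :
        U ⊓ Subgroup.centralizer (Cfsg.fittingHallOf S : Set G) ≤ S)).toEquiv)
  rw [hcard, card_UK h, h.card_U_eq] at e1
  rw [← Nat.eq_of_mul_eq_mul_left Nat.card_pos e1]
  exact ⟨_, (Subgroup.relIndex_mul_relIndex _ _ _ hle hle').symm.trans (mul_comm _ _)⟩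

end CfsgLib.PF.CalS
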