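import Cfsg.Prelude.Def_Transfer
import Cfsg.Agent.Lib.Solvable.FixedPointFree
import Cfsg.Agent.Lib.PLocal.SylowIn
import Cfsg.Agent.Lib.Clifford.Dade

/-!
# An abelian group of odd order acting with a group of prime order on an elementary abelian group

`A` is abelian of odd order, `W` has prime order `q` and acts on `A` without fixed points, and both act
on `P`, elementary abelian of order `p ^ q`, faithfully and irreducibly together.  Then `A` is either
cyclic and semiregular on `P`, or `P` has `q` lines permuted by `W` and normalised by `A`.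
-/

set_option autoImplicit false
set_option maxHeartbeats 1000000

namespace CfsgLib.PF.Base

open Subgroup

universe u

namespace ElemAction

variable {X : Type u} [Group X] [Finite X]

/-- The standing hypotheses. -/
structure Ctx (P A W : Subgroup X) (p q : ℕ) : Prop where
  hp : p.Prime
  hq : q.Prime
  hp2 : p ≠ 2
  comm : ∀ a ∈ P, ∀ b ∈ P, a * b = b * a
  exp : ∀ a ∈ P, a ^ p = 1
  card_P : Nat.card P = p ^ q
  A_comm : ∀ a ∈ A, ∀ b ∈ A, a * b = b * a
  A_odd : Odd (Nat.card A)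
  conjP : ∀ a, a ∈ A ∨ a ∈ W → ∀ x ∈ P, a * x * a⁻¹ ∈ P
  conjA : ∀ w ∈ W, ∀ a ∈ A, w * a * w⁻¹ ∈ A
  card_W : Nat.card W = q
  faith : ∀ a ∈ A, (∀ x ∈ P, a * x = x * a) → a = 1
  fpf : ∀ w ∈ W, w ≠ 1 → ∀ a ∈ A, w * a = a * w → a = 1
  fix : Nat.card ↥(P ⊓ centralizer (W : Set X)) = p
  irr : ∀ N : Subgroup X, N ≤ P → A ≤ normalizer (N : Set X) → W ≤ normalizer (N : Set X) →
    N = ⊥ ∨ N = P

variable {P A W : Subgroup X} {p q : ℕ}

/-- A set of elements invariant under conjugation by a subgroup. -/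
theorem le_normalizer_of {N : Subgroup X} {B : Subgroup X}
    (h : ∀ b ∈ B, ∀ x ∈ N, b * x * b⁻¹ ∈ N) : B ≤ normalizer (N : Set X) := fun b hb =>
  mem_normalizer_iff.mpr fun x => ⟨h b hb x, fun hx => by
    simpa [mul_assoc] using h b⁻¹ (B.inv_mem hb) _ hx⟩

/-- The semiregular case. -/
theorem semiregular_of (h : Ctx P A W p q)
    (hgal : ∀ N : Subgroup X, N ≤ P → A ≤ normalizer (N : Set X) → N = ⊥ ∨ N = P) :
    ∀ a ∈ A, a ≠ 1 → ∀ x ∈ P, a * x = x * a → x = 1 := by
  intro a ha ha1 x hx hc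
  rcases hgal (P ⊓ centralizer ({a} : Set X)) inf_le_left (le_normalizer_of fun b hb y hy => by
      refine ⟨h.conjP b (.inl hb) y hy.1, mem_centralizer_singleton_iff.mpr ?_⟩
      have e1 : a * b = b * a := h.A_comm a ha b hb
      have e2 : y * a = a * y := mem_centralizer_singleton_iff.mp hy.2
      have e3 : b⁻¹ * a = a * b⁻¹ := h.A_comm _ (A.inv_mem hb) a ha
      calc b * y * b⁻¹ * a = b * (y * a) * b⁻¹ := by rw [mul_assoc, e3]; group
        _ = b * a * y * b⁻¹ := by rw [e2]; group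
        _ = a * (b * y * b⁻¹) := by rw [← e1]; group) with e | e
  · have : x ∈ P ⊓ centralizer ({a} : Set X) := ⟨hx, mem_centralizer_singleton_iff.mpr hc.symm⟩
    rwa [e, mem_bot] at this
  · refine absurd (h.faith a ha fun y hy => ?_) ha1
    rw [← e] at hy
    exact (mem_centralizer_singleton_iff.mp hy.2).symm

theorem isCyclic_of (h : Ctx P A W p q)
    (hsr : ∀ a ∈ A, a ≠ 1 → ∀ x ∈ P, a * x = x * a → x = 1) : IsCyclic A := by
  letI : CommGroup P :=
    { (inferInstance : Group P) with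
      mul_comm := fun a b => Subtype.ext (h.comm _ a.2 _ b.2) }
  let φ : A →* MulAut P :=
    { toFun := fun z =>
        { toFun := fun x => ⟨(z : X) * x * (z : X)⁻¹, h.conjP z (.inl z.2) x x.2⟩
          invFun := fun x => ⟨(z : X)⁻¹ * x * z, by
            simpa using h.conjP (z : X)⁻¹ (.inl (A.inv_mem z.2)) x x.2⟩
          left_inv := fun x => Subtype.ext (by simp [mul_assoc])
          right_inv := fun x => Subtype.ext (by simp [mul_assoc])
          map_mul' := fun x y => Subtype.ext (by simp [mul_assoc]) }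
      map_one' := MulEquiv.ext fun x => Subtype.ext (by simp)
      map_mul' := fun a b => MulEquiv.ext fun x => Subtype.ext (by simp [mul_assoc]) }
  have : IsMulCommutative (⊤ : Subgroup A) :=
    ⟨⟨fun a b => Subtype.ext (Subtype.ext (h.A_comm _ a.1.2 _ b.1.2))⟩⟩
  have : Nontrivial P := by
    rw [← Finite.one_lt_card_iff_nontrivial, h.card_P]
    exact Nat.one_lt_pow h.hq.ne_zero h.hp.one_lt
  have hfpf : ∀ a : A, a ≠ 1 → ∀ x : P, φ a x = x → x = 1 := fun a ha x hx =>
    Subtype.ext (hsr a a.2 (fun e => ha (Subtype.ext e)) x x.2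
      (mul_inv_eq_iff_eq_mul.mp (congrArg Subtype.val hx)))
  have := CfsgLib.Solvable.isCyclic_of_fpf φ hfpf ⊤
  exact isCyclic_of_surjective (⊤ : Subgroup A).subtype fun x => ⟨⟨x, mem_top _⟩, rfl⟩

theorem bound_of_semiregular (h : Ctx P A W p q)
    (hsr : ∀ a ∈ A, a ≠ 1 → ∀ x ∈ P, a * x = x * a → x = 1) :
    Nat.card A * (p - 1) ≤ p ^ q - 1 := by
  classical
  have := Fintype.ofFinite P
  have := Fintype.ofFinite ↥(P ⊓ centralizer (W : Set X))
  obtain ⟨w, hw, hw1⟩ := (W.bot_or_exists_ne_one).resolve_left fun e => by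
    have := h.card_W; rw [e, card_bot] at this; exact h.hq.one_lt.ne this
  let f : A × {x : ↥(P ⊓ centralizer (W : Set X)) // x ≠ 1} → {x : P // x ≠ 1} := fun z =>
    ⟨⟨(z.1 : X) * z.2.1 * (z.1 : X)⁻¹, h.conjP _ (.inl z.1.2) _ z.2.1.2.1⟩, fun e =>
      z.2.2 (Subtype.ext (conj_eq_one_iff.mp (congrArg Subtype.val e)))⟩
  have hf : Function.Injective f := by
    rintro ⟨⟨a, ha⟩, ⟨⟨x, hxP, hxW⟩, hx1⟩⟩ ⟨⟨b, hb⟩, ⟨⟨y, hyP, hyW⟩, hy1⟩⟩ e
    have e' : a * x * a⁻¹ = b * y * b⁻¹ := congrArg (fun z => ((z.1 : P) : X)) e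
    obtain ⟨c, hc⟩ : ∃ c, c = b⁻¹ * a := ⟨_, rfl⟩
    have hcA : c ∈ A := hc ▸ A.mul_mem (A.inv_mem hb) ha
    have hcx : c * x * c⁻¹ = y := by
      rw [hc, show b⁻¹ * a * x * (b⁻¹ * a)⁻¹ = b⁻¹ * (a * x * a⁻¹) * b by group, e']
      group
    have ew : w * x = x * w := mem_centralizer_iff.mp hxW w hw
    have ew' : w * y = y * w := mem_centralizer_iff.mp hyW w hw
    obtain ⟨d, hd⟩ : ∃ d, d = w * c * w⁻¹ := ⟨_, rfl⟩
    have hdA : d ∈ A := hd ▸ h.conjA w hw c hcA
    have hdx : d * x * d⁻¹ = y := by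
      calc d * x * d⁻¹ = w * (c * (w⁻¹ * (x * w)) * c⁻¹) * w⁻¹ := by rw [hd]; group
        _ = w * (c * x * c⁻¹) * w⁻¹ := by rw [← ew, inv_mul_cancel_left]
        _ = y := by rw [hcx, ew', mul_inv_cancel_right]
    have hfixx : c⁻¹ * d * x = x * (c⁻¹ * d) := by
      have e1 : d * x * d⁻¹ = c * x * c⁻¹ := hdx.trans hcx.symm
      calc c⁻¹ * d * x = c⁻¹ * (d * x * d⁻¹) * d := by group
        _ = x * (c⁻¹ * d) := by rw [e1]; group
    have hcd : d = c := by
      by_contra hne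
      exact hx1 (Subtype.ext (hsr _ (A.mul_mem (A.inv_mem hcA) hdA)
        (fun e0 => hne (inv_mul_eq_one.mp e0).symm) x hxP hfixx))
    have hc1 : c = 1 := h.fpf w hw hw1 c hcA (by
      calc w * c = d * w := by rw [hd]; group
        _ = c * w := by rw [hcd])
    have hab : a = b := (inv_mul_eq_one.mp (hc ▸ hc1)).symm
    subst hab
    have hxy : x = y := by simpa [hc1] using hcx
    subst hxy
    rfl
  have := Nat.card_le_card_of_injective f hf
  rw [Nat.card_prod] at this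
  rw [Nat.card_eq_fintype_card (α := {x : ↥(P ⊓ centralizer (W : Set X)) // x ≠ 1}),
    Fintype.card_subtype_compl, Fintype.card_subtype_eq, ← Nat.card_eq_fintype_card, h.fix,
    Nat.card_eq_fintype_card (α := {x : P // x ≠ 1}), Fintype.card_subtype_compl,
    Fintype.card_subtype_eq, ← Nat.card_eq_fintype_card, h.card_P] at this
  exact this

/-- In the reducible case, a line normalised by `A` whose `W`-conjugates generate `P`. -/
theorem exists_line (h : Ctx P A W p q) {w : X} (hw : w ∈ W) (hw1 : w ≠ 1)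
    (hgal : ¬ ∀ N : Subgroup X, N ≤ P → A ≤ normalizer (N : Set X) → N = ⊥ ∨ N = P) :
    ∃ e ∈ P, orderOf e = p ∧ (∀ a ∈ A, ∃ k : ℕ, a * e * a⁻¹ = e ^ k) ∧
      ∀ N : Subgroup X, (∀ i < q, w ^ i * e * (w ^ i)⁻¹ ∈ N) → P ≤ N := by
  classical
  have := Fintype.ofFinite X
  obtain ⟨N₁, hN₁, hN₁A, hN₁1, hN₁P⟩ : ∃ N : Subgroup X, N ≤ P ∧
      A ≤ normalizer (N : Set X) ∧ N ≠ ⊥ ∧ N ≠ P := by
    by_contra hn
    refine hgal fun N hN hA => ?_
    by_contra hc
    push Not at hc
    exact hn ⟨N, hN, hA, hc.1, hc.2⟩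
  have hex : ∃ n, ∃ N : Subgroup X, Nat.card N = n ∧ N ≤ P ∧
      A ≤ normalizer (N : Set X) ∧ N ≠ ⊥ := ⟨_, N₁, rfl, hN₁, hN₁A, hN₁1⟩
  obtain ⟨N, hNc, hN, hNA, hN1⟩ := Nat.find_spec hex
  have hmin : ∀ M : Subgroup X, M ≤ N → A ≤ normalizer (M : Set X) → M = ⊥ ∨ M = N := by
    intro M hM hMA
    rcases eq_or_ne M ⊥ with e | e
    · exact Or.inl e
    · refine Or.inr (eq_of_le_of_card_ge hM ?_)
      rw [hNc]
      exact Nat.find_min' hex ⟨M, rfl, hM.trans hN, hMA, e⟩
  have hNne : Nat.card N < Nat.card P := by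
    have h1 := Nat.find_min' hex ⟨N₁, rfl, hN₁, hN₁A, hN₁1⟩
    rw [← hNc] at h1
    refine lt_of_le_of_lt h1 (lt_of_le_of_ne (card_le_of_le hN₁) fun e => hN₁P ?_)
    exact eq_of_le_of_card_ge hN₁ e.ge
  obtain ⟨Nc, hNc'⟩ : ∃ Nc : ℕ → Subgroup X,
      ∀ i, Nc i = N.map (MulAut.conj (w ^ i)).toMonoidHom := ⟨_, fun _ => rfl⟩
  have hmemNc : ∀ i x, x ∈ Nc i ↔ (w ^ i)⁻¹ * x * w ^ i ∈ N := fun i x => by
    rw [hNc']
    constructor
    · rintro ⟨y, hy, rfl⟩; simpa [mul_assoc, -map_pow] using hy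
    · exact fun hx => ⟨_, hx, by simp [mul_assoc, -map_pow]⟩
  have hwi : ∀ i : ℕ, w ^ i ∈ W := fun i => W.pow_mem hw i
  have hNcP : ∀ i, Nc i ≤ P := fun i x hx => by
    simpa [mul_assoc] using h.conjP (w ^ i) (.inr (hwi i)) _ (hN ((hmemNc i x).mp hx))
  have hNconj : ∀ a ∈ A, ∀ x ∈ N, a * x * a⁻¹ ∈ N := fun a ha x hx =>
    (mem_normalizer_iff.mp (hNA ha) x).mp hx
  have hNcA : ∀ i, A ≤ normalizer (Nc i : Set X) := fun i => le_normalizer_of fun a ha x hx => by
    rw [hmemNc] at hx ⊢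
    have ha' : (w ^ i)⁻¹ * a * w ^ i ∈ A := by
      simpa using h.conjA _ (W.inv_mem (hwi i)) a ha
    have := hNconj _ ha' _ hx
    simpa [mul_assoc] using this
  have hNcmin : ∀ i (M : Subgroup X), M ≤ Nc i → A ≤ normalizer (M : Set X) →
      M = ⊥ ∨ M = Nc i := by
    intro i M hM hMA
    obtain ⟨M', hM'⟩ : ∃ M', M' = M.comap (MulAut.conj (w ^ i)).toMonoidHom := ⟨_, rfl⟩
    have hmem : ∀ x, x ∈ M' ↔ w ^ i * x * (w ^ i)⁻¹ ∈ M := fun x => by
      rw [hM', mem_comap]; rfl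
    have h1 : M' ≤ N := fun x hx => by
      have := (hmemNc i _).mp (hM ((hmem x).mp hx))
      simpa [mul_assoc] using this
    have h2 : A ≤ normalizer (M' : Set X) := le_normalizer_of fun a ha x hx => by
      rw [hmem] at hx ⊢
      have := (mem_normalizer_iff.mp (hMA (h.conjA _ (hwi i) a ha)) _).mp hx
      simpa [mul_assoc] using this
    rcases hmin M' h1 h2 with e | e
    · refine Or.inl (eq_bot_iff.mpr fun x hx => ?_)
      have : (w ^ i)⁻¹ * x * w ^ i ∈ M' := (hmem _).mpr (by simpa [mul_assoc] using hx)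
      rw [e, mem_bot] at this
      rw [mem_bot]
      calc x = w ^ i * ((w ^ i)⁻¹ * x * w ^ i) * (w ^ i)⁻¹ := by group
        _ = 1 := by rw [this]; group
    · refine Or.inr (le_antisymm hM fun x hx => ?_)
      have h' := (hmemNc i x).mp hx
      rw [← e, hmem] at h'
      simpa [mul_assoc] using h'
  obtain ⟨M, hM0, hMs⟩ : ∃ M : ℕ → Subgroup X, M 0 = ⊥ ∧ ∀ k, M (k + 1) = M k ⊔ Nc k :=
    ⟨fun k => Nat.rec (motive := fun _ => Subgroup X) ⊥ (fun i B => B ⊔ Nc i) k, rfl, fun _ => rfl⟩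
  have hMP : ∀ k, M k ≤ P := fun k => by
    induction k with
    | zero => rw [hM0]; exact bot_le
    | succ k ih => rw [hMs]; exact sup_le ih (hNcP k)
  have hMA : ∀ k, A ≤ normalizer (SetLike.coe (M k)) := fun k => by
    induction k with
    | zero =>
      rw [hM0]
      exact le_normalizer_of fun a _ x hx => by rw [mem_bot.mp hx]; simp
    | succ k ih =>
      intro a ha
      rw [hMs, ← CfsgLib.PLocal.conjMap_eq_self_iff]
      show (M k ⊔ Nc k).map (MulAut.conj a).toMonoidHom = _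
      rw [Subgroup.map_sup]
      exact congr_arg₂ (· ⊔ ·) (CfsgLib.PLocal.conjMap_eq_self_iff.mpr (ih ha))
        (CfsgLib.PLocal.conjMap_eq_self_iff.mpr (hNcA k ha))
  have hstep : ∀ k, ¬ Nc k ≤ M k → Nat.card (M (k + 1)) = Nat.card (M k) * Nat.card N := by
    intro k hk
    have hd : M k ⊓ Nc k = ⊥ := by
      rcases hNcmin k (M k ⊓ Nc k) inf_le_right (le_normalizer_of fun a ha x hx =>
        ⟨(mem_normalizer_iff.mp (hMA k ha) x).mp hx.1,
          (mem_normalizer_iff.mp (hNcA k ha) x).mp hx.2⟩) with e | e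
      · exact e
      · exact absurd (inf_eq_right.mp e) hk
    have hn : Nc k ≤ normalizer (SetLike.coe (M k)) := le_normalizer_of fun x hx y hy => by
      rw [h.comm x (hNcP k hx) y (hMP k hy), mul_inv_cancel_right]
      exact hy
    rw [hMs, CfsgLib.Clifford.Dade.card_sup hn hd, hNc',
      card_map_of_injective (MulEquiv.injective _)]
  have hn2 : 2 ≤ Nat.card N := (one_lt_card_iff_ne_bot N).mpr hN1
  have hexk : ∃ k, Nc k ≤ M k := by
    by_contra hn
    push Not at hn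
    have hgrow : ∀ k, 2 ^ k ≤ Nat.card (M k) := fun k => by
      induction k with
      | zero => rw [hM0, card_bot]; simp
      | succ k ih => rw [hstep k (hn k), pow_succ]; exact Nat.mul_le_mul ih hn2
    exact absurd ((hgrow (Nat.card P)).trans (card_le_of_le (hMP _)))
      (not_le.mpr (Nat.lt_two_pow_self))
  obtain ⟨k, hk⟩ : ∃ k, k = Nat.find hexk := ⟨_, rfl⟩
  have hspec : Nc k ≤ M k := hk ▸ Nat.find_spec hexk
  have hcardM : ∀ i ≤ k, Nat.card (M i) = Nat.card N ^ i := fun i hi => by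
    induction i with
    | zero => rw [hM0, card_bot, pow_zero]
    | succ i ih => rw [hstep i (Nat.find_min hexk (by omega)), ih (by omega), pow_succ]
  have hk1 : k ≠ 0 := fun e => hN1 (eq_bot_iff.mpr fun x hx => by
    have : x ∈ Nc 0 := (hmemNc 0 x).mpr (by simpa using hx)
    have h0 := hspec
    rw [e, hM0] at h0
    exact h0 this)
  have hle : ∀ i < k, Nc i ≤ M k := fun i hi => by
    have hmono : ∀ j, i + 1 ≤ j → Nc i ≤ M j := fun j hj => by
      induction j, hj using Nat.le_induction with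
      | base => rw [hMs]; exact le_sup_right
      | succ j _ ih => rw [hMs]; exact ih.trans le_sup_left
    exact hmono k hi
  have hMw : (M k).map (MulAut.conj w).toMonoidHom = M k := by
    refine eq_of_le_of_card_ge ?_ (le_of_eq (card_map_of_injective (MulEquiv.injective _)).symm)
    have hshift : ∀ j ≤ k, (M j).map (MulAut.conj w).toMonoidHom ≤ M k := fun j hj => by
      induction j with
      | zero => rw [hM0, Subgroup.map_bot]; exact bot_le
      | succ j ih =>
        rw [hMs, Subgroup.map_sup]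
        refine sup_le (ih (by omega)) ?_
        rintro _ ⟨x, hx, rfl⟩
        have hx' : w * x * w⁻¹ ∈ Nc (j + 1) := by
          rw [SetLike.mem_coe, hmemNc] at hx
          rw [hmemNc]
          simpa [pow_succ', mul_assoc] using hx
        rcases Nat.lt_or_ge (j + 1) k with h1 | h1
        · exact hle (j + 1) h1 hx'
        · rw [show j + 1 = k by omega] at hx'
          exact hspec hx'
    exact hshift k le_rfl
  have hMkP : M k = P := by
    rcases h.irr _ (hMP k) (hMA k) (fun v hv => by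
      have : Fact q.Prime := ⟨h.hq⟩
      have hz : (⟨v, hv⟩ : W) ∈ zpowers (⟨w, hw⟩ : W) :=
        mem_zpowers_of_prime_card h.card_W (fun e => hw1 (congrArg Subtype.val e))
      obtain ⟨i, hi⟩ := mem_zpowers_iff.mp hz
      have hv' : v = w ^ i := (by simpa using (congrArg Subtype.val hi).symm)
      rw [hv']
      exact Subgroup.zpow_mem _ (CfsgLib.PLocal.conjMap_eq_self_iff.mp hMw) i) with e | e
    · exfalso
      have h1 := hcardM k le_rfl
      rw [e, card_bot] at h1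
      exact absurd h1 (Nat.one_lt_pow hk1 hn2).ne
    · exact e
  have hNp : Nat.card N = p ∧ k = q := by
    have h1 := hcardM k le_rfl
    rw [hMkP, h.card_P] at h1
    obtain ⟨m, hm, hNm⟩ := (Nat.dvd_prime_pow h.hp).mp (h.card_P ▸ card_dvd_of_le hN)
    rw [hNm, ← pow_mul] at h1
    have e := Nat.pow_right_injective h.hp.two_le h1
    rcases (Nat.dvd_prime h.hq).mp ⟨k, e⟩ with h2 | h2
    · rw [h2, one_mul] at e
      exact ⟨by rw [hNm, h2, pow_one], e.symm⟩
    · rw [hNm, h2, ← h.card_P] at hNne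
      exact absurd hNne (lt_irrefl _)
  obtain ⟨e, he, he1⟩ := (bot_or_exists_ne_one N).resolve_left hN1
  have hord : orderOf e = p :=
    ((Nat.dvd_prime h.hp).mp (hNp.1 ▸ Subgroup.orderOf_dvd_natCard _ he)).resolve_left
      fun e0 => he1 (orderOf_eq_one_iff.mp e0)
  have heN : zpowers e = N := eq_of_le_of_card_ge (zpowers_le.mpr he)
    (by rw [Nat.card_zpowers, hNp.1, hord])
  refine ⟨e, hN he, hord, fun a ha => ?_, fun N' hN' => ?_⟩
  · have hae : a * e * a⁻¹ ∈ zpowers e := heN.symm ▸ hNconj a ha e he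
    rw [← mem_powers_iff_mem_zpowers] at hae
    obtain ⟨i, hi⟩ := hae
    exact ⟨i, hi.symm⟩
  · rw [← hMkP]
    have hall : ∀ j ≤ k, M j ≤ N' := fun j hj => by
      induction j with
      | zero => rw [hM0]; exact bot_le
      | succ j ih =>
        rw [hMs]
        refine sup_le (ih (by omega)) ?_
        rw [hNc', ← heN, MonoidHom.map_zpowers, zpowers_le]
        exact hN' j (by omega)
    exact hall k le_rfl

section Line

variable (h : Ctx P A W p q) {w e : X} (hw : w ∈ W) (hw1 : w ≠ 1) (he : e ∈ P)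
  (hord : orderOf e = p) (hev : ∀ a ∈ A, ∃ k : ℕ, a * e * a⁻¹ = e ^ k)
  (hgen : ∀ N : Subgroup X, (∀ i < q, w ^ i * e * (w ^ i)⁻¹ ∈ N) → P ≤ N)

include h hw hw1 he hord hev hgen in
theorem line_bounds :
    (A ⊓ centralizer ({e} : Set X)).relIndex A ∣ (p - 1) / 2 ∧
      Nat.card A ≤ ((p - 1) / 2) ^ (q - 1) ∧
      ∃ s : Finset (P →* ℂˣ), (p - 1) ^ q ≤ s.card ∧
        ∀ l ∈ s, ∀ a ∈ A, (∀ x y : P, (y : X) = a * x * a⁻¹ → l y = l x) → a = 1 := by
  classical
  have : Fact p.Prime := ⟨h.hp⟩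
  have hchoose : ∀ (z : A) (k : ℕ), (z : X) * e * (z : X)⁻¹ = e ^ k →
      ((hev z z.2).choose : ZMod p) = k := fun z k hk => by
    have := pow_eq_pow_iff_modEq.mp ((hev z z.2).choose_spec.symm.trans hk)
    rwa [hord, ← ZMod.natCast_eq_natCast_iff] at this
  let ev : A →* (ZMod p)ˣ := MonoidHom.toHomUnits
    { toFun := fun z => ((hev z z.2).choose : ZMod p)
      map_one' := (hchoose (1 : A) 1 (by simp)).trans Nat.cast_one
      map_mul' := fun a b => by
        have e1 := (hev a a.2).choose_spec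
        have e2 := (hev b b.2).choose_spec
        rw [hchoose (a * b) ((hev a a.2).choose * (hev b b.2).choose) ?_, Nat.cast_mul]
        rw [pow_mul, ← e1, conj_pow, ← e2]
        simp [mul_assoc] }
  have hev' : ∀ z : A, (z : X) * e * (z : X)⁻¹ = e ^ ((ev z : ZMod p)).val := fun z => by
    refine ((hev z z.2).choose_spec).trans (pow_eq_pow_iff_modEq.mpr ?_)
    rw [hord, ← ZMod.natCast_eq_natCast_iff, ZMod.natCast_zmod_val]
    rfl
  have hev1 : ∀ z : A, ev z = 1 ↔ (z : X) * e = e * z := fun z => by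
    constructor
    · intro e0
      have := hev' z
      rwa [e0, Units.val_one, ZMod.val_one, pow_one, mul_inv_eq_iff_eq_mul] at this
    · intro e0
      refine Units.ext ((hchoose z 1 ?_).trans Nat.cast_one)
      rw [e0, mul_inv_cancel_right, pow_one]
  have hker : ev.ker = (A ⊓ centralizer ({e} : Set X)).subgroupOf A := by
    ext z
    rw [MonoidHom.mem_ker, hev1, mem_subgroupOf]
    exact ⟨fun e0 => ⟨z.2, mem_centralizer_singleton_iff.mpr e0⟩,
      fun e0 => mem_centralizer_singleton_iff.mp e0.2⟩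
  have hdvd : Nat.card ev.range ∣ (p - 1) / 2 := by
    have h1 : Nat.card ev.range ∣ p - 1 := by
      have := card_subgroup_dvd_card ev.range
      rwa [Nat.card_eq_fintype_card (α := (ZMod p)ˣ), ZMod.card_units] at this
    have h2 : Odd (Nat.card ev.range) :=
      h.A_odd.of_dvd_nat ((index_ker ev) ▸ index_dvd_card _)
    have hpo : Odd p := h.hp.odd_of_ne_two h.hp2
    obtain ⟨m, hm⟩ := hpo
    rw [show (p - 1) / 2 = m by omega]
    rw [show p - 1 = 2 * m by omega] at h1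
    exact (Nat.coprime_two_right.mpr h2).dvd_of_dvd_mul_left h1
  have hwA : ∀ (i : ℕ) (z : A), (w ^ i)⁻¹ * z * w ^ i ∈ A := fun i z => by
    simpa using h.conjA _ (W.inv_mem (W.pow_mem hw i)) z z.2
  let evAt : ℕ → A →* (ZMod p)ˣ := fun i => ev.comp
    { toFun := fun z => ⟨(w ^ i)⁻¹ * z * w ^ i, hwA i z⟩
      map_one' := Subtype.ext (by simp)
      map_mul' := fun a b => Subtype.ext (by simp [mul_assoc]) }
  have hAt1 : ∀ i (z : A), evAt i z = 1 ↔
      (z : X) * (w ^ i * e * (w ^ i)⁻¹) = w ^ i * e * (w ^ i)⁻¹ * z := fun i z => by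
    refine (hev1 ⟨_, hwA i z⟩).trans ?_
    constructor
    · intro e0
      calc (z : X) * (w ^ i * e * (w ^ i)⁻¹) = w ^ i * (((w ^ i)⁻¹ * z * w ^ i) * e) * (w ^ i)⁻¹ := by
            group
        _ = w ^ i * (e * ((w ^ i)⁻¹ * z * w ^ i)) * (w ^ i)⁻¹ := congrArg (fun t => w ^ i * t * (w ^ i)⁻¹) e0
        _ = w ^ i * e * (w ^ i)⁻¹ * z := by group
    · intro e0
      calc (w ^ i)⁻¹ * z * w ^ i * e = (w ^ i)⁻¹ * ((z : X) * (w ^ i * e * (w ^ i)⁻¹)) * w ^ i := by
            group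
        _ = e * ((w ^ i)⁻¹ * z * w ^ i) := by rw [e0]; group
  have hfaith : ∀ z : A, (∀ i < q, evAt i z = 1) → z = 1 := fun z hz => by
    refine Subtype.ext (h.faith z z.2 fun x hx => ?_)
    have hle := hgen (centralizer ({(z : X)} : Set X)) fun i hi =>
      mem_centralizer_singleton_iff.mpr ((hAt1 i z).mp (hz i hi)).symm
    exact (mem_centralizer_singleton_iff.mp (hle hx)).symm
  have hwq : w ^ q = 1 := by
    have h1 : (⟨w, hw⟩ : W) ^ Nat.card W = 1 := pow_card_eq_one'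
    rw [h.card_W] at h1
    exact congrArg Subtype.val h1
  have hprod : ∀ z : A, ∏ i ∈ Finset.range q, evAt i z = 1 := by
    intro z
    let f : A → A := fun v =>
      ⟨w * v * w⁻¹ * (v : X)⁻¹, A.mul_mem (h.conjA w hw v v.2) (A.inv_mem v.2)⟩
    have hf : Function.Injective f := by
      intro a b hab
      have e0 : w * a * w⁻¹ * (a : X)⁻¹ = w * b * w⁻¹ * (b : X)⁻¹ := congrArg Subtype.val hab
      refine Subtype.ext (inv_mul_eq_one.mp (h.fpf w hw hw1 _ (A.mul_mem (A.inv_mem b.2) a.2) ?_)).symm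
      have e1 : w * a * w⁻¹ = w * b * w⁻¹ * (b : X)⁻¹ * a := by rw [← e0]; group
      calc w * ((b : X)⁻¹ * a) = (w * b * w⁻¹)⁻¹ * (w * a * w⁻¹) * w := by group
        _ = (b : X)⁻¹ * a * w := by rw [e1]; group
    obtain ⟨v, rfl⟩ := (Finite.injective_iff_surjective.mp hf) z
    have hshift : ∀ (i : ℕ) (x : A), evAt (i + 1) ⟨w * x * w⁻¹, h.conjA w hw x x.2⟩ = evAt i x :=
      fun i x => congrArg ev (Subtype.ext
        (show (w ^ (i + 1))⁻¹ * (w * x * w⁻¹) * w ^ (i + 1) = (w ^ i)⁻¹ * x * w ^ i by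
          rw [pow_succ']; group))
    have hq : ∀ x : A, evAt q x = evAt 0 x := fun x => congrArg ev
      (Subtype.ext (show (w ^ q)⁻¹ * x * w ^ q = (w ^ 0)⁻¹ * x * w ^ 0 by rw [hwq, pow_zero]))
    obtain ⟨wv, hwv⟩ : ∃ wv : A, wv = ⟨w * v * w⁻¹, h.conjA w hw v v.2⟩ := ⟨_, rfl⟩
    have e1 : ∏ i ∈ Finset.range q, evAt i wv = ∏ i ∈ Finset.range q, evAt i v := by
      have e2 := Finset.prod_range_succ' (fun i => evAt i wv) q
      rw [Finset.prod_range_succ, hq] at e2
      rw [mul_right_cancel e2, hwv]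
      exact Finset.prod_congr rfl fun i _ => hshift i v
    have hfv : f v = wv * v⁻¹ := Subtype.ext (by rw [hwv]; rfl)
    simp only [hfv, map_mul, map_inv, Finset.prod_mul_distrib, Finset.prod_inv_distrib, e1,
      mul_inv_cancel]
  refine ⟨?_, ?_, ?_⟩
  · rw [relIndex, ← hker, index_ker]
    exact hdvd
  · let Ψ : A →* (Fin (q - 1) → ev.range) :=
      MonoidHom.mk' (fun z i => ⟨evAt i z, ⟨_, rfl⟩⟩)
        fun x y => funext fun i => Subtype.ext (map_mul _ _ _)
    have hinj : Function.Injective Ψ := (injective_iff_map_eq_one Ψ).mpr fun z e1 => by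
      have hsmall : ∀ i < q - 1, evAt i z = 1 := fun i hi =>
        congrArg Subtype.val (congrFun e1 ⟨i, hi⟩)
      refine hfaith z fun i hi => ?_
      rcases Nat.lt_or_ge i (q - 1) with h1 | h1
      · exact hsmall i h1
      · have e2 := hprod z
        rw [show q = (q - 1) + 1 by omega, Finset.prod_range_succ,
          Finset.prod_eq_one fun j hj => hsmall j (Finset.mem_range.mp hj), one_mul] at e2
        rw [show i = q - 1 by omega]
        exact e2
    refine (Nat.card_le_card_of_injective Ψ hinj).trans ?_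
    rw [Nat.card_fun, Nat.card_eq_fintype_card (α := Fin (q - 1)), Fintype.card_fin]
    refine Nat.pow_le_pow_left (Nat.le_of_dvd ?_ hdvd) _
    have := h.hp.two_le; have := h.hp2
    omega
  · letI : CommGroup P :=
      { (inferInstance : Group P) with
        mul_comm := fun a b => Subtype.ext (h.comm _ a.2 _ b.2) }
    have := Fintype.ofFinite (P →* ℂˣ)
    have hline : ∀ i : Fin q, w ^ (i : ℕ) * e * (w ^ (i : ℕ))⁻¹ ∈ P := fun i =>
      h.conjP _ (.inr (W.pow_mem hw i)) e he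
    have hroot : ∀ (l : P →* ℂˣ) (x : P), l x ∈ rootsOfUnity p ℂ := fun l x => by
      rw [mem_rootsOfUnity, ← map_pow,
        show x ^ p = 1 from Subtype.ext (by rw [Subgroup.coe_pow]; exact h.exp _ x.2), map_one]
    let res : (P →* ℂˣ) → (Fin q → rootsOfUnity p ℂ) :=
      fun l i => ⟨l ⟨_, hline i⟩, hroot l _⟩
    have hres : Function.Injective res := by
      intro l l' hll
      refine MonoidHom.ext fun x => ?_
      have hle := hgen ((MonoidHom.eqLocus l l').map P.subtype) fun i hi =>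
        ⟨⟨_, hline ⟨i, hi⟩⟩, congrArg Subtype.val (congrFun hll ⟨i, hi⟩), rfl⟩
      obtain ⟨y, hy, hxy⟩ := hle x.2
      rwa [Subtype.ext hxy] at hy
    have : NeZero p := ⟨h.hp.ne_zero⟩
    have hbij : Function.Bijective res := by
      refine (Nat.bijective_iff_injective_and_card res).mpr ⟨hres, ?_⟩
      rw [CommGroup.card_monoidHom_of_hasEnoughRootsOfUnity P ℂ, h.card_P, Nat.card_fun,
        Nat.card_eq_fintype_card (α := Fin q), Fintype.card_fin, Complex.card_rootsOfUnity]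
    refine ⟨Finset.univ.filter fun l => ∀ i, res l i ≠ 1, ?_, fun l hl a ha hfix => ?_⟩
    · have hc : Fintype.card {l : P →* ℂˣ // ∀ i, res l i ≠ 1} = (p - 1) ^ q := by
        have := Fintype.ofFinite (rootsOfUnity p ℂ)
        refine (Fintype.card_congr (β := {v : Fin q → rootsOfUnity p ℂ // ∀ i, v i ≠ 1})
          ((Equiv.ofBijective res hbij).subtypeEquiv fun l => Iff.rfl)).trans ?_
        rw [
          Fintype.card_congr (Equiv.subtypePiEquivPi (p := fun _ (v : rootsOfUnity p ℂ) => v ≠ 1)),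
          Fintype.card_fun, Fintype.card_fin, Fintype.card_subtype_compl, Fintype.card_subtype_eq,
          ← Nat.card_eq_fintype_card, Complex.card_rootsOfUnity]
      rw [← Fintype.card_subtype, hc]
    · rw [Finset.mem_filter] at hl
      refine congrArg Subtype.val (hfaith ⟨a, ha⟩ fun i hi => ?_)
      obtain ⟨k, hk⟩ : ∃ k, k = ((evAt i ⟨a, ha⟩ : ZMod p)).val := ⟨_, rfl⟩
      have e1 : a * (w ^ i * e * (w ^ i)⁻¹) * a⁻¹ = (w ^ i * e * (w ^ i)⁻¹) ^ k := by
        have := hev' ⟨_, hwA i ⟨a, ha⟩⟩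
        rw [conj_pow, hk, ← show ((w ^ i)⁻¹ * a * w ^ i) * e * ((w ^ i)⁻¹ * a * w ^ i)⁻¹ =
          e ^ ((evAt i ⟨a, ha⟩ : ZMod p)).val from this]
        group
      have e2 := hfix ⟨_, hline ⟨i, hi⟩⟩ (⟨_, hline ⟨i, hi⟩⟩ ^ k) (by
        rw [Subgroup.coe_pow]; exact e1.symm)
      rw [map_pow] at e2
      have hone : l ⟨_, hline ⟨i, hi⟩⟩ ≠ 1 := fun e0 => hl.2 ⟨i, hi⟩ (Subtype.ext e0)
      have ho : orderOf (l ⟨_, hline ⟨i, hi⟩⟩) = p :=
        orderOf_eq_prime (hroot l _) hone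
      have e3 := e2.trans (pow_one _).symm
      rw [pow_eq_pow_iff_modEq, ho, ← ZMod.natCast_eq_natCast_iff, hk, ZMod.natCast_zmod_val,
        Nat.cast_one] at e3
      exact Units.ext e3

end Line

end ElemAction

open ElemAction in
/-- An abelian group of odd order acting faithfully, and irreducibly together with a group of prime
order `q` normalising it without fixed points, on an elementary abelian group of order `p ^ q`. -/
theorem elem_action {X : Type u} [Group X] [Finite X] (P A W : Subgroup X) {p q : ℕ} (hp : p.Prime)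
    (hq : q.Prime) (hp2 : p ≠ 2) (_hq2 : q ≠ 2) (hP : Cfsg.IsElementaryAbelian p P)
    (hcard : Nat.card P = p ^ q) (hA : IsMulCommutative A) (hAodd : Odd (Nat.card A))
    (hAP : A ≤ Subgroup.normalizer (P : Set X)) (hWP : W ≤ Subgroup.normalizer (P : Set X))
    (hWA : W ≤ Subgroup.normalizer (A : Set X)) (hWc : Nat.card W = q)
    (hfaith : A ⊓ Subgroup.centralizer (P : Set X) = ⊥)
    (hfpf : ∀ w ∈ W, w ≠ 1 → ∀ a ∈ A, w * a = a * w → a = 1)
    (hfix : Nat.card ↥(P ⊓ Subgroup.centralizer (W : Set X)) = p)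
    (hirr : ∀ N : Subgroup X, N ≤ P → A ≤ Subgroup.normalizer (N : Set X) →
      W ≤ Subgroup.normalizer (N : Set X) → N = ⊥ ∨ N = P) :
    Nat.card A * (p - 1) ≤ p ^ q - 1 ∧
      ((IsCyclic A ∧ ∀ a ∈ A, a ≠ 1 → ∀ x ∈ P, a * x = x * a → x = 1) ∨
        ∃ e ∈ P, e ≠ 1 ∧ (∀ a ∈ A, ∃ k : ℕ, a * e * a⁻¹ = e ^ k) ∧
          (∀ N : Subgroup X, (∀ w ∈ W, w * e * w⁻¹ ∈ N) → P ≤ N) ∧
          (A ⊓ Subgroup.centralizer ({e} : Set X)).relIndex A ∣ (p - 1) / 2 ∧
          Nat.card A ≤ ((p - 1) / 2) ^ q ∧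
          ∃ s : Finset (P →* ℂˣ), (p - 1) ^ q ≤ s.card ∧
            ∀ l ∈ s, ∀ a ∈ A, (∀ x y : P, (y : X) = a * x * a⁻¹ → l y = l x) → a = 1) := by
  have h : Ctx P A W p q :=
    { hp := hp, hq := hq, hp2 := hp2
      comm := fun a ha b hb => congrArg Subtype.val (hP.1.1.1 ⟨a, ha⟩ ⟨b, hb⟩)
      exp := hP.2, card_P := hcard
      A_comm := fun a ha b hb => congrArg Subtype.val (hA.1.1 ⟨a, ha⟩ ⟨b, hb⟩)
      A_odd := hAodd
      conjP := fun a ha x hx => (Subgroup.mem_normalizer_iff.mp (ha.elim (fun h => hAP h)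
        fun h => hWP h) x).mp hx
      conjA := fun w hw a ha => (Subgroup.mem_normalizer_iff.mp (hWA hw) a).mp ha
      card_W := hWc
      faith := fun a ha hc => by
        have : a ∈ A ⊓ Subgroup.centralizer (P : Set X) :=
          ⟨ha, Subgroup.mem_centralizer_iff.mpr fun x hx => (hc x hx).symm⟩
        rwa [hfaith, Subgroup.mem_bot] at this
      fpf := hfpf, fix := hfix, irr := hirr }
  by_cases hgal : ∀ N : Subgroup X, N ≤ P → A ≤ Subgroup.normalizer (N : Set X) → N = ⊥ ∨ N = P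
  · have hsr := semiregular_of h hgal
    exact ⟨bound_of_semiregular h hsr, .inl ⟨isCyclic_of h hsr, hsr⟩⟩
  · obtain ⟨w, hw, hw1⟩ := (W.bot_or_exists_ne_one).resolve_left fun e => by
      rw [e, Subgroup.card_bot] at hWc; exact hq.one_lt.ne hWc
    obtain ⟨e, he, hord, hev, hgen⟩ := exists_line h hw hw1 hgal
    obtain ⟨hdvd, hle, hs⟩ := line_bounds h hw hw1 he hord hev hgen
    have hm : 1 ≤ (p - 1) / 2 := by have := hp.two_le; omega
    refine ⟨?_, .inr ⟨e, he, fun e0 => hp.one_lt.ne' (by rw [← hord, e0, orderOf_one]), hev,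
      fun N hN => hgen N fun i _ => hN _ (W.pow_mem hw i), hdvd,
      hle.trans (Nat.pow_le_pow_right hm (Nat.sub_le _ _)), hs⟩⟩
    calc Nat.card A * (p - 1) ≤ (p - 1) ^ (q - 1) * (p - 1) :=
          Nat.mul_le_mul_right _ (hle.trans (Nat.pow_le_pow_left (Nat.div_le_self _ _) _))
      _ = (p - 1) ^ q := by rw [← pow_succ, Nat.sub_add_cancel hq.one_le]
      _ ≤ p ^ q - 1 := Nat.le_sub_one_of_lt
          (Nat.pow_lt_pow_left (Nat.sub_lt hp.pos one_pos) hq.ne_zero)

end CfsgLib.PF.Base
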