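import Cfsg.Agent.Lib.Clifford.InvariantCentral
import Cfsg.Agent.Lib.Clifford.Correspondence
import Cfsg.Agent.Lib.Char.Linear

/-!
# Characters induced from a linear character of a direct product of normal subgroups; full ramification

A linear character of `H` with stabiliser `H ⊔ C`, `C` centralising `H`, gives an irreducible
character of degree `[X : H ⊔ C]`. A nondegenerate commutator pairing into the centre makes the
index a square.
-/

set_option autoImplicit false
set_option maxHeartbeats 400000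

namespace CfsgLib.PF.Base

open scoped Classical ComplexConjugate
open CfsgLib

universe u

variable {X : Type u} [Group X] [Fintype X]

theorem sum_linear_units {Y : Type u} [Group Y] [Fintype Y] (χ : Y →* ℂˣ) :
    ∑ a : Y, (χ a : ℂ) = if χ = 1 then (Fintype.card Y : ℂ) else 0 := by
  have h := sum_hom_units ((Units.coeHom ℂ).comp χ)
  simp only [MonoidHom.coe_comp, Function.comp_apply, Units.coeHom_apply] at h
  rw [h]
  push_cast
  refine if_congr ⟨fun e => MonoidHom.ext fun a => Units.ext ?_, fun e => by rw [e]; ext; simp⟩ rfl rfl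
  simpa using DFunLike.congr_fun e a

/-- The sum of the conjugates of a linear character of a normal subgroup determines its orbit. -/
theorem exists_conj_of_sum_eq {H : Subgroup X} [H.Normal] (l l' : H →* ℂˣ)
    (h : ∀ a : H, ∑ x : X, (l (MulAut.conjNormal x⁻¹ a) : ℂ) =
      ∑ x : X, (l' (MulAut.conjNormal x⁻¹ a) : ℂ)) :
    ∃ x : X, ∀ a : H, l (MulAut.conjNormal x⁻¹ a) = l' a := by
  have := Fintype.ofFinite H
  by_contra hn
  push Not at hn
  set f : (H →* ℂˣ) → X → (H →* ℂˣ) :=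
    fun k x => k.comp (MulAut.conjNormal (H := H) x⁻¹).toMonoidHom * l'⁻¹ with hf
  have hz : ∀ k : H →* ℂˣ, (∑ a : H, (∑ x : X, (k (MulAut.conjNormal x⁻¹ a) : ℂ)) * (l'⁻¹ a : ℂ)) =
      ∑ x : X, if f k x = 1 then (Fintype.card H : ℂ) else 0 := by
    intro k
    simp only [Finset.sum_mul]
    rw [Finset.sum_comm]
    refine Finset.sum_congr rfl fun x _ => ?_
    rw [← sum_linear_units]
    exact Finset.sum_congr rfl fun a _ => by simp [hf]
  have e := (hz l).symm.trans ((Finset.sum_congr rfl fun a _ => by rw [h a]).trans (hz l'))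
  rw [Finset.sum_eq_zero fun x _ => if_neg ?_] at e
  · rw [← Finset.sum_filter, Finset.sum_const, nsmul_eq_mul, eq_comm, mul_eq_zero] at e
    refine e.elim (fun e => ?_) fun e => Fintype.card_ne_zero (α := H) (by exact_mod_cast e)
    have h1 : (1 : X) ∈ Finset.univ.filter (fun x => f l' x = 1) := by
      refine Finset.mem_filter.mpr ⟨Finset.mem_univ _, MonoidHom.ext fun a => ?_⟩
      simp [hf]
    rw [Nat.cast_eq_zero, Finset.card_eq_zero] at e
    rw [e] at h1
    exact Finset.notMem_empty _ h1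
  · intro hx
    obtain ⟨a, ha⟩ := hn x
    have := DFunLike.congr_fun hx a
    simp only [hf, MonoidHom.mul_apply, MonoidHom.coe_comp, MulEquiv.coe_toMonoidHom,
      Function.comp_apply, MonoidHom.inv_apply, MonoidHom.one_apply, mul_inv_eq_one] at this
    exact ha this

/-- The character induced from the extension of `l` trivial on `C`. -/
theorem induced_irr {H C : Subgroup X} [H.Normal] [C.Normal] (hdis : H ⊓ C = ⊥) (l : H →* ℂˣ)
    (hstab : ∀ x : X, (∀ a : H, l (MulAut.conjNormal x a) = l a) → x ∈ H ⊔ C)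
    (M : Subgroup X) (hMH : M ≤ H) (hM : M.Normal) (hlM : ∀ a : H, (a : X) ∈ M → l a = 1) :
    ∃ θ : X → ℂ, Cfsg.IsIrrCharacter X θ ∧ θ 1 = ((H ⊔ C).index : ℂ) ∧
      (∀ y ∈ M ⊔ C, θ y = θ 1) ∧
      (∀ a : H, θ a = (Nat.card ↥(H ⊔ C) : ℂ)⁻¹ * ∑ x : X, (l (MulAut.conjNormal x⁻¹ a) : ℂ)) ∧
      ∀ e : X ≃* X, (∀ a, e a ∈ H ↔ a ∈ H) → (∀ c, e c ∈ C ↔ c ∈ C) →
        (∀ a b : H, (b : X) = e a → l b = l a) → ∀ y, θ (e y) = θ y := by
  have hcomm : ∀ a ∈ H, ∀ c ∈ C, a * c = c * a := fun a ha c hc =>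
    (Subgroup.commute_of_normal_of_disjoint H C ‹_› ‹_› (disjoint_iff.mpr hdis) a c ha hc).eq
  let φ : H × C →* X := MonoidHom.noncommCoprod H.subtype C.subtype fun a c => hcomm a a.2 c c.2
  have hφinj : Function.Injective φ := by
    refine (injective_iff_map_eq_one φ).mpr fun x hx => ?_
    have hx' : (x.1 : X) * (x.2 : X) = 1 := hx
    have h1 : (x.1 : X) ∈ H ⊓ C :=
      ⟨x.1.2, by rw [eq_inv_of_mul_eq_one_left hx']; exact C.inv_mem x.2.2⟩
    rw [hdis, Subgroup.mem_bot] at h1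
    rw [h1, one_mul] at hx'
    exact Prod.ext (Subtype.ext h1) (Subtype.ext hx')
  have hrange : φ.range = H ⊔ C := by
    refine (MonoidHom.noncommCoprod_range H.subtype C.subtype _).trans ?_
    rw [Subgroup.range_subtype, Subgroup.range_subtype]
  let e₀ : H × C ≃* ↥(H ⊔ C) :=
    (MonoidHom.ofInjective hφinj).trans (MulEquiv.subgroupCongr hrange)
  set L : ↥(H ⊔ C) →* ℂˣ := (l.comp (MonoidHom.fst H C)).comp e₀.symm.toMonoidHom with hL
  have hLval : ∀ (a : H) (c : C) (hm : (a : X) * c ∈ H ⊔ C), L ⟨(a : X) * c, hm⟩ = l a := by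
    intro a c hm
    have : (⟨(a : X) * c, hm⟩ : ↥(H ⊔ C)) = e₀ (a, c) := Subtype.ext rfl
    rw [this, hL]
    simp
  have hLH : ∀ a : H, L ⟨a, Subgroup.mem_sup_left a.2⟩ = l a := fun a => by
    rw [← hLval a 1 (by simpa using Subgroup.mem_sup_left a.2)]
    congr 1
    exact Subtype.ext (mul_one _).symm
  have hsplit : ∀ y ∈ H ⊔ C, ∃ (a : H) (c : C), y = a * c := fun y hy => by
    rw [← hrange] at hy
    obtain ⟨⟨a, c⟩, rfl⟩ := hy
    exact ⟨a, c, rfl⟩
  set I := Cfsg.indFun (H ⊔ C) (fun y => (L y : ℂ)) with hI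
  have hLirr : Cfsg.IsIrrCharacter ↥(H ⊔ C) (fun y => (L y : ℂ)) := Char.isIrrCharacter_linear L
  have := Fintype.ofFinite ↥(H ⊔ C)
  have hext : ∀ y : X, ∀ hy : y ∈ H ⊔ C,
      Cfsg.extendByZero (H ⊔ C) (fun y => (L y : ℂ)) y = (L ⟨y, hy⟩ : ℂ) :=
    fun y hy => Char.extendByZero_of_mem _ hy
  have hker : ∀ y ∈ M ⊔ C, I y = I 1 := by
    intro y hy
    rw [hI, Char.indFun_def, Char.indFun_def]
    congr 1
    refine Finset.sum_congr rfl fun x _ => ?_
    have hxy : x⁻¹ * y * x ∈ M ⊔ C := (Subgroup.sup_normal M C).conj_mem' y hy x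
    obtain ⟨m, hm, c, hc, he⟩ := Subgroup.mem_sup_of_normal_right.mp hxy
    rw [hext _ (sup_le_sup_right hMH C hxy), show x⁻¹ * 1 * x = 1 by group, hext _ (one_mem _)]
    have : (⟨x⁻¹ * y * x, sup_le_sup_right hMH C hxy⟩ : ↥(H ⊔ C)) =
        ⟨((⟨m, hMH hm⟩ : H) : X) * ((⟨c, hc⟩ : C) : X), Subgroup.mul_mem_sup (hMH hm) hc⟩ :=
      Subtype.ext he.symm
    rw [this, hLval, hlM _ hm, show (⟨1, one_mem _⟩ : ↥(H ⊔ C)) = 1 from rfl, map_one]
  refine ⟨I, Char.isIrrCharacter_iff.mpr ⟨Char.isCharacter_indFun _ (Char.irr_isCharacter hLirr), ?_⟩,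
    ?_, hker, ?_, ?_⟩
  · rw [hI, Clifford.classInner_indFun_indFun hLirr hLirr, inv_mul_eq_one₀ Char.natCard_ne_zero,
      Nat.cast_inj]
    refine (Nat.card_congr (Equiv.subtypeEquivRight fun x => ⟨fun hx => ?_, fun hx => ?_⟩)).symm
    · refine hstab x fun a => ?_
      have h1 := congrFun hx ⟨a, Subgroup.mem_sup_left a.2⟩
      refine Units.ext ?_
      rw [← hLH, ← hLH]
      exact h1
    · exact Clifford.mem_inertia_iff_conjFn.mp
        (Clifford.le_inertia (Char.irr_isClassFunction hLirr) hx)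
  · rw [hI, Char.indFun_apply_one]; simp
  · intro a
    rw [hI, Char.indFun_def]
    congr 1
    refine Finset.sum_congr rfl fun x _ => ?_
    have hxa : x⁻¹ * (a : X) * x ∈ H := Subgroup.Normal.conj_mem' ‹_› _ a.2 x
    rw [hext _ (Subgroup.mem_sup_left hxa), show (⟨x⁻¹ * a * x, Subgroup.mem_sup_left hxa⟩ : ↥(H ⊔ C)) =
      ⟨(MulAut.conjNormal x⁻¹ a : H), Subgroup.mem_sup_left (Subtype.coe_prop _)⟩ from
        Subtype.ext (by simp), hLH]
  · intro e heH heC hel y
    rw [hI, Char.indFun_def, Char.indFun_def]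
    congr 1
    rw [← Equiv.sum_comp e.toEquiv]
    refine Finset.sum_congr rfl fun x _ => ?_
    rw [show (e.toEquiv x)⁻¹ * e y * e.toEquiv x = e (x⁻¹ * y * x) by simp]
    set z := x⁻¹ * y * x with hz
    by_cases hzm : z ∈ H ⊔ C
    · obtain ⟨a, c, hac⟩ := hsplit z hzm
      have hem : e z ∈ H ⊔ C := by
        rw [hac, map_mul]; exact Subgroup.mul_mem_sup ((heH a).mpr a.2) ((heC c).mpr c.2)
      rw [hext _ hem, hext _ hzm]
      have e1 : (⟨e z, hem⟩ : ↥(H ⊔ C)) = ⟨((⟨e a, (heH a).mpr a.2⟩ : H) : X) *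
          ((⟨e c, (heC c).mpr c.2⟩ : C) : X), Subgroup.mul_mem_sup ((heH a).mpr a.2) ((heC c).mpr c.2)⟩ :=
        Subtype.ext (show e z = e a * e c by rw [hac, map_mul])
      have e2 : (⟨z, hzm⟩ : ↥(H ⊔ C)) = ⟨(a : X) * c, Subgroup.mul_mem_sup a.2 c.2⟩ := Subtype.ext hac
      rw [e1, hLval, e2, hLval, hel a _ rfl]
    · have hem : e z ∉ H ⊔ C := by
        intro hm
        obtain ⟨a, c, hac⟩ := hsplit _ hm
        refine hzm ?_
        rw [← e.symm_apply_apply z, hac, map_mul]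
        refine Subgroup.mul_mem_sup ((heH _).mp ?_) ((heC _).mp ?_) <;> rw [e.apply_symm_apply]
        exacts [a.2, c.2]
      rw [Char.extendByZero_of_not_mem _ hem, Char.extendByZero_of_not_mem _ hzm]

/-- A nondegenerate commutator pairing into the centre: the index is a square. -/
theorem exists_sq_eq_index (Z : Subgroup X) (hZ : Z ≤ Subgroup.center X) (lam : Z →* ℂˣ)
    (hnd : ∀ x ∉ Z, ∃ (y : X) (c : Z), (c : X) = x⁻¹ * y * x * y⁻¹ ∧ lam c ≠ 1) :
    ∃ d : ℕ, d ^ 2 = Z.index := by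
  have := Fintype.ofFinite Z
  have hlc : Cfsg.IsCharacter X (Cfsg.indFun Z (fun z => (lam z : ℂ))) :=
    Char.isCharacter_indFun _ (Char.irr_isCharacter (Char.isIrrCharacter_linear lam))
  obtain ⟨χ, hχ, hne⟩ := Char.exists_constituent hlc (by
    rw [Char.indFun_apply_one]; simp [Subgroup.index_ne_zero_of_finite])
  obtain ⟨d, -, hd⟩ := Char.irr_apply_one_pos hχ
  have hres : Cfsg.classInner (fun z : Z => χ z) (fun z : Z => (lam z : ℂ)) ≠ 0 := by
    intro h0
    refine hne ?_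
    rw [Char.frobenius_reciprocity Z _ χ (Char.irr_isClassFunction hχ), ← Char.classInner_conj_symm,
      h0, map_zero]
  have hmul := Clifford.InvariantCentral.apply_mul_of_central Z hZ lam hχ hres
  have hvan : ∀ x ∉ Z, χ x = 0 := by
    intro x hx
    obtain ⟨y, c, hc, hc1⟩ := hnd x hx
    have e := hmul x c
    rw [show x * (c : X) = y * x * y⁻¹ by rw [hc]; group, Char.irr_isClassFunction hχ x y] at e
    by_contra h0
    exact hc1 (Units.ext (by simpa using (mul_eq_right₀ h0).mp e.symm))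
  refine ⟨d, ?_⟩
  have hnorm := Char.irr_classInner_self hχ
  rw [Char.classInner_def, inv_mul_eq_one₀ Char.natCard_ne_zero,
    ← Finset.sum_subset (Finset.subset_univ (Finset.univ.filter (· ∈ Z))) (fun x _ hx => by
      rw [hvan x (fun hm => hx (Finset.mem_filter.mpr ⟨Finset.mem_univ _, hm⟩)), zero_mul]),
    Finset.sum_subtype (p := fun x => x ∈ Z) _ (by simp) (fun x => χ x * conj (χ x))] at hnorm
  have key : ∀ z : Z, χ z * conj (χ z) = ((d ^ 2 : ℕ) : ℂ) := by
    intro z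
    have e := hmul 1 z
    rw [one_mul, hd] at e
    have h1 : (lam z : ℂ) * conj (lam z : ℂ) = 1 := by
      have hn : ‖(lam z : ℂ)‖ = 1 := Char.norm_eigen_eq_one (orderOf_pos z) (by
        rw [← Units.val_pow_eq_pow_val, ← map_pow, pow_orderOf_eq_one, map_one, Units.val_one])
      rw [Complex.mul_conj', hn]; norm_num
    rw [e, map_mul, map_natCast]
    push_cast
    linear_combination (d : ℂ) ^ 2 * h1
  rw [Finset.sum_congr rfl fun z _ => key z, Finset.sum_const, Finset.card_univ,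
    ← Nat.card_eq_fintype_card, nsmul_eq_mul] at hnorm
  have h2 : Nat.card X = Nat.card Z * d ^ 2 := by exact_mod_cast hnorm
  rw [← Subgroup.card_mul_index Z] at h2
  exact (Nat.eq_of_mul_eq_mul_left Nat.card_pos h2).symm

end CfsgLib.PF.Base
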