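import Cfsg.Agent.Lib.PF.Base.Setting
import Cfsg.Agent.Lib.PF.Base.ElemAction
import Cfsg.Agent.Lib.PLocal.PairControl

/-!
# The action of `U` on the quotient `H / M₀`

For type P data with prime orders, `u = [U : C]` for `C = U ⊓ C(H)` satisfies
`u (p - 1) ≤ p ^ q - 1`, and either `U / C` is cyclic, irreducible and semiregular on `H / M₀`,
or `u` is small and `H / M₀` has many linear characters with stabiliser `C`.
-/

set_option autoImplicit false
set_option maxHeartbeats 1000000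
set_option linter.unusedSectionVars false

namespace CfsgLib.PF.Base

open Subgroup ElemAction
open scoped commutatorElement

universe u

namespace Pre

variable {G : Type u} [Group G] [Finite G] {S W₁ W₂ U : Subgroup G} (h : Pre S W₁ W₂ U)

include h

local notation "H" => Cfsg.fittingHallOf S
local notation "M₀" => Cfsg.fittingHallOf S ⊓ centralizer (U : Set G)
local notation "C" => U ⊓ centralizer (Cfsg.fittingHallOf S : Set G)
local notation "p" => Nat.card W₂
local notation "q" => Nat.card W₁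

theorem conj_H {x : G} (hx : x ∈ S) {y : G} (hy : y ∈ H) : x * y * x⁻¹ ∈ H :=
  (mem_normalizer_iff.mp (h.S_normalizes hx) y).mp hy

theorem conj_U {w : G} (hw : w ∈ W₁) {u : G} (hu : u ∈ U) : w * u * w⁻¹ ∈ U :=
  (mem_normalizer_iff.mp (h.data.U_normal hw) u).mp hu

theorem C_le : C ≤ S := inf_le_left.trans h.U_le

theorem conj_C {x : G} (hx : x ∈ S) {c : G} (hc : c ∈ C) : x * c * x⁻¹ ∈ C := by
  have hcen : ∀ {a : G}, a ∈ S → a * c * a⁻¹ ∈ centralizer (H : Set G) := fun {a} ha =>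
    mem_centralizer_iff.mpr fun y hy => by
      have h1 := mem_centralizer_iff.mp hc.2 _ (h.conj_H (S.inv_mem ha) hy)
      calc y * (a * c * a⁻¹) = a * (a⁻¹ * y * a⁻¹⁻¹ * c) * a⁻¹ := by group
        _ = a * (c * (a⁻¹ * y * a⁻¹⁻¹)) * a⁻¹ := by rw [h1]
        _ = a * c * a⁻¹ * y := by group
  refine ⟨?_, hcen hx⟩
  obtain ⟨d, hd, w, hw, rfl⟩ := h.data.W₁_compl.2.2.2 x hx
  obtain ⟨a, ha, b, hb, rfl⟩ := h.data.U_compl.2.2.2 d hd
  have h1 : b * (w * c * w⁻¹) * b⁻¹ ∈ U := U.mul_mem (U.mul_mem hb (h.conj_U hw hc.1)) (U.inv_mem hb)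
  have h2 : b * (w * c * w⁻¹) * b⁻¹ ∈ centralizer (H : Set G) := by
    have := hcen (S.mul_mem (h.U_le hb) (h.W₁_le hw))
    rwa [show b * w * c * (b * w)⁻¹ = b * (w * c * w⁻¹) * b⁻¹ by group] at this
  rw [show a * b * w * c * (a * b * w)⁻¹ = a * (b * (w * c * w⁻¹) * b⁻¹) * a⁻¹ by group,
    mem_centralizer_iff.mp h2 a ha, mul_inv_cancel_right]
  exact h1

theorem commutator_U_le_C : ⁅U, U⁆ ≤ C :=
  le_inf (commutator_le.mpr fun a ha b hb =>
    U.mul_mem (U.mul_mem (U.mul_mem ha hb) (U.inv_mem ha)) (U.inv_mem hb)) h.commutator_U_le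

/-- An element of `U` centralising `H / M₀` centralises `H`. -/
theorem mem_C_of_stable {u : G} (hu : u ∈ U)
    (hs : ∀ x ∈ H, u * x * u⁻¹ * x⁻¹ ∈ M₀) : u ∈ C := by
  refine ⟨hu, mem_centralizer_iff.mpr fun x hx => ?_⟩
  set m := u * x * u⁻¹ * x⁻¹ with hm
  have hmM := hs x hx
  rw [← hm] at hmM
  have hmc : u * m * u⁻¹ = m := by
    rw [mem_centralizer_iff.mp hmM.2 u hu, mul_inv_cancel_right]
  have hk : ∀ k : ℕ, u ^ k * x * (u ^ k)⁻¹ = m ^ k * x := by
    intro k
    induction k with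
    | zero => simp
    | succ k ih =>
      calc u ^ (k + 1) * x * (u ^ (k + 1))⁻¹ = u * (u ^ k * x * (u ^ k)⁻¹) * u⁻¹ := by
            rw [pow_succ']; group
        _ = u * (m ^ k * x) * u⁻¹ := by rw [ih]
        _ = (u * m * u⁻¹) ^ k * (u * x * u⁻¹) := by rw [conj_pow]; group
        _ = m ^ k * (m * x) := by rw [hmc, hm]; group
        _ = m ^ (k + 1) * x := by rw [← mul_assoc, ← pow_succ]
  have h1 : m ^ orderOf u = 1 := by
    have e := hk (orderOf u)
    rw [pow_orderOf_eq_one] at e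
    simpa using e.symm
  have hcop : (orderOf m).Coprime (orderOf u) :=
    (h.coprime_H_U.coprime_dvd_left (Subgroup.orderOf_dvd_natCard _ hmM.1)).coprime_dvd_right
      (Subgroup.orderOf_dvd_natCard _ hu)
  have hm1 : m = 1 := orderOf_eq_one_iff.mp
    (Nat.eq_one_of_dvd_coprimes hcop dvd_rfl (orderOf_dvd_of_pow_eq_one h1))
  rw [hm] at hm1
  exact (mul_inv_eq_iff_eq_mul.mp (mul_inv_eq_one.mp hm1)).symm

theorem M₀_inf_U : M₀ ⊓ U = ⊥ :=
  le_bot_iff.mp ((inf_le_inf_right _ inf_le_left).trans h.data.U_compl.2.2.1.le)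

theorem U_ne_C : C ≠ U := fun e => h.not_centralizes (inf_eq_left.mp e)

theorem one_lt_relIndex : 1 < (C).relIndex U := by
  have h0 : (C).relIndex U ≠ 0 := Subgroup.index_ne_zero_of_finite
  have h1 : (C).relIndex U ≠ 1 := fun e =>
    h.not_centralizes ((relIndex_eq_one.mp e).trans inf_le_right)
  omega

/-- The two shapes of the action of `U` on `H / M₀`. -/
theorem action :
    (C).relIndex U * (p - 1) ≤ p ^ q - 1 ∧
      ((∃ g ∈ U, ∀ v ∈ U, ∃ i : ℤ, (g ^ i)⁻¹ * v ∈ C) ∧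
        (∀ v ∈ U, v ∉ C → ∀ x ∈ H, v * x * v⁻¹ * x⁻¹ ∈ M₀ → x ∈ M₀) ∧
        (∀ Y : Subgroup G, M₀ ≤ Y → Y ≤ H → U ≤ normalizer (Y : Set G) → Y = M₀ ∨ Y = H) ∨
       ((C).relIndex U ≤ ((p - 1) / 2) ^ (q - 1) ∧
        ∃ s : Finset (↥(H) →* ℂˣ), (p - 1) ^ q ≤ s.card ∧
          ∀ l ∈ s, (∀ a : ↥(H), (a : G) ∈ M₀ → l a = 1) ∧
            ∀ v ∈ U, (∀ a b : ↥(H), (b : G) = v * a * v⁻¹ → l b = l a) → v ∈ C)) := by
  classical
  set N : Subgroup G := M₀ ⊔ C with hN
  have hM₀S : M₀ ≤ S := inf_le_left.trans h.H_le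
  have hNS : N ≤ S := sup_le hM₀S h.C_le
  have hNn : S ≤ normalizer (N : Set G) := by
    have hC : S ≤ normalizer ((C : Subgroup G) : Set G) := le_normalizer_of fun x hx c hc => h.conj_C hx hc
    exact fun x hx => h.sup_normalizes (A := S) h.S_normalizes_M₀ hC hx
  have hmemN : ∀ {x : G}, x ∈ N → ∃ m ∈ M₀, ∃ c ∈ C, x = m * c := by
    intro x hx
    have hn : C ≤ normalizer ((M₀ : Subgroup G) : Set G) := h.C_le.trans h.S_normalizes_M₀
    have hx' : x ∈ ((M₀ ⊔ C : Subgroup G) : Set G) := hx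
    rw [coe_mul_of_right_le_normalizer_left _ _ hn] at hx'
    obtain ⟨m, hm, c, hc, rfl⟩ := hx'
    exact ⟨m, hm, c, hc, rfl⟩
  have hNH : ∀ {x : G}, x ∈ N → x ∈ H → x ∈ M₀ := by
    intro x hx hxH
    obtain ⟨m, hm, c, hc, rfl⟩ := hmemN hx
    have : c ∈ H ⊓ U := ⟨(Subgroup.mul_mem_cancel_left H hm.1).mp hxH, hc.1⟩
    rw [h.data.U_compl.2.2.1, mem_bot] at this
    simpa [this] using hm
  have hNU : ∀ {x : G}, x ∈ N → x ∈ U → x ∈ C := by
    intro x hx hxU
    obtain ⟨m, hm, c, hc, rfl⟩ := hmemN hx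
    have : m ∈ M₀ ⊓ U := ⟨hm, (Subgroup.mul_mem_cancel_right U hc.1).mp hxU⟩
    rw [h.M₀_inf_U, mem_bot] at this
    simpa [this] using hc
  set N' := N.subgroupOf S with hN'
  have : N'.Normal := (normal_subgroupOf_iff_le_normalizer hNS).mpr hNn
  set f := QuotientGroup.mk' N' with hf
  let img : Subgroup G → Subgroup (↥S ⧸ N') := fun Y => (Y.subgroupOf S).map f
  have hmem : ∀ {Y : Subgroup G} {z : ↥S ⧸ N'}, z ∈ img Y ↔ ∃ y : S, (y : G) ∈ Y ∧ f y = z :=
    fun {Y} {z} => Iff.rfl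
  have hfeq : ∀ {a b : S}, f a = f b ↔ (a : G)⁻¹ * b ∈ N := fun {a} {b} => QuotientGroup.eq
  have hcardimg : ∀ {Y : Subgroup G}, Y ≤ S → Nat.card (img Y) * Nat.card ↥(N ⊓ Y) = Nat.card Y := by
    intro Y hY
    have e := (f.comp (Y.subgroupOf S).subtype).ker.card_mul_index
    rw [index_ker, MonoidHom.range_comp, range_subtype,
      Nat.card_congr (subgroupOfEquivOfLe hY).toEquiv] at e
    rw [mul_comm, ← e]
    congr 1
    exact Nat.card_congr
      { toFun := fun x => ⟨⟨⟨x.1, hY x.2.2⟩, x.2.2⟩,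
          (QuotientGroup.eq_one_iff (⟨x.1, hY x.2.2⟩ : S)).mpr (mem_subgroupOf.mpr x.2.1)⟩
        invFun := fun x => ⟨((x.1 : S) : G),
          mem_subgroupOf.mp ((QuotientGroup.eq_one_iff _).mp x.2), x.1.2⟩
        left_inv := fun x => rfl
        right_inv := fun x => rfl }
  have hnorm : ∀ {A Y : Subgroup G}, A ≤ normalizer (Y : Set G) →
      img A ≤ normalizer ((img Y : Subgroup (↥S ⧸ N')) : Set (↥S ⧸ N')) := by
    intro A Y hA
    refine le_normalizer_of ?_
    intro a ha z hz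
    obtain ⟨a', ha', rfl⟩ := hmem.mp ha
    obtain ⟨y, hy, rfl⟩ := hmem.mp hz
    exact hmem.mpr ⟨a' * y * a'⁻¹, (mem_normalizer_iff.mp (hA ha') y).mp hy,
      by rw [map_mul, map_mul, map_inv]⟩
  -- cardinalities
  have hPc : Nat.card (img H) = p ^ q := by
    have e := hcardimg h.H_le
    rw [show N ⊓ H = M₀ from le_antisymm (fun x hx => hNH hx.1 hx.2)
      (le_inf le_sup_left inf_le_left), h.card_H] at e
    exact Nat.eq_of_mul_eq_mul_right Nat.card_pos e
  have hAc : Nat.card (img U) = (C).relIndex U := by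
    have e := hcardimg h.U_le
    rw [show N ⊓ U = C from le_antisymm (fun x hx => hNU hx.1 hx.2)
      (le_inf le_sup_right inf_le_left),
      ← CfsgLib.Coprime.card_mul_relIndex (inf_le_left : C ≤ U), mul_comm] at e
    exact Nat.eq_of_mul_eq_mul_left Nat.card_pos e
  have hWc : Nat.card (img W₁) = q := by
    have e := hcardimg h.W₁_le
    rw [show N ⊓ W₁ = ⊥ from ?_, card_bot, mul_one] at e
    · exact e
    · refine eq_bot_iff.mpr fun x hx => ?_
      rw [← h.data.W₁_compl.2.2.1]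
      exact ⟨sup_le (inf_le_left.trans h.H_le_derived) (inf_le_left.trans h.U_le_derived) hx.1, hx.2⟩
  have hcommN : ∀ {a b : S}, (a : G)⁻¹ * (b : G)⁻¹ * (a : G) * (b : G) ∈ N → f a * f b = f b * f a := fun {a} {b} hh => by
    rw [← map_mul, ← map_mul]
    refine (hfeq.mpr ?_).symm
    rw [Subgroup.coe_mul, Subgroup.coe_mul]
    convert hh using 1
    group
  have hctx : Ctx (img H) (img U) (img W₁) (p) (q) :=
    { hp := h.p_prime, hq := h.q_prime, hp2 := h.p_ne_two
      comm := by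
        intro a ha b hb
        obtain ⟨a', ha', rfl⟩ := hmem.mp ha
        obtain ⟨b', hb', rfl⟩ := hmem.mp hb
        refine hcommN (mem_sup_left (h.commutator_le_M₀ ?_))
        have h3 := commutator_mem_commutator (H₁ := Cfsg.fittingHallOf S) (H₂ := Cfsg.fittingHallOf S)
          (inv_mem ha') (inv_mem hb')
        rw [commutatorElement_def] at h3
        simpa [mul_assoc] using h3
      exp := by
        intro a ha
        obtain ⟨a', ha', rfl⟩ := hmem.mp ha
        rw [← map_pow, hf, QuotientGroup.mk'_apply, QuotientGroup.eq_one_iff, hN', mem_subgroupOf,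
          Subgroup.coe_pow]
        exact mem_sup_left (h.pow_mem_M₀ ha')
      card_P := hPc
      A_comm := by
        intro a ha b hb
        obtain ⟨a', ha', rfl⟩ := hmem.mp ha
        obtain ⟨b', hb', rfl⟩ := hmem.mp hb
        refine hcommN (mem_sup_right (h.commutator_U_le_C ?_))
        have h3 := commutator_mem_commutator (H₁ := U) (H₂ := U) (inv_mem ha') (inv_mem hb')
        rw [commutatorElement_def] at h3
        simpa [mul_assoc] using h3
      A_odd := hAc ▸ (h.odd_card U).of_dvd_nat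
        (Dvd.intro_left _ (CfsgLib.Coprime.card_mul_relIndex (inf_le_left : C ≤ U)))
      conjP := by
        intro a ha x hx
        rcases ha with ha | ha
        · exact (mem_normalizer_iff.mp (hnorm h.U_normalizes ha) x).mp hx
        · exact (mem_normalizer_iff.mp (hnorm h.W₁_normalizes ha) x).mp hx
      conjA := fun w hw a ha => (mem_normalizer_iff.mp (hnorm h.data.U_normal hw) a).mp ha
      card_W := hWc
      faith := by
        intro a ha hc
        obtain ⟨a', ha', rfl⟩ := hmem.mp ha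
        rw [hf, QuotientGroup.mk'_apply, QuotientGroup.eq_one_iff, hN', mem_subgroupOf]
        refine mem_sup_right (h.mem_C_of_stable ha' fun x hx => ?_)
        have e := hc (f ⟨x, h.H_le hx⟩) (hmem.mpr ⟨_, hx, rfl⟩)
        rw [← map_mul, ← map_mul] at e
        have e' := hfeq.mp e.symm
        rw [Subgroup.coe_mul, Subgroup.coe_mul] at e'
        set m := (x * (a' : G))⁻¹ * ((a' : G) * x) with hm
        have hm' : m ∈ M₀ := hNH e' (by
          have h1 := h.conj_H (S.inv_mem a'.2) (inv_mem hx)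
          have : m = (a' : G)⁻¹ * x⁻¹ * ((a' : G)⁻¹)⁻¹ * x := by rw [hm]; group
          rw [this]; exact mul_mem h1 hx)
        rw [show (a' : G) * x * (a' : G)⁻¹ * x⁻¹ = (x * a') * m * (x * a')⁻¹ by rw [hm]; group]
        exact (mem_normalizer_iff.mp (h.S_normalizes_M₀ (S.mul_mem (h.H_le hx) a'.2)) m).mp hm'
      fpf := by
        intro w hw hw1 a ha hc
        obtain ⟨w', hw', rfl⟩ := hmem.mp hw
        obtain ⟨a', ha', rfl⟩ := hmem.mp ha
        have hw1' : (w' : G) ≠ 1 := fun e => hw1 (by rw [show w' = 1 from Subtype.ext e, map_one])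
        rw [← map_mul, ← map_mul] at hc
        have e := hfeq.mp hc
        rw [Subgroup.coe_mul, Subgroup.coe_mul] at e
        have hwi : (w' : G)⁻¹ ∈ W₁ := W₁.inv_mem hw'
        have hin : (w' : G)⁻¹ * a' * ((w' : G)⁻¹)⁻¹ ∈ U := h.conj_U hwi ha'
        have hd : ((w' : G) * a')⁻¹ * ((a' : G) * w') ∈ C := by
          refine hNU e ?_
          rw [show ((w' : G) * a')⁻¹ * ((a' : G) * w') =
            (a' : G)⁻¹ * ((w' : G)⁻¹ * a' * ((w' : G)⁻¹)⁻¹) by group]
          exact mul_mem (inv_mem ha') hin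
        rw [hf, QuotientGroup.mk'_apply, QuotientGroup.eq_one_iff, hN', mem_subgroupOf]
        -- the displacement map of a fixed-point-free element is onto `C`
        let φ : ↥(C) → ↥(C) := fun v => ⟨(v : G)⁻¹ * ((w' : G)⁻¹ * v * ((w' : G)⁻¹)⁻¹),
          mul_mem (inv_mem v.2) (h.conj_C (h.W₁_le hwi) v.2)⟩
        have hinj : ∀ {x y : G}, x ∈ U → y ∈ U →
            x⁻¹ * ((w' : G)⁻¹ * x * ((w' : G)⁻¹)⁻¹) = y⁻¹ * ((w' : G)⁻¹ * y * ((w' : G)⁻¹)⁻¹) →
            x = y := by
          intro x y hx hy he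
          refine (mul_inv_eq_one.mp (h.fpf hwi (fun e => hw1' (inv_eq_one.mp e))
            (U.mul_mem hy (U.inv_mem hx)) ?_)).symm
          have e1 : y * x⁻¹ * ((w' : G)⁻¹ * x * (w' : G)) = (w' : G)⁻¹ * y * (w' : G) := by
            calc y * x⁻¹ * ((w' : G)⁻¹ * x * (w' : G))
                = y * (x⁻¹ * ((w' : G)⁻¹ * x * ((w' : G)⁻¹)⁻¹)) := by group
              _ = y * (y⁻¹ * ((w' : G)⁻¹ * y * ((w' : G)⁻¹)⁻¹)) := by rw [he]
              _ = (w' : G)⁻¹ * y * (w' : G) := by group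
          calc (w' : G)⁻¹ * (y * x⁻¹) = (w' : G)⁻¹ * y * (w' : G) *
                ((w' : G)⁻¹ * x * (w' : G))⁻¹ * (w' : G)⁻¹ := by group
            _ = y * x⁻¹ * (w' : G)⁻¹ := by rw [← e1]; group
        have hφ : Function.Injective φ := fun x y he =>
          Subtype.ext (hinj x.2.1 y.2.1 (congrArg Subtype.val he))
        obtain ⟨v, hv⟩ := (Finite.injective_iff_surjective.mp hφ) ⟨_, hd⟩
        have hva : (v : G) = a' := hinj v.2.1 ha' ((congrArg Subtype.val hv).trans (by group))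
        exact mem_sup_right (hva ▸ v.2)
      fix := by
        have hn : (W₁.subgroupOf S) ≤
            normalizer (((Cfsg.fittingHallOf S).subgroupOf S : Subgroup S) : Set S) :=
          le_normalizer_of fun a ha y hy => h.conj_H (x := (a : G)) a.2 hy
        have hco : (Nat.card (W₁.subgroupOf S)).Coprime
            (Nat.card ((Cfsg.fittingHallOf S).subgroupOf S)) := by
          rw [Nat.card_congr (subgroupOfEquivOfLe h.W₁_le).toEquiv,
            Nat.card_congr (subgroupOfEquivOfLe h.H_le).toEquiv]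
          exact h.coprime_q_H
        have hsol : Group.IsSolvable ((Cfsg.fittingHallOf S).subgroupOf S) := by
          have : Group.IsSolvable S :=
            CfsgLib.BG.isSolvable_of_le_max h.minSimple h.maxS le_rfl
          infer_instance
        have e := CfsgLib.Coprime.map_inf_centralizer f hn hco (Or.inr hsol)
        have e2 : (Cfsg.fittingHallOf S).subgroupOf S ⊓ centralizer (W₁.subgroupOf S : Set S) =
            W₂.subgroupOf S := by
          ext y
          have hG := SetLike.ext_iff.mp (Ten.fitting_inf_centralizer h.data) (y : G)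
          simp only [Subgroup.mem_inf, mem_subgroupOf, mem_centralizer_iff, SetLike.mem_coe] at hG ⊢
          rw [← hG]
          refine and_congr_right fun _ => ⟨fun hy w hw => ?_, fun hy w hw => Subtype.ext (hy w hw)⟩
          exact congrArg Subtype.val (hy ⟨w, h.W₁_le hw⟩ hw)
        show Nat.card ↥(img H ⊓ centralizer (img W₁ : Set (↥S ⧸ N'))) = p
        rw [show img H ⊓ centralizer (img W₁ : Set (↥S ⧸ N')) = img W₂ by
          rw [show img W₂ = (W₂.subgroupOf S).map f from rfl, ← e2]; exact e.symm]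
        have e3 := hcardimg (h.W₂_le_H.trans h.H_le)
        rwa [show N ⊓ W₂ = ⊥ from eq_bot_iff.mpr fun x hx => by
          rw [← h.W₂_inf_M₀]; exact ⟨hx.2, hNH hx.1 (h.W₂_le_H hx.2)⟩, card_bot, mul_one] at e3
      irr := by
        intro Y hY hYU hYW
        set Y' : Subgroup G := ((Y.comap f).map S.subtype) ⊓ H with hY'
        have hY'mem : ∀ {x : G}, x ∈ Y' ↔ ∃ hx : x ∈ H, f ⟨x, h.H_le hx⟩ ∈ Y := by
          intro x
          constructor
          · rintro ⟨⟨y, hy, rfl⟩, hxH⟩; exact ⟨hxH, hy⟩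
          · rintro ⟨hx, hy⟩; exact ⟨⟨_, hy, rfl⟩, hx⟩
        have hM : M₀ ≤ Y' := fun x hx => hY'mem.mpr ⟨hx.1, by
          rw [show f ⟨x, h.H_le hx.1⟩ = 1 from (QuotientGroup.eq_one_iff _).mpr
            (mem_subgroupOf.mpr (mem_sup_left hx))]
          exact Y.one_mem⟩
        have hinv : ∀ {A : Subgroup G}, A ≤ S → img A ≤ normalizer (Y : Set (↥S ⧸ N')) →
            A ≤ normalizer (Y' : Set G) := by
          intro A hA hAY
          refine le_normalizer_of fun a ha x hx => ?_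
          obtain ⟨hxH, hxY⟩ := hY'mem.mp hx
          refine hY'mem.mpr ⟨h.conj_H (hA ha) hxH, ?_⟩
          have h1 := (mem_normalizer_iff.mp
            (hAY (hmem.mpr ⟨⟨a, hA ha⟩, ha, rfl⟩)) (f ⟨x, h.H_le hxH⟩)).mp hxY
          rwa [← map_inv, ← map_mul, ← map_mul] at h1
        rcases eq_or_lt_of_le hM with e | e
        · left
          refine eq_bot_iff.mpr fun z hz => ?_
          obtain ⟨y, hy, rfl⟩ := hmem.mp (hY hz)
          have : (y : G) ∈ Y' := hY'mem.mpr ⟨hy, hz⟩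
          rw [← e] at this
          exact mem_bot.mpr ((QuotientGroup.eq_one_iff _).mpr (mem_subgroupOf.mpr (mem_sup_left this)))
        · right
          have e' := h.eq_H_of_lt (X := Y') inf_le_right (hinv h.U_le hYU) (hinv h.W₁_le hYW) e
          refine le_antisymm hY fun z hz => ?_
          obtain ⟨y, hy, rfl⟩ := hmem.mp hz
          obtain ⟨hy', hyY⟩ := hY'mem.mp (show (y : G) ∈ Y' by rw [e']; exact hy)
          exact hyY }
  by_cases hgal : ∀ Y : Subgroup (↥S ⧸ N'), Y ≤ img H →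
      img U ≤ normalizer (Y : Set (↥S ⧸ N')) → Y = ⊥ ∨ Y = img H
  · have hsr := semiregular_of hctx hgal
    refine ⟨hAc ▸ bound_of_semiregular hctx hsr, Or.inl ⟨?_, ?_, ?_⟩⟩
    · have := isCyclic_of hctx hsr
      obtain ⟨⟨g, hg⟩, hgen⟩ := IsCyclic.exists_generator (α := ↥(img U))
      obtain ⟨g', hg', rfl⟩ := hmem.mp hg
      refine ⟨g', hg', fun v hv => ?_⟩
      obtain ⟨i, hi⟩ := mem_zpowers_iff.mp (hgen ⟨f ⟨v, h.U_le hv⟩, hmem.mpr ⟨_, hv, rfl⟩⟩)
      have e : f (g' ^ i) = f ⟨v, h.U_le hv⟩ := by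
        rw [map_zpow]; simpa using congrArg Subtype.val hi
      have e' := hfeq.mp e
      rw [Subgroup.coe_zpow] at e'
      exact ⟨i, hNU e' (U.mul_mem (U.inv_mem (U.zpow_mem hg' i)) hv)⟩
    · intro v hv hvC x hx hxv
      refine hNH ?_ hx
      exact mem_subgroupOf.mp ((QuotientGroup.eq_one_iff (⟨x, h.H_le hx⟩ : S)).mp (hsr (f ⟨v, h.U_le hv⟩)
        (hmem.mpr ⟨_, hv, rfl⟩)
        (fun e => hvC (hNU (mem_subgroupOf.mp ((QuotientGroup.eq_one_iff _).mp e)) hv))
        (f ⟨x, h.H_le hx⟩) (hmem.mpr ⟨_, hx, rfl⟩) (hcommN (by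
          have : (v * x * v⁻¹ * x⁻¹ : G) ∈ M₀ := hxv
          have h2 := (mem_normalizer_iff.mp (h.S_normalizes_M₀ (S.inv_mem (S.mul_mem (h.U_le hv)
            (h.H_le hx)))) _).mp this
          refine mem_sup_left ?_
          convert h2 using 1
          simp only; group))))
    · intro Y hMY hYH hYU
      rcases hgal (img Y) (fun z hz => by
          obtain ⟨y, hy, rfl⟩ := hmem.mp hz; exact hmem.mpr ⟨y, hYH hy, rfl⟩) (hnorm hYU) with e | e
      · left
        refine le_antisymm (fun y hy => hNH ?_ (hYH hy)) hMY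
        have : f ⟨y, h.H_le (hYH hy)⟩ ∈ img Y := hmem.mpr ⟨_, hy, rfl⟩
        rw [e, mem_bot] at this
        exact mem_subgroupOf.mp ((QuotientGroup.eq_one_iff _).mp this)
      · right
        refine le_antisymm hYH fun y hy => ?_
        have : f ⟨y, h.H_le hy⟩ ∈ img Y := by rw [e]; exact hmem.mpr ⟨_, hy, rfl⟩
        obtain ⟨z, hz, hzy⟩ := hmem.mp this
        have h2 : (z : G)⁻¹ * y ∈ M₀ := hNH (hfeq.mp hzy) (mul_mem (inv_mem (hYH hz)) hy)
        simpa using mul_mem hz (hMY h2)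
  · obtain ⟨w, hw, hw1⟩ := (img W₁).bot_or_exists_ne_one.resolve_left fun e => by
      rw [e, card_bot] at hWc; exact h.q_prime.one_lt.ne hWc
    obtain ⟨e, he, hord, hev, hgen⟩ := exists_line hctx hw hw1 hgal
    obtain ⟨-, hle, s, hs, hstab⟩ := line_bounds hctx hw hw1 he hord hev hgen
    rw [hAc] at hle
    refine ⟨?_, Or.inr ⟨hle, ?_⟩⟩
    · calc (C).relIndex U * (p - 1) ≤ (p - 1) ^ (q - 1) * (p - 1) :=
            Nat.mul_le_mul_right _ (hle.trans (Nat.pow_le_pow_left (Nat.div_le_self _ _) _))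
        _ = (p - 1) ^ q := by rw [← pow_succ, Nat.sub_add_cancel h.q_prime.one_le]
        _ ≤ p ^ q - 1 := Nat.le_sub_one_of_lt
            (Nat.pow_lt_pow_left (Nat.sub_lt h.p_prime.pos one_pos) h.q_prime.ne_zero)
    let g : ↥(H) →* img H :=
      { toFun := fun a => ⟨f ⟨a, h.H_le a.2⟩, hmem.mpr ⟨_, a.2, rfl⟩⟩
        map_one' := Subtype.ext (map_one f)
        map_mul' := fun a b => Subtype.ext (map_mul f ⟨a, h.H_le a.2⟩ ⟨b, h.H_le b.2⟩) }
    have hgsurj : Function.Surjective g := by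
      rintro ⟨z, hz⟩
      obtain ⟨y, hy, rfl⟩ := hmem.mp hz
      exact ⟨⟨y, hy⟩, rfl⟩
    refine ⟨s.image fun l => l.comp g, ?_, ?_⟩
    · refine hs.trans (le_of_eq ?_)
      rw [Finset.card_image_of_injective]
      exact fun l l' e => (MonoidHom.cancel_right hgsurj).mp e
    · intro l hl
      obtain ⟨l, hl', rfl⟩ := Finset.mem_image.mp hl
      refine ⟨fun a ha => ?_, fun v hv hfix => ?_⟩
      · rw [MonoidHom.comp_apply, show g a = 1 from Subtype.ext ((QuotientGroup.eq_one_iff _).mpr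
          (mem_subgroupOf.mpr (mem_sup_left ha))), map_one]
      · refine hNU (mem_subgroupOf.mp ((QuotientGroup.eq_one_iff (⟨v, h.U_le hv⟩ : S)).mp ?_)) hv
        refine hstab l hl' _ (hmem.mpr ⟨_, hv, rfl⟩) fun x y hxy => ?_
        obtain ⟨a, rfl⟩ := hgsurj x
        have hb : g ⟨v * a * v⁻¹, h.conj_H (h.U_le hv) a.2⟩ = y := by
          refine Subtype.ext ?_
          rw [hxy]
          show f ⟨v * a * v⁻¹, _⟩ = f ⟨v, _⟩ * f ⟨a, _⟩ * (f ⟨v, _⟩)⁻¹
          rw [← map_inv, ← map_mul, ← map_mul]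
          rfl
        rw [← hb]
        exact hfix a ⟨_, h.conj_H (h.U_le hv) a.2⟩ rfl

end Pre

end CfsgLib.PF.Base
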