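import Cfsg.Agent.Lib.PF.TenRegular
import Cfsg.Agent.Lib.OddLocal.Norm
import Cfsg.Agent.Lib.Coprime.Action
import Cfsg.Agent.Lib.Coprime.Hall

/-!
# A maximal subgroup of type P with nontrivial complement and two prime orders

`H = S_F` has order `p ^ q * |M₀|` for `M₀ = H ⊓ C(U)`, and `M₀` is normal with an elementary
abelian quotient on which `U` and `W₁` act irreducibly.
-/

set_option autoImplicit false
set_option linter.unusedSectionVars false

namespace CfsgLib.PF.Base

open Subgroup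
open scoped commutatorElement

universe u

/-- The hypotheses: type P data with `U ≠ 1` and `W₁`, `W₂` of prime order. -/
structure Pre {G : Type u} [Group G] (S W₁ W₂ U : Subgroup G) : Prop where
  minSimple : Cfsg.IsMinSimpleOddOrder G
  maxS : IsCoatom S
  data : Cfsg.IsTypePWith S W₁ U W₂
  q_prime : (Nat.card W₁).Prime
  p_prime : (Nat.card W₂).Prime
  U_ne : U ≠ ⊥

namespace Pre

variable {G : Type u} [Group G] [Finite G] {S W₁ W₂ U : Subgroup G} (h : Pre S W₁ W₂ U)

include h

local notation "H" => Cfsg.fittingHallOf S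
local notation "M₀" => Cfsg.fittingHallOf S ⊓ centralizer (U : Set G)
local notation "p" => Nat.card W₂
local notation "q" => Nat.card W₁

theorem derived_le : ⁅S, S⁆ ≤ S := h.data.W₁_compl.1

theorem H_le_derived : H ≤ ⁅S, S⁆ := h.data.U_compl.1

theorem U_le_derived : U ≤ ⁅S, S⁆ := h.data.U_compl.2.1

theorem H_le : H ≤ S := h.H_le_derived.trans h.derived_le

theorem U_le : U ≤ S := h.U_le_derived.trans h.derived_le

theorem W₁_le : W₁ ≤ S := h.data.W₁_compl.2.1

theorem W₂_le_H : W₂ ≤ H := h.data.W₂_le.trans inf_le_left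

theorem S_normalizes : S ≤ normalizer (H : Set G) := OddLocal.le_normalizer_fittingHallOf S

theorem U_normalizes : U ≤ normalizer (H : Set G) := h.U_le.trans h.S_normalizes

theorem W₁_normalizes : W₁ ≤ normalizer (H : Set G) := h.W₁_le.trans h.S_normalizes

theorem fpf {w : G} (hw : w ∈ W₁) (hw1 : w ≠ 1) {u : G} (hu : u ∈ U) (hc : w * u = u * w) : u = 1 :=
  Ten.fpf h.data w hw hw1 u hu hc

theorem H_isNilpotent : Group.IsNilpotent ↥(Cfsg.fittingHallOf S) :=
  OddLocal.fittingHallOf_isNilpotent S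

theorem H_solvable : Group.IsSolvable ↥(Cfsg.fittingHallOf S) :=
  CfsgLib.BG.isSolvable_of_le_max h.minSimple h.maxS h.H_le

theorem coprime_H_U : (Nat.card H).Coprime (Nat.card U) := OddLocal.typeP_card h.data

theorem coprime_q_derived : (q).Coprime (Nat.card ↥⁅S, S⁆) := by
  refine Nat.Coprime.coprime_dvd_right (dvd_of_eq ?_) h.data.W₁_hall
  have e := OddLocal.card_eq_mul_of_isComplIn h.data.W₁_compl
  have e2 := CfsgLib.Coprime.card_mul_relIndex h.W₁_le
  rw [e] at e2
  exact (Nat.eq_of_mul_eq_mul_left (Nat.card_pos (α := W₁)) (by rw [e2, mul_comm])).symm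

theorem coprime_q_H : (q).Coprime (Nat.card H) :=
  h.coprime_q_derived.coprime_dvd_right (card_dvd_of_le h.H_le_derived)

theorem coprime_q_U : (q).Coprime (Nat.card U) :=
  h.coprime_q_derived.coprime_dvd_right (card_dvd_of_le h.U_le_derived)

theorem p_dvd_H : p ∣ Nat.card H := card_dvd_of_le h.W₂_le_H

theorem p_ne_q : q ≠ p := fun e =>
  h.q_prime.one_lt.ne' (Nat.eq_one_of_dvd_coprimes h.coprime_q_H dvd_rfl (e ▸ h.p_dvd_H))

theorem odd_card (K : Subgroup G) : Odd (Nat.card K) :=
  h.minSimple.1.of_dvd_nat (card_subgroup_dvd_card K)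

theorem p_ne_two : p ≠ 2 := fun e => by
  have := h.odd_card W₂; rw [e] at this; exact (Nat.not_even_iff_odd.mpr this) even_two

theorem q_ne_two : q ≠ 2 := fun e => by
  have := h.odd_card W₁; rw [e] at this; exact (Nat.not_even_iff_odd.mpr this) even_two

theorem coprime_H_UW : (Nat.card H).Coprime (Nat.card ↥(U ⊔ W₁)) :=
  (h.coprime_H_U.mul_right h.coprime_q_H.symm).coprime_dvd_right
    (CfsgLib.Comp.card_sup_dvd_mul h.data.U_normal)

theorem inf_centralizer_W₁ {X : Subgroup G} (hX : X ≤ H) :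
    X ⊓ centralizer (W₁ : Set G) = X ⊓ W₂ := by
  conv_lhs => rw [← inf_eq_left.mpr hX, inf_assoc, Ten.fitting_inf_centralizer h.data]

/-- The formula for the fixed points on an invariant subgroup of `H`. -/
theorem formula {X : Subgroup G} (hX : X ≤ H) (hU : U ≤ normalizer (X : Set G))
    (hW : W₁ ≤ normalizer (X : Set G)) :
    Nat.card ↥(X ⊓ centralizer ((U ⊔ W₁ : Subgroup G) : Set G)) ^ q * Nat.card X =
      Nat.card ↥(X ⊓ W₂) ^ q * Nat.card ↥(X ⊓ centralizer (U : Set G)) := by
  have hcop := h.coprime_H_UW.coprime_dvd_left (card_dvd_of_le hX)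
  have hsol : Group.IsSolvable X :=
    CfsgLib.BG.isSolvable_of_le_max h.minSimple h.maxS (hX.trans h.H_le)
  have e := Cfsg.Agent.S1545.result U W₁ X h.U_ne h.data.W₁_ne
    (disjoint_iff.mp (disjoint_of_coprime_natCard h.coprime_q_U.symm))
    (fun e he u hu => (mem_normalizer_iff.mp (h.data.U_normal he) u).mp hu)
    (fun e he he1 u hu hc => h.fpf he he1 hu hc)
    (fun x hx y hy => (mem_normalizer_iff.mp (sup_le hU hW hx) y).mp hy)
    (disjoint_iff.mp (disjoint_of_coprime_natCard hcop)) hsol hcop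
  rwa [h.inf_centralizer_W₁ hX] at e

theorem not_centralizes : ¬ U ≤ centralizer (H : Set G) := by
  intro hc
  have hF : Cfsg.fittingOf S = ⁅S, S⁆ := by
    rw [OddLocal.typeP_fitting h.data, inf_eq_left.mpr hc]
    refine le_antisymm (sup_le h.H_le_derived h.U_le_derived) fun x hx => ?_
    obtain ⟨a, ha, b, hb, rfl⟩ := h.data.U_compl.2.2.2 x hx
    exact mul_mem_sup ha hb
  have hle : ⁅S, S⁆ ≤ H := by
    refine OddLocal.le_fittingHallOf S _ h.derived_le ?_ (hF ▸ OddLocal.fittingOf_isNilpotent S) ?_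
    · exact (le_normalizer_iff_commutator_le_left.mpr
        (commutator_le.mpr fun a ha b hb => commutator_mem_commutator (h.derived_le ha) hb))
    · have hc' := OddLocal.card_eq_mul_of_isComplIn h.data.W₁_compl
      have h' := CfsgLib.Coprime.card_mul_relIndex h.derived_le
      rw [hc'] at h'
      rw [Nat.eq_of_mul_eq_mul_left Nat.card_pos h']
      exact h.coprime_q_derived.symm
  refine h.U_ne (eq_bot_iff.mpr fun x hx => ?_)
  rw [← h.data.U_compl.2.2.1]
  exact ⟨hle (h.U_le_derived hx), hx⟩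

theorem card_inf_W₂ (X : Subgroup G) :
    Nat.card ↥(X ⊓ W₂) = 1 ∨ W₂ ≤ X := by
  rcases (Nat.dvd_prime h.p_prime).mp (card_dvd_of_le (inf_le_right : X ⊓ W₂ ≤ W₂)) with e | e
  · exact Or.inl e
  · exact Or.inr (inf_eq_right.mp (eq_of_le_of_card_ge inf_le_right e.ge))

/-- `U` and `W₁` have no common fixed point on `H`. -/
theorem inf_centralizer_UW : H ⊓ centralizer ((U ⊔ W₁ : Subgroup G) : Set G) = ⊥ := by
  have hle : H ⊓ centralizer ((U ⊔ W₁ : Subgroup G) : Set G) ≤ W₂ := by
    rw [← inf_eq_right.mpr h.W₂_le_H, ← h.inf_centralizer_W₁ le_rfl]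
    exact inf_le_inf_left _ (centralizer_le (SetLike.coe_subset_coe.mpr le_sup_right))
  rcases (Nat.dvd_prime h.p_prime).mp (card_dvd_of_le hle) with e | e
  · exact card_eq_one.mp e
  exfalso
  have e2 := h.formula le_rfl h.U_normalizes h.W₁_normalizes
  rw [e, inf_eq_right.mpr h.W₂_le_H] at e2
  have hall := eq_of_le_of_card_ge (inf_le_left : M₀ ≤ H)
    (Nat.eq_of_mul_eq_mul_left (pow_pos h.p_prime.pos _) e2).le
  exact h.not_centralizes (le_centralizer_iff.mp (inf_eq_left.mp hall))

theorem W₂_inf_M₀ : W₂ ⊓ M₀ = ⊥ := by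
  rw [eq_bot_iff, ← h.inf_centralizer_UW]
  rintro x ⟨hx2, hxH, hxU⟩
  refine ⟨hxH, ?_⟩
  rw [PLocal.centralizer_sup_eq]
  refine ⟨hxU, ?_⟩
  have : x ∈ Cfsg.fittingHallOf S ⊓ centralizer (W₁ : Set G) := by
    rw [Ten.fitting_inf_centralizer h.data]; exact hx2
  exact this.2

/-- An invariant subgroup of `H` is either large or centralised by `U`. -/
theorem card_invariant {X : Subgroup G} (hX : X ≤ H) (hU : U ≤ normalizer (X : Set G))
    (hW : W₁ ≤ normalizer (X : Set G)) :
    (W₂ ≤ X ∧ Nat.card X = p ^ q * Nat.card ↥(X ⊓ centralizer (U : Set G))) ∨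
      (¬ W₂ ≤ X ∧ X ≤ M₀) := by
  have e := h.formula hX hU hW
  rw [le_bot_iff.mp ((inf_le_inf_right _ hX).trans h.inf_centralizer_UW.le), card_bot, one_pow,
    one_mul] at e
  rcases h.card_inf_W₂ X with e1 | e1
  · refine Or.inr ⟨fun hle => ?_, le_inf hX ?_⟩
    · rw [inf_eq_right.mpr hle] at e1
      exact h.p_prime.one_lt.ne' e1
    · rw [e1, one_pow, one_mul] at e
      exact inf_eq_left.mp (eq_of_le_of_card_ge inf_le_left e.le)
  · rw [inf_eq_right.mpr e1] at e
    exact Or.inl ⟨e1, e⟩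

theorem card_H : Nat.card H = p ^ q * Nat.card ↥(Cfsg.fittingHallOf S ⊓ centralizer (U : Set G)) :=
  ((h.card_invariant le_rfl h.U_normalizes h.W₁_normalizes).resolve_right fun e =>
    e.1 h.W₂_le_H).2

theorem U_normalizes_M₀ : U ≤ normalizer ((M₀ : Subgroup G) : Set G) := fun x hx =>
  mem_normalizer_iff.mpr fun y => by
    have hH := mem_normalizer_iff.mp (h.U_normalizes hx) y
    refine ⟨fun hy => ⟨hH.mp hy.1, ?_⟩, fun hy => ⟨hH.mpr hy.1, ?_⟩⟩
    · rw [(mem_centralizer_iff.mp hy.2 x hx), mul_inv_cancel_right]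
      exact hy.2
    · have e := mem_centralizer_iff.mp hy.2 x hx
      have : x * y * x⁻¹ = y := by
        have e' : x * (x * y * x⁻¹) = x * y := by rw [e]; group
        exact (mul_left_cancel e')
      rw [this] at hy
      exact hy.2

theorem W₁_normalizes_M₀ : W₁ ≤ normalizer ((M₀ : Subgroup G) : Set G) := by
  have key : ∀ {w y : G}, w ∈ W₁ → y ∈ M₀ → w * y * w⁻¹ ∈ M₀ := by
    intro w y hw hy
    refine ⟨(mem_normalizer_iff.mp (h.W₁_normalizes hw) y).mp hy.1,
      mem_centralizer_iff.mpr fun u hu => ?_⟩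
    have hu' := (mem_normalizer_iff.mp (h.data.U_normal (W₁.inv_mem hw)) u).mp hu
    have e := mem_centralizer_iff.mp hy.2 _ hu'
    calc u * (w * y * w⁻¹) = w * (w⁻¹ * u * w⁻¹⁻¹ * y) * w⁻¹ := by group
      _ = w * (y * (w⁻¹ * u * w⁻¹⁻¹)) * w⁻¹ := by rw [e]
      _ = w * y * w⁻¹ * u := by group
  exact fun w hw => mem_normalizer_iff.mpr fun y =>
    ⟨key hw, fun hy => by simpa [mul_assoc] using key (W₁.inv_mem hw) hy⟩

theorem M₀_ne_H : (Cfsg.fittingHallOf S ⊓ centralizer (U : Set G)) ≠ H := fun e =>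
  h.not_centralizes (le_centralizer_iff.mp (inf_eq_left.mp e))

/-- An invariant subgroup containing `M₀` properly is `H`. -/
theorem eq_H_of_lt {X : Subgroup G} (hX : X ≤ H) (hU : U ≤ normalizer (X : Set G))
    (hW : W₁ ≤ normalizer (X : Set G)) (hMX : M₀ < X) : X = H := by
  rcases h.card_invariant hX hU hW with ⟨-, e⟩ | ⟨-, e⟩
  · refine eq_of_le_of_card_ge hX ?_
    rw [h.card_H, e]
    exact Nat.mul_le_mul_left _ (card_le_of_le (le_inf hMX.le inf_le_right))
  · exact absurd e (not_le_of_gt hMX)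

/-- The normaliser in `H` of an invariant subgroup is invariant. -/
theorem normalizer_invariant {X : Subgroup G} {A : Subgroup G} (hA : A ≤ normalizer (H : Set G))
    (hAX : A ≤ normalizer (X : Set G)) :
    A ≤ normalizer ((H ⊓ normalizer (X : Set G) : Subgroup G) : Set G) := fun a ha =>
  mem_normalizer_iff.mpr fun y =>
    ⟨fun hy => ⟨(mem_normalizer_iff.mp (hA ha) y).mp hy.1,
      (normalizer (X : Set G)).mul_mem ((normalizer (X : Set G)).mul_mem (hAX ha) hy.2)
        ((normalizer (X : Set G)).inv_mem (hAX ha))⟩,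
    fun hy => ⟨(mem_normalizer_iff.mp (hA ha) y).mpr hy.1, by
      have h1 : a * y * a⁻¹ ∈ normalizer (X : Set G) := hy.2
      have h2 := (normalizer (X : Set G)).mul_mem
        ((normalizer (X : Set G)).mul_mem ((normalizer (X : Set G)).inv_mem (hAX ha)) h1) (hAX ha)
      simpa [mul_assoc] using h2⟩⟩

/-- `M₀` is normal in `H`. -/
theorem H_normalizes_M₀ : H ≤ normalizer ((M₀ : Subgroup G) : Set G) := by
  set N := H ⊓ normalizer ((M₀ : Subgroup G) : Set G) with hN
  have hlt : M₀ < N := by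
    refine lt_of_le_of_ne (le_inf inf_le_left le_normalizer) fun e => ?_
    have := h.H_isNilpotent
    set X := (M₀ : Subgroup G).subgroupOf H with hX
    have hne : X ≠ ⊤ := fun ht => h.M₀_ne_H (le_antisymm inf_le_left (subgroupOf_eq_top.mp ht))
    have hl := Group.normalizerCondition_of_isNilpotent X (lt_top_iff_ne_top.mpr hne)
    obtain ⟨y, hy, hyX⟩ := SetLike.exists_of_lt hl
    refine hyX ?_
    rw [hX, mem_subgroupOf, e]
    refine ⟨y.2, mem_normalizer_iff.mpr fun z => ?_⟩
    constructor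
    · intro hz
      exact (mem_normalizer_iff.mp hy ⟨z, hz.1⟩).mp hz
    · intro hz
      have hzH : z ∈ H := by simpa [mul_assoc] using mul_mem (mul_mem (inv_mem y.2) hz.1) y.2
      exact (mem_normalizer_iff.mp hy ⟨z, hzH⟩).mpr hz
  have e := h.eq_H_of_lt (X := N) inf_le_left (h.normalizer_invariant h.U_normalizes h.U_normalizes_M₀)
    (h.normalizer_invariant h.W₁_normalizes h.W₁_normalizes_M₀) hlt
  exact (le_of_eq e.symm).trans inf_le_right

theorem S_normalizes_M₀ : S ≤ normalizer ((M₀ : Subgroup G) : Set G) := by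
  intro x hx
  obtain ⟨d, hd, w, hw, rfl⟩ := h.data.W₁_compl.2.2.2 x hx
  obtain ⟨a, ha, b, hb, rfl⟩ := h.data.U_compl.2.2.2 d hd
  exact mul_mem (mul_mem (h.H_normalizes_M₀ ha) (h.U_normalizes_M₀ hb)) (h.W₁_normalizes_M₀ hw)

/-- The join of `M₀` with a subgroup normalised by `U` and `W₁` stays so. -/
theorem sup_normalizes {A X Y : Subgroup G} (hX : A ≤ normalizer (X : Set G))
    (hY : A ≤ normalizer (Y : Set G)) : A ≤ normalizer ((X ⊔ Y : Subgroup G) : Set G) :=
  fun a ha => by
    rw [← PLocal.conjMap_eq_self_iff]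
    show (X ⊔ Y).map (MulAut.conj a).toMonoidHom = _
    rw [Subgroup.map_sup]
    exact congr_arg₂ (· ⊔ ·) (PLocal.conjMap_eq_self_iff.mpr (hX ha))
      (PLocal.conjMap_eq_self_iff.mpr (hY ha))

theorem commutator_normalizes {A : Subgroup G} (hA : A ≤ normalizer (H : Set G)) :
    A ≤ normalizer ((⁅H, H⁆ : Subgroup G) : Set G) := fun a ha => by
  rw [← PLocal.conjMap_eq_self_iff]
  show (⁅H, H⁆ : Subgroup G).map (MulAut.conj a).toMonoidHom = _
  rw [map_commutator, show (H).map (MulAut.conj a).toMonoidHom = H from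
    PLocal.conjMap_eq_self_iff.mpr (hA ha)]

/-- The quotient `H / M₀` is abelian. -/
theorem commutator_le_M₀ : ⁅H, H⁆ ≤ M₀ := by
  by_contra hnot
  set X := ⁅H, H⁆ ⊔ M₀ with hX
  have hXH : X ≤ H := sup_le (commutator_le.mpr fun a ha b hb =>
    mul_mem (mul_mem (mul_mem ha hb) (inv_mem ha)) (inv_mem hb)) inf_le_left
  have e := h.eq_H_of_lt hXH (h.sup_normalizes (h.commutator_normalizes h.U_normalizes) h.U_normalizes_M₀)
    (h.sup_normalizes (h.commutator_normalizes h.W₁_normalizes) h.W₁_normalizes_M₀)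
    (lt_of_le_of_ne le_sup_right fun e => hnot (le_sup_left.trans e.symm.le))
  have htop : (M₀ : Subgroup G).subgroupOf H ⊔ commutator H = ⊤ := by
    refine map_injective (Cfsg.fittingHallOf S).subtype_injective ?_
    rw [Subgroup.map_sup, commutator_def, map_commutator, ← MonoidHom.range_eq_map, range_subtype,
      subgroupOf_map_subtype, inf_eq_left.mpr inf_le_left, sup_comm]
    exact e
  exact h.M₀_ne_H (le_antisymm inf_le_left
    (subgroupOf_eq_top.mp (OddLocal.eq_top_of_sup_commutator_eq_top h.H_isNilpotent htop)))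

/-- The quotient `H / M₀` has exponent `p`. -/
theorem pow_mem_M₀ {x : G} (hx : x ∈ H) : x ^ p ∈ M₀ := by
  by_contra hnot
  set Z : Set G := (M₀ : Set G) ∪ {y | ∃ z ∈ H, y = z ^ p} with hZ
  set X := closure Z with hX
  have hXH : X ≤ H := (closure_le _).mpr (by
    rintro y (hy | ⟨z, hz, rfl⟩)
    exacts [hy.1, pow_mem hz _])
  have hinv : ∀ {A : Subgroup G}, A ≤ normalizer (H : Set G) →
      A ≤ normalizer ((M₀ : Subgroup G) : Set G) → A ≤ normalizer (X : Set G) := by
    intro A hA hA' a ha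
    have key : ∀ b ∈ A, ∀ y ∈ X, b * y * b⁻¹ ∈ X := by
      intro b hb y hy
      have : X.map (MulAut.conj b).toMonoidHom ≤ X := by
        rw [hX, MonoidHom.map_closure, closure_le]
        rintro _ ⟨y, hy, rfl⟩
        rcases hy with hy | ⟨z, hz, rfl⟩
        · exact subset_closure (Or.inl ((mem_normalizer_iff.mp (hA' hb) y).mp hy))
        · refine subset_closure (Or.inr ⟨b * z * b⁻¹, (mem_normalizer_iff.mp (hA hb) z).mp hz, ?_⟩)
          simp [conj_pow]
      exact this (mem_map_of_mem _ hy)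
    exact mem_normalizer_iff.mpr fun y =>
      ⟨key a ha y, fun hy => by simpa [mul_assoc] using key a⁻¹ (inv_mem ha) _ hy⟩
  have e : X = H := h.eq_H_of_lt hXH (hinv h.U_normalizes h.U_normalizes_M₀)
    (hinv h.W₁_normalizes h.W₁_normalizes_M₀) (lt_of_le_of_ne (fun y hy => subset_closure (Or.inl hy))
      fun e => hnot (e.symm.le (subset_closure (Or.inr ⟨x, hx, rfl⟩))))
  -- the `p`-th power map is then onto the abelian quotient
  set N := (M₀ : Subgroup G).subgroupOf H with hN
  have : N.Normal := (normal_subgroupOf_iff_le_normalizer inf_le_left).mpr h.H_normalizes_M₀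
  have hab : ∀ a b : H ⧸ N, a * b = b * a := by
    intro a b
    induction a using QuotientGroup.induction_on with | _ a => ?_
    induction b using QuotientGroup.induction_on with | _ b => ?_
    rw [← QuotientGroup.mk_mul, ← QuotientGroup.mk_mul, QuotientGroup.eq, hN, mem_subgroupOf]
    refine h.commutator_le_M₀ ?_
    have h3 := commutator_mem_commutator (H₁ := (Cfsg.fittingHallOf S)) (H₂ := (Cfsg.fittingHallOf S))
      (inv_mem b.2) (inv_mem a.2)
    rw [commutatorElement_def] at h3
    simpa [mul_assoc] using h3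
  letI : CommGroup (H ⧸ N) := { (inferInstance : Group (H ⧸ N)) with mul_comm := hab }
  have hsurj : Function.Surjective (powMonoidHom p : H ⧸ N →* H ⧸ N) := by
    rw [← MonoidHom.range_eq_top, eq_top_iff]
    intro a _
    induction a using QuotientGroup.induction_on with | _ a => ?_
    have ha : (a : G) ∈ X := e.symm ▸ a.2
    have hall : ∀ y ∈ X, ∀ hy : y ∈ H,
        ((⟨y, hy⟩ : H) : H ⧸ N) ∈ (powMonoidHom p : H ⧸ N →* H ⧸ N).range := by
      intro y hy
      induction hy using closure_induction with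
      | mem y hy =>
        intro hyH
        rcases hy with hy | ⟨z, hz, rfl⟩
        · rw [(QuotientGroup.eq_one_iff _).mpr (mem_subgroupOf.mpr hy)]; exact one_mem _
        · exact ⟨((⟨z, hz⟩ : H) : H ⧸ N), (QuotientGroup.mk_pow N _ _).symm⟩
      | one => intro h1; exact ⟨1, map_one _⟩
      | mul y z hy hz ihy ihz =>
        intro _
        exact mul_mem (ihy (hXH hy)) (ihz (hXH hz))
      | inv y hy ih =>
        intro _
        exact inv_mem (ih (hXH hy))
    exact hall a ha a.2
  have hinj := (Finite.injective_iff_surjective).mpr hsurj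
  have hcard : Nat.card (H ⧸ N) = p ^ q := by
    refine Nat.eq_of_mul_eq_mul_right (Nat.card_pos (α := N)) ?_
    rw [← card_eq_card_quotient_mul_card_subgroup, hN,
      Nat.card_congr (subgroupOfEquivOfLe inf_le_left).toEquiv, h.card_H]
  have : Fact (p).Prime := ⟨h.p_prime⟩
  obtain ⟨a, ha⟩ := exists_prime_orderOf_dvd_card' (G := H ⧸ N) p
    (hcard ▸ dvd_pow_self _ h.q_prime.ne_zero)
  have h1 : a = 1 := hinj (by rw [powMonoidHom_apply, powMonoidHom_apply, ← ha, pow_orderOf_eq_one, one_pow])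
  rw [h1, orderOf_one] at ha
  exact h.p_prime.one_lt.ne ha

/-- `U' ` and the second derived subgroup of `S` lie in `F(S)`, so `U'` centralises `H`. -/
theorem commutator_U_le : ⁅U, U⁆ ≤ centralizer (H : Set G) := by
  have h1 : ⁅U, U⁆ ≤ U ⊓ Cfsg.fittingOf S := by
    refine le_inf (commutator_le.mpr fun a ha b hb =>
      mul_mem (mul_mem (mul_mem ha hb) (inv_mem ha)) (inv_mem hb)) ?_
    rw [← h.data.fitting_eq]
    exact (commutator_mono h.U_le_derived h.U_le_derived).trans h.data.derived_two_le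
  exact h1.trans (OddLocal.typeP_U_inf_fitting h.data)

end Pre

end CfsgLib.PF.Base
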