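import Cfsg.Agent.S1391
import Cfsg.Agent.S1537
import Cfsg.Agent.S1540
import Cfsg.Agent.Lib.PF.TypePDade

/-!
# `A₀` of a maximal subgroup of type P is a TI-set

As a maximal subgroup of Type I is a Frobenius group, no element of `A₀(S)` has a centraliser
outside `S`.
-/

set_option autoImplicit false

namespace CfsgLib.PF.Base

open Subgroup
open scoped Pointwise commutatorElement

universe u

variable {G : Type u} [Group G] [Finite G]

/-- A group of type P is not a Frobenius group with kernel `S_F`. -/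
theorem not_frobenius_of_typeP {S W₁ U W₂ : Subgroup G} (hP : Cfsg.IsTypePWith S W₁ U W₂) :
    ¬ ∃ E : Subgroup ↥S, Cfsg.IsFrobeniusComplement E ∧
      Cfsg.frobeniusKernel E = ((Cfsg.fittingHall ↥S : Subgroup ↥S) : Set ↥S) := by
  rintro ⟨E, hE, hker⟩
  have hmem : ∀ {a : S}, a ∈ Cfsg.fittingHall ↥S ↔ (a : G) ∈ Cfsg.fittingHallOf S := fun {a} => by
    rw [← OddLocal.subgroupOf_fittingHallOf, mem_subgroupOf]
  obtain ⟨w, hw, hw1⟩ := (bot_or_exists_ne_one W₁).resolve_left hP.W₁_ne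
  obtain ⟨z, hz, hz1⟩ := (bot_or_exists_ne_one W₂).resolve_left hP.selfNormalizing.2.1
  have hzH : z ∈ Cfsg.fittingHallOf S := (hP.W₂_le hz).1
  set w' : S := ⟨w, hP.W₁_compl.2.1 hw⟩ with hw'
  set z' : S := ⟨z, OddLocal.fittingHallOf_le S hzH⟩ with hz'
  have hwnot : w' ∉ Cfsg.frobeniusKernel E := by
    rw [hker, SetLike.mem_coe, hmem]
    intro hwH
    have : w ∈ ⁅S, S⁆ ⊓ W₁ := ⟨hP.U_compl.1 hwH, hw⟩
    rw [hP.W₁_compl.2.2.1, mem_bot] at this
    exact hw1 this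
  have hznot : ∀ g : S, z' ∉ MulAut.conj g • E := by
    have hzk : z' ∈ Cfsg.frobeniusKernel E := by
      rw [hker, SetLike.mem_coe, hmem]; exact hzH
    exact hzk.resolve_left fun e => hz1 (congrArg Subtype.val e)
  obtain ⟨g, hg⟩ : ∃ g : S, w' ∈ MulAut.conj g • E := by
    by_contra hn
    push Not at hn
    exact hwnot (Or.inr hn)
  have hn : g⁻¹ * z' * g ∉ E := fun hm => hznot g (by
    rw [mem_pointwise_smul_iff_inv_smul_mem]
    simpa [MulAut.smul_def, mul_assoc] using hm)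
  rw [mem_pointwise_smul_iff_inv_smul_mem] at hg
  have hg' : g⁻¹ * w' * g ∈ E := by simpa [MulAut.smul_def, mul_assoc] using hg
  have hc : z' * w' = w' * z' := by
    refine Subtype.ext (?_ : z * w = w * z)
    exact (hP.selfNormalizing.2.2.2.1 w hw z hz).symm
  have h2 : g⁻¹ * w' * g ∈ E ⊓ MulAut.conj (g⁻¹ * z' * g) • E := by
    refine ⟨hg', ?_⟩
    refine SetLike.mem_coe.mpr (mem_pointwise_smul_iff_inv_smul_mem.mpr ?_)
    rw [MulAut.smul_def, ← map_inv, MulAut.conj_apply]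
    have e : (g⁻¹ * z' * g)⁻¹ * (g⁻¹ * w' * g) * ((g⁻¹ * z' * g)⁻¹)⁻¹ = g⁻¹ * w' * g := by
      calc (g⁻¹ * z' * g)⁻¹ * (g⁻¹ * w' * g) * ((g⁻¹ * z' * g)⁻¹)⁻¹
          = g⁻¹ * (z'⁻¹ * (w' * z')) * g := by group
        _ = g⁻¹ * w' * g := by rw [← hc]; group
    rwa [e]
  rw [hE.2.2 _ hn, mem_bot] at h2
  exact hw1 (congrArg Subtype.val (show w' = 1 by
    calc w' = g * (g⁻¹ * w' * g) * g⁻¹ := by group
      _ = 1 := by rw [h2]; group))

/-- The centralisers of the elements of `A₀(S)` lie in `S`. -/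
theorem centralizer_le_of_mem_typeA0 (hG : Cfsg.IsMinSimpleOddOrder G) {S W₁ U W₂ : Subgroup G}
    (hS : IsCoatom S) (hP : Cfsg.IsTypePWith S W₁ U W₂) {x : G} (hx : x ∈ Cfsg.typeA0 S) :
    centralizer ({x} : Set G) ≤ S := by
  by_contra hn
  obtain ⟨-, h2, h3⟩ := Cfsg.Agent.S1391.result hG S hS (Cfsg.typeA0 S) (Or.inr rfl)
  obtain ⟨L, ⟨hL, hle⟩, -⟩ := (h2 x hx hn).2
  obtain ⟨-, -, -, -, ⟨hxA, hxA1⟩, hty, hfrob⟩ := h3 x hx hn L hL hle
  rcases hty with hI | hII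
  · simp only [Cfsg.typeA, if_pos hI, Set.mem_ofPred_eq] at hxA
    obtain ⟨hxL, hx1, y, hy, hy1, hc⟩ := hxA
    have hxF : x ∈ Cfsg.fittingHallOf L := Cfsg.Agent.S1540.result hG L hL hI y hy hy1
      ⟨hxL, mem_centralizer_singleton_iff.mpr hc⟩
    refine hxA1 ⟨?_, hx1⟩
    rw [Cfsg.typeCore]
    split_ifs
    · rename_i h34
      exfalso
      rcases h34 with ⟨A, V, B, hA, -⟩ | ⟨A, V, B, hA, -⟩ <;>
        exact not_typeI_of_typeP hG hL hA hI
    · exact hxF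
  · exact not_frobenius_of_typeP hP (hfrob hII)

/-- `A₀(S)` is a TI-set with normaliser `S`. -/
theorem typeA0_ti (hG : Cfsg.IsMinSimpleOddOrder G) {S W₁ U W₂ : Subgroup G}
    (hS : IsCoatom S) (hP : Cfsg.IsTypePWith S W₁ U W₂) :
    Cfsg.IsTISubset (Cfsg.typeA0 S) ∧ Subgroup.normalizer (Cfsg.typeA0 S) = S := by
  have hn := (Cfsg.Agent.S1537.result hG S hS _ (Or.inr (Or.inr rfl))).1
  refine ⟨?_, hn⟩
  intro g hg x hx hgx
  exfalso
  obtain ⟨m, hm, e⟩ := (Cfsg.Agent.S1391.result hG S hS _ (Or.inr rfl)).1 x hx g hgx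
  refine hg ?_
  rw [hn]
  have h1 : m⁻¹ * g ∈ centralizer ({x} : Set G) := mem_centralizer_singleton_iff.mpr (by
    calc m⁻¹ * g * x = m⁻¹ * (g * x * g⁻¹) * g := by group
      _ = x * (m⁻¹ * g) := by rw [← e]; group)
  have h2 := S.mul_mem hm (centralizer_le_of_mem_typeA0 hG hS hP hx h1)
  rwa [← mul_assoc, mul_inv_cancel, one_mul] at h2

end CfsgLib.PF.Base
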