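import Cfsg.Agent.Lib.PF.Base.Quotient
import Cfsg.Agent.Lib.PF.Base.TypePTI
import Cfsg.Agent.Lib.PF.Side13

/-!
# A member of Type II of a pair; the primes of a pair without Type V members
-/

set_option autoImplicit false

namespace CfsgLib.PF.Base

open Subgroup
open scoped commutatorElement

universe u

variable {G : Type u} [Group G] [Finite G] {S T W₁ W₂ U V : Subgroup G}

/-- The hypothesis `Pre` for each member of a pair without members of Type V. -/
theorem pre_of_pair (h : STPair S T W₁ W₂ U V) (hS5 : ¬ Cfsg.IsOfTypeV S) (hT5 : ¬ Cfsg.IsOfTypeV T) :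
    Pre S W₁ W₂ U := by
  have key : ∀ {M A B X : Subgroup G}, IsCoatom M → Cfsg.IsTypePWith M A X B → ¬ Cfsg.IsOfTypeV M →
      X ≠ ⊥ ∧ (Nat.card A).Prime := by
    intro M A B X hM hP h5
    obtain ⟨ht, h2, h3, h4, -⟩ := typePDataType h.minSimple M A X B hM hP
    rcases ht with e | e | e | e
    · exact ⟨(h2 e).1, (h2 e).2.1⟩
    · exact ⟨(h3 e).1, (h3 e).2.1⟩
    · exact ⟨(h4 e).1, (h4 e).2.1⟩
    · exact absurd e h5
  obtain ⟨hU, hq⟩ := key h.maxS h.dataS hS5
  obtain ⟨-, hp⟩ := key h.maxT h.dataT hT5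
  exact ⟨h.minSimple, h.maxS, h.dataS, hq, hp, hU⟩

namespace Pre

variable (h : Pre S W₁ W₂ U)

include h

theorem inf_centralizer_U_of_typeII (hII : Cfsg.IsOfTypeII S) :
    Cfsg.fittingHallOf S ⊓ centralizer (U : Set G) = ⊥ := by
  obtain ⟨U₀, hU₀, hexp, hsemi⟩ := Ten.exists_semiregular h.data hII
  obtain ⟨v, hv, hv1⟩ := U₀.bot_or_exists_ne_one.resolve_left fun e => by
    have h1 : Monoid.exponent U₀ = 1 := by
      rw [e]; exact Monoid.exp_eq_one_iff.mpr inferInstance
    rw [hexp] at h1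
    have := Monoid.exp_eq_one_iff.mp h1
    exact h.U_ne (Subgroup.eq_bot_of_subsingleton U)
  rw [eq_bot_iff]
  exact fun x hx => mem_bot.mpr (hsemi v hv hv1 x hx.1 (mem_centralizer_iff.mp hx.2 v (hU₀ hv)))

theorem elementary_of_inf_eq_bot (hM : Cfsg.fittingHallOf S ⊓ centralizer (U : Set G) = ⊥) :
    Cfsg.IsElementaryAbelian (Nat.card W₂) (Cfsg.fittingHallOf S) ∧
      Nat.card (Cfsg.fittingHallOf S) = Nat.card W₂ ^ Nat.card W₁ := by
  refine ⟨⟨⟨⟨fun a b => Subtype.ext ?_⟩⟩, fun x hx => ?_⟩, ?_⟩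
  · have h1 := h.commutator_le_M₀ (commutator_mem_commutator a.2 b.2)
    rw [hM, mem_bot, commutatorElement_eq_one_iff_mul_comm] at h1
    exact h1
  · have h1 := h.pow_mem_M₀ hx
    rwa [hM, mem_bot] at h1
  · rw [h.card_H, hM, card_bot, mul_one]

/-- The setting of section 13 from an elementary `S_F` and an abelian `U`. -/
theorem side (hM : Cfsg.fittingHallOf S ⊓ centralizer (U : Set G) = ⊥) (hU : IsMulCommutative U) :
    S13.Side S W₁ W₂ U :=
  { data := h.data
    q_prime := h.q_prime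
    p_prime := h.p_prime
    p_ne_q := h.p_ne_q
    odd := h.minSimple.1
    U_ne := h.U_ne
    U_comm := hU
    fpf := fun _ hw hw1 _ hu hc => h.fpf hw hw1 hu hc
    elementary := (h.elementary_of_inf_eq_bot hM).1
    card_P := (h.elementary_of_inf_eq_bot hM).2
    index_le := h.action.1
    ti := (typeA0_ti h.minSimple h.maxS h.data).1
    normalizer_eq := (typeA0_ti h.minSimple h.maxS h.data).2 }

/-- The setting of section 13 for a member of Type II. -/
theorem side_of_typeII (hII : Cfsg.IsOfTypeII S) : S13.Side S W₁ W₂ U :=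
  h.side (h.inf_centralizer_U_of_typeII hII)
    ((typePDataType h.minSimple S W₁ U W₂ h.maxS h.data).2.1 hII).2.2.1

end Pre

end CfsgLib.PF.Base
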