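import Cfsg.Agent.Lib.PF.Base.ThreeFourBound
import Cfsg.Agent.Lib.PF.Base.TypeTwo
import Cfsg.Agent.Lib.PF.CU13

/-!
# Section 11: a member of type III or IV of a pair is of type III with `p < q`, in the setting of
section 13
-/

set_option autoImplicit false
set_option maxHeartbeats 1000000
set_option linter.unusedSectionVars false

namespace CfsgLib.PF.Base

open scoped Classical commutatorElement

universe u

variable {G : Type u} [Group G] [Fintype G] {S T W₁ W₂ U V : Subgroup G}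

theorem typeThreeFour [Fintype S] (hST : STPair S T W₁ W₂ U V) (h : Pre S W₁ W₂ U)
    (hS : Cfsg.IsOfTypeIII S ∨ Cfsg.IsOfTypeIV S) :
    Cfsg.IsOfTypeIII S ∧ Nat.card W₂ < Nat.card W₁ ∧ S13.Side S W₁ W₂ U := by
  have hS' : Cfsg.IsOfTypeIII S ∨ Cfsg.IsOfTypeIV S ∨ Cfsg.IsOfTypeV S :=
    hS.elim Or.inl fun e => Or.inr (Or.inl e)
  obtain ⟨hs, hA0, -⟩ := Ten.sec_of_type hST hS' h.p_prime
  obtain ⟨μ, δ, he⟩ := S13.exists_exc typePPrimeDade hST
  obtain ⟨η, hη⟩ := S13.exists_family hST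
  obtain ⟨ω, hω, hd, hδ, -⟩ := h.exists_line he.family
  have hδ' : δ ω = ((1 : ℤ) : ℂ) := by rw [hδ, Int.cast_one]
  have h1 := Ten.derived_index_bound hST hS' h.p_prime he.family hω hd hδ'
  have hu := h.one_lt_relIndex
  obtain ⟨hHU, hC, hN⟩ := h.derived_quotient (by omega)
  have hle : (((U ⊓ Subgroup.centralizer (Cfsg.fittingHallOf S : Set G)).relIndex U : ℕ) : ℤ) - 1 ≤
      ((⁅⁅S, S⁆, ⁅S, S⁆⁆ : Subgroup G).relIndex ⁅S, S⁆ : ℤ) - 1 := by rw [hN]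
  have hpq : Nat.card W₂ < Nat.card W₁ := by
    refine lt_of_le_of_ne ?_ (Ne.symm h.p_ne_q)
    by_contra hlt
    exact Ten.false_of_lt hST hS' h.p_prime he.family hω hd hδ' (not_le.mp hlt) hle
  obtain ⟨ζ, hζ⟩ := Ten.exists_linear_mem hST hS' h.p_prime he.family hω hd hδ' (by omega)
  obtain ⟨n, hc, -⟩ := Ten.exists_n hST hS' h.p_prime he.family hω hd hδ'
  obtain ⟨hirr, hdeg⟩ := hs.linear_props he.family hc hζ
  have hbase : Ten.IsBase W₁ ζ := ⟨hirr, hdeg, fun x hx => by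
    obtain ⟨θ, -, -, -, rfl⟩ := hζ
    have := hs.hyp.normal_subgroupOf
    exact Clifford.indFun_eq_zero_of_not_mem θ fun hm => hx (Subgroup.mem_subgroupOf.mp hm)⟩
  have hcol : ∀ ψ, TrivOn W₁ ψ → ψ ≠ 1 → ∃ k : ℤ,
      Cfsg.classInner (Ten.dade S W₁ W₂ (Ten.beta μ ζ)) (η ψ) = ((2 * k + 1 : ℤ) : ℂ) := by
    intro ψ hψ hψ1
    obtain ⟨k, hk⟩ := Ten.column_odd hST hS' h.p_prime he.family hω hd hδ' hle hη hψ hψ1 hζ
    rw [tau0, hA0] at hk
    exact ⟨k, hk⟩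
  rcases h.action.2 with ⟨hgen, -, hirr'⟩ | ⟨hu', hreg⟩
  · have hU := h.U_comm hC hgen
    refine ⟨hS.resolve_right fun h4 => ?_, hpq, h.side (h.M₀_eq_bot hHU hirr') hU⟩
    obtain ⟨-, -, -, i4, -⟩ := typePDataType h.minSimple S W₁ U W₂ h.maxS h.data
    exact (i4 h4).2.2 hU
  · exact (h.line_case_false hs he.family hη hpq hbase hcol hu' hreg).elim

end CfsgLib.PF.Base
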