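import Cfsg.Agent.Lib.PF.Base.ThreeFourLine
import Cfsg.Agent.Lib.PF.Base.PrimeSystem
import Cfsg.Agent.Lib.PF.TenExports
import Cfsg.Agent.Lib.PF.PrimeDadeRed
import Cfsg.Agent.S1517

/-!
# Type III and IV: few irreducible characters of degree `qu` on `H / M₀`

The coherence of the characters induced from the members bounds the number of irreducible ones by
`q + 1 - p`, against the number of regular linear characters of `H / M₀` when `U` is reducible on it.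
-/

set_option autoImplicit false
set_option maxHeartbeats 1000000
set_option linter.unusedSectionVars false

namespace CfsgLib.PF.Base

open CfsgLib.Char
open scoped Classical ComplexConjugate commutatorElement

universe u

variable {G : Type u} [Group G] [Fintype G] {S W₁ W₂ U : Subgroup G} [Fintype S]
  {μ : (↥(W₁ ⊔ W₂) →* ℂˣ) → (S → ℂ)} {δ : (↥(W₁ ⊔ W₂) →* ℂˣ) → ℂ}
  {η : (↥(W₁ ⊔ W₂) →* ℂˣ) → (G → ℂ)}

/-- The sum of the coefficients of the image of `β` on the first column is odd. -/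
theorem first_col_odd [Fintype (↥(W₁ ⊔ W₂) →* ℂˣ)] (hs : Ten.Sec S W₁ W₂)
    (hodd : Odd (Nat.card G))
    (hμ : IsPrimeTIFamily S W₁ W₂ μ δ) (hη : Cfsg.IsCyclicTIFamily W₁ W₂ η) {ζ : S → ℂ}
    (hζ : Ten.IsBase W₁ ζ) {c : (↥(W₁ ⊔ W₂) →* ℂˣ) → ℤ} (h1 : c 1 = 1)
    (hcoef : ∀ ω, Cfsg.classInner (Ten.dade S W₁ W₂ (Ten.beta μ ζ)) (η ω) = c ω) :
    Odd (∑ φ ∈ Ten.trivSet W₁ W₂ W₂, c φ) := by
  have hW := hs.hyp.selfNormalizing
  have hζ' : Ten.IsBase W₁ (Cfsg.conjFun ζ) :=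
    ⟨isIrrCharacter_conj hζ.irr, by simp [Cfsg.conjFun, hζ.deg],
      fun x hx => by simp [Cfsg.conjFun, hζ.van x hx]⟩
  have hne : Cfsg.conjFun ζ ≠ ζ := fun e => by
    obtain ⟨x, hx, hx1⟩ := (Subgroup.bot_or_exists_ne_one W₁).resolve_left hs.W₁_ne
    have h0 := hζ.van ⟨x, hs.hyp.W₁_le hx⟩ (hs.hyp.W₁_not_mem_K hx hx1).1
    rw [eq_one_of_real_odd hs.hyp.odd hζ.irr fun g => Complex.conj_eq_iff_im.mp (congrFun e g)] at h0
    exact one_ne_zero h0
  obtain ⟨hg, hb1, hv, hA⟩ := hs.beta_supported hμ hζ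
  obtain ⟨hg', hb1', hv', hA'⟩ := hs.beta_supported hμ hζ'
  set β := Ten.dade S W₁ W₂ (Ten.beta μ ζ) with hβ
  have hconj : Cfsg.conjFun β = Ten.dade S W₁ W₂ (Ten.beta μ (Cfsg.conjFun ζ)) := by
    show Cfsg.conjFun (Cfsg.dadeIsometry _ _ _ _) = _
    rw [Ten.beta, NonFrob.dade_conj, Bridge.conjFun_sub, primeRed_conj hs.hyp hμ,
      show (1 : ↥(W₁ ⊔ W₂) →* ℂˣ)⁻¹ = 1 from MonoidHom.ext fun _ => inv_one]
    rfl
  set f := Ten.beta μ ζ - Ten.beta μ (Cfsg.conjFun ζ) with hf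
  have hfgen : Cfsg.IsGeneralizedCharacter S f := isGeneralized_sub hg hg'
  have hfA : ∀ x : S, (x : G) ∉ Ten.bigA S W₁ W₂ → f x = 0 := fun x hx => by
    simp [hf, hA x hx, hA' x hx]
  have hT : β - Cfsg.conjFun β = Ten.dade S W₁ W₂ f := by
    rw [hconj, hβ, hf]
    funext g
    simp only [Ten.dade, Cfsg.dadeIsometry, Pi.sub_apply]
    split_ifs <;> simp
  have hff : Cfsg.classInner f f = 2 := by
    rw [hf, show Ten.beta μ ζ - Ten.beta μ (Cfsg.conjFun ζ) = Cfsg.conjFun ζ - ζ by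
      simp only [Ten.beta]; abel, classInner_sub_left, classInner_sub_right, classInner_sub_right,
      irr_classInner_self hζ'.irr, irr_classInner_self hζ.irr, irr_classInner_ne hζ'.irr hζ.irr hne,
      irr_classInner_ne hζ.irr hζ'.irr (Ne.symm hne)]
    norm_num
  have horth : ∀ ω, c ω⁻¹ = c ω := fun ω => by
    have h0 := Bridge.orth_of_norm_two hW hodd hη (T := β - Cfsg.conjFun β)
      (hT ▸ hs.dade_gen hfgen hfA)
      (by rw [hT, hs.dade_inner (isGeneralized_isClassFunction hfgen) hfA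
        (isGeneralized_isClassFunction hfgen), hff])
      (fun v hv1 hv2 hv3 => by
        rw [hT, hs.dade_apply_V (isGeneralized_isClassFunction hfgen) hv1 hv2 hv3]
        have hn : v ∉ (⁅S, S⁆ : Subgroup G) := fun e => hv3 (hs.hyp.K_inf_W e hv1)
        simp [hf, hv ⟨v, hs.hyp.W_le hv1⟩ hn, hv' ⟨v, hs.hyp.W_le hv1⟩ hn]) ω
    rw [classInner_sub_left, sub_eq_zero, hcoef, show η ω = Cfsg.conjFun (η ω⁻¹) by
      rw [Bridge.eta_conj hW hodd hη]; congr 1, Clifford.Coh.classInner_conjFun,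
      ← classInner_conj_symm, hcoef, map_intCast, Int.cast_inj] at h0
    exact h0.symm
  set P := Ten.trivSet W₁ W₂ W₂ with hP
  have h1P : (1 : ↥(W₁ ⊔ W₂) →* ℂˣ) ∈ P := Ten.mem_trivSet.mpr (Bridge.trivOn_one W₂)
  have hz : ∑ φ ∈ P.erase 1, ((c φ : ℤ) : ZMod 2) = 0 := by
    refine Finset.sum_involution (fun φ _ => φ⁻¹) (fun φ _ => ?_) (fun φ hφ _ => ?_) (fun φ hφ => ?_)
      fun φ _ => inv_inv φ
    · rw [horth]; exact CharTwo.add_self_eq_zero _
    · exact (ne_inv_of_ne_one hs.hyp.odd_W (Finset.mem_erase.mp hφ).1).symm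
    · exact Finset.mem_erase.mpr ⟨fun e => (Finset.mem_erase.mp hφ).1 (by rw [← inv_inv φ, e]; exact MonoidHom.ext fun _ => inv_one),
        Ten.mem_trivSet.mpr (trivOn_inv (Ten.mem_trivSet.mp (Finset.mem_erase.mp hφ).2))⟩
  rw [← ZMod.intCast_eq_one_iff_odd, Int.cast_sum, ← Finset.add_sum_erase P _ h1P, hz, h1,
    Int.cast_one, add_zero]

namespace Pre

variable (h : Pre S W₁ W₂ U)

include h

local notation "H" => Cfsg.fittingHallOf S
local notation "M₀" => Cfsg.fittingHallOf S ⊓ Subgroup.centralizer (U : Set G)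
local notation "C" => U ⊓ Subgroup.centralizer (Cfsg.fittingHallOf S : Set G)
local notation "p" => Nat.card W₂
local notation "q" => Nat.card W₁

theorem Mem.conj {θ} (hθ : Mem S U θ) : Mem S U (Cfsg.conjFun θ) := by
  refine ⟨isIrrCharacter_conj hθ.irr, by simp [Cfsg.conjFun, hθ.deg],
    fun x hx => congrArg conj (hθ.ker x hx), ?_⟩
  obtain ⟨x, hx, hne⟩ := hθ.ntriv
  exact ⟨x, hx, fun e => hne ((starRingEnd ℂ).injective e)⟩

/-- The bound on the irreducible induced characters. -/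
theorem irr_bound (hs : Ten.Sec S W₁ W₂) (hμ : IsPrimeTIFamily S W₁ W₂ μ δ)
    (hη : Cfsg.IsCyclicTIFamily W₁ W₂ η) (hpq : p < q) {ζ : S → ℂ} (hζ : Ten.IsBase W₁ ζ)
    (hcol : ∀ ψ, TrivOn W₁ ψ → ψ ≠ 1 →
      ∃ k : ℤ, Cfsg.classInner (Ten.dade S W₁ W₂ (Ten.beta μ ζ)) (η ψ) = ((2 * k + 1 : ℤ) : ℂ))
    (F : Finset (S → ℂ))
    (hF : ∀ χ, χ ∈ F → Cfsg.IsIrrCharacter S χ ∧
      ∃ θ, Mem S U θ ∧ Cfsg.indFun (⁅S, S⁆.subgroupOf S) θ = χ) :
    F.card + p ≤ q + 1 := by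
  rcases F.eq_empty_or_nonempty with rfl | ⟨χ₀, hχ₀⟩
  · rw [Finset.card_empty]; omega
  have := h.derived_normal
  set K' := ⁅S, S⁆.subgroupOf S with hK'
  have := Fintype.ofFinite K'
  have hW := hs.hyp.selfNormalizing
  have := finite_hom hW
  have := Fintype.ofFinite (↥(W₁ ⊔ W₂) →* ℂˣ)
  have hidx := index_K hs.hyp
  set Y : Set (S → ℂ) := {χ | ∃ θ, Mem S U θ ∧ Cfsg.indFun K' θ = χ} with hY
  have hne1 : ∀ {θ}, Mem S U θ → θ ≠ fun _ => 1 := fun {θ} hθ e => by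
    have := hθ.deg
    rw [e] at this
    exact h.one_lt_relIndex.ne (Nat.cast_injective (R := ℂ) (Nat.cast_one.trans this))
  have hsub : ∀ χ ∈ Y, χ ∈ Cfsg.inducedIrrAbove K' ⊥ := by
    rintro _ ⟨θ, hθ, rfl⟩
    exact ⟨θ, hθ.irr, hne1 hθ, fun a ha => by
      rw [show a = 1 from Subtype.ext (Subgroup.mem_bot.mp ha)], rfl⟩
  have hYind : Y ⊆ indSetD K' K' ⊥ := fun χ hχ => Ten.mem_indSetD_self _ (hsub χ hχ)
  have hYconj : ∀ χ ∈ Y, Cfsg.conjFun χ ∈ Y := by
    rintro _ ⟨θ, hθ, rfl⟩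
    exact ⟨_, Mem.conj h hθ, (Coherent.conjFun_indFun K' θ).symm⟩
  have hYdeg : ∀ χ ∈ Y, χ 1 = (q : ℂ) * ((C).relIndex U : ℂ) := by
    rintro _ ⟨θ, hθ, rfl⟩
    rw [indFun_apply_one, hidx, hθ.deg]
  obtain ⟨Rf, hsys⟩ := exists_primeSystem hs.hyp h.minSimple.1 hμ hη hYind hYconj
    ⟨χ₀, (hF χ₀ hχ₀).2⟩ (by
      rintro _ ⟨θ, hθ, rfl⟩
      exact induced_cases hs.hyp h.q_prime hμ θ hθ.irr)
  obtain ⟨-, τ₁, hτ₁, hag⟩ := Cfsg.Agent.S1517.result Y _ Rf hsys
    (fun a ha b hb => (hYdeg a ha).trans (hYdeg b hb).symm)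
  obtain ⟨horth, hlines⟩ := primeDadeCoherent S ⁅S, S⁆ W₁ W₂ ⁅S, S⁆ _ _ hs.hyp μ δ hμ η hη Y τ₁
    hYind hYconj hτ₁ hag
  obtain ⟨ω, hω, -, -, θω, hθω, hlω⟩ := h.exists_line hμ
  have hωY : primeRed μ ω ∈ Y := ⟨θω, hθω, hlω⟩
  have hline := hlines ⟨χ₀, (hF χ₀ hχ₀).2, (hF χ₀ hχ₀).1⟩ ω hωY
  obtain ⟨hg, hb1, hv, hA⟩ := hs.beta_supported hμ hζ
  set β := Ten.dade S W₁ W₂ (Ten.beta μ ζ) with hβ
  have hβgen : Cfsg.IsGeneralizedCharacter G β := hs.dade_gen hg hA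
  choose c hcoef using fun ω => classInner_isGeneralized_int hβgen (IsCyclicTIFamily.generalized hη ω)
  -- the grid
  obtain ⟨hc1, hadd⟩ : c 1 = 1 ∧ ∀ φ a, TrivOn W₂ φ → TrivOn W₁ a → c (φ * a) + 1 = c φ + c a := by
    have hc1 : c 1 = 1 := by
      apply Int.cast_injective (α := ℂ)
      rw [← hcoef, hη.map_one, hβ, hs.dade_one (isGeneralized_isClassFunction hg) hA,
        hs.beta_one hμ hζ, Int.cast_one]
    refine ⟨hc1, fun φ a hφ ha => ?_⟩
    have hV : Bridge.VanishV W₁ W₂ β := fun v hv' h1 h2 => by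
      rw [hβ, hs.dade_apply_V (isGeneralized_isClassFunction hg) hv' h1 h2]
      exact hv _ fun e => h2 (hs.hyp.K_inf_W e hv')
    have e := Bridge.coeff_split hW hη (isGeneralized_isClassFunction hβgen) hV hφ ha
    rw [← hη.map_one, hcoef, hcoef, hcoef, hcoef, hc1] at e
    exact_mod_cast e
  have hcolodd : ∀ ψ, TrivOn W₁ ψ → Odd (c ψ) := fun ψ hψ => by
    by_cases e : ψ = 1
    · rw [e, hc1]; exact odd_one
    · obtain ⟨k, hk⟩ := hcol ψ hψ e
      rw [hcoef, Int.cast_inj] at hk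
      exact ⟨k, hk⟩
  have hfirst := first_col_odd hs h.minSimple.1 hμ hη hζ hc1 hcoef
  -- a column sum is odd
  have hsum : ∀ ω', ¬ TrivOn W₂ ω' →
      Odd (∑ a ∈ Finset.univ.filter (fun a => SameOn W₂ a ω'), c a) := by
    intro ω' hω'
    obtain ⟨φ₀, ψ, hφ₀, hψ, rfl⟩ := Bridge.exists_split hW ω'
    rw [class_sum (ψ := ψ) (fun w hw => by simp [hφ₀ w hw])]
    have e : ∀ φ ∈ Ten.trivSet W₁ W₂ W₂, c (φ * ψ) = c φ + (c ψ - 1) := fun φ hφ => by
      have := hadd φ ψ (Ten.mem_trivSet.mp hφ) hψ; omega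
    rw [show Finset.univ.filter (fun φ : ↥(W₁ ⊔ W₂) →* ℂˣ => TrivOn W₂ φ) = Ten.trivSet W₁ W₂ W₂ from
      rfl, Finset.sum_congr rfl e, Finset.sum_add_distrib, Finset.sum_const]
    obtain ⟨k, hk⟩ := hfirst
    obtain ⟨l, hl⟩ := hcolodd ψ hψ
    refine ⟨k + (Ten.trivSet W₁ W₂ W₂).card * l, ?_⟩
    rw [hk, hl, nsmul_eq_mul]; ring
  -- the images of the irreducible members
  have hval : ∀ χ ∈ F, ∃ e : ℤ, e ≠ 0 ∧ Cfsg.classInner β (τ₁ χ) = (e : ℂ) := by
    intro χ hχ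
    obtain ⟨hirr, hχY⟩ := hF χ hχ
    have hd : χ - primeRed μ ω ∈ Cfsg.zspanOn Y ({1}ᶜ : Set S) :=
      ⟨Submodule.sub_mem _ (zspan_mem hχY) (zspan_mem hωY), fun y hy => by
        obtain rfl : y = 1 := by simpa using hy
        rw [Pi.sub_apply, hYdeg χ hχY, hYdeg _ hωY, sub_self]⟩
    obtain ⟨hdg, -, hdA⟩ := hs.hyp.indSetD_supported hYind hd
    have hχv : ∀ x : S, (x : G) ∉ (⁅S, S⁆ : Subgroup G) → χ x = 0 := fun x hx => by
      obtain ⟨θ, -, rfl⟩ := hχY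
      exact Clifford.indFun_eq_zero_of_not_mem θ fun hm => hx (Subgroup.mem_subgroupOf.mp hm)
    have h0 : Cfsg.classInner (Ten.beta μ ζ) (χ - primeRed μ ω) = 0 := by
      have hχζ : χ ≠ ζ := fun e => by
        have e1 := hYdeg χ hχY
        rw [e, hζ.deg] at e1
        have e2 : (C).relIndex U = 1 := by
          have e3 : (q : ℂ) * ((C).relIndex U : ℂ) = (q : ℂ) * 1 := by rw [← e1, mul_one]
          exact_mod_cast mul_left_cancel₀ natCard_ne_zero e3
        exact h.one_lt_relIndex.ne' e2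
      rw [classInner_sub_right, hs.beta_irr hμ hζ hirr hχv, if_neg hχζ, Ten.beta,
        classInner_sub_left, primeRed_inner hs.hyp hμ, if_neg (fun e : SameOn W₂ 1 ω =>
          hω fun w hw => (e w hw).symm), (primeRed_eq_sum hW μ ω).1, classInner_sum_right,
        Finset.sum_eq_zero fun a _ => ?_]
      · ring
      · rw [← classInner_conj_symm, hs.inner_mu hμ hζ.irr hζ.van, map_zero]
    have hkey : Cfsg.classInner β (τ₁ χ) = Cfsg.classInner β (τ₁ (primeRed μ ω)) := by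
      rw [← sub_eq_zero, ← classInner_sub_right, ← isometry_sub hτ₁ (zspan_mem hχY) (zspan_mem hωY),
        hag _ hd]
      exact (hs.dade_inner (isGeneralized_isClassFunction hg) hA
        (isGeneralized_isClassFunction hdg)).trans h0
    have hfin : ∀ ω', Cfsg.classInner β (∑ᶠ a ∈ {a | SameOn W₂ a ω'}, η a) =
        ((∑ a ∈ Finset.univ.filter (fun a => SameOn W₂ a ω'), c a : ℤ) : ℂ) := fun ω' => by
      rw [finsum_mem_eq_toFinset_sum, classInner_sum_right, Int.cast_sum]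
      exact Finset.sum_congr (by ext; simp) fun a _ => hcoef a
    have hω' : ¬ TrivOn W₂ ω⁻¹ := fun e => hω fun w hw => by simpa using e w hw
    have hnz : ∀ ω', ¬ TrivOn W₂ ω' →
        (∑ a ∈ Finset.univ.filter (fun a => SameOn W₂ a ω'), c a) ≠ 0 := fun ω' ht e => by
      have := hsum ω' ht
      rw [e] at this
      simp at this
    obtain ⟨s, hs0, hs'⟩ : ∃ s : ℤ, s ≠ 0 ∧ δ ω = (s : ℂ) := by
      rcases hμ.sign ω with e | e
      · exact ⟨1, one_ne_zero, by simp [e]⟩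
      · exact ⟨-1, by norm_num, by simp [e]⟩
    rcases hline with e | e
    · refine ⟨s * _, mul_ne_zero hs0 (hnz ω hω), ?_⟩
      rw [hkey, e, classInner_smul_right, hfin, hs', map_intCast, ← Int.cast_mul]
    · refine ⟨-(s * _), neg_ne_zero.mpr (mul_ne_zero hs0 (hnz _ hω')), ?_⟩
      rw [hkey, e, ← neg_smul, classInner_smul_right, hfin, hs', map_neg, map_intCast, Int.cast_neg,
        Int.cast_mul, neg_mul]
  -- Bessel
  have hinj : ∀ a ∈ F, ∀ b ∈ F, Cfsg.classInner (τ₁ a) (τ₁ b) = if a = b then 1 else 0 :=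
    fun a ha b hb => by
      rw [hτ₁.2.2.1 a (zspan_mem (hF a ha).2) b (zspan_mem (hF b hb).2)]
      split_ifs with e
      · rw [e, irr_classInner_self (hF b hb).1]
      · exact irr_classInner_ne (hF a ha).1 (hF b hb).1 e
  have hinjOn : Set.InjOn τ₁ F := fun a ha b hb e => by
    by_contra hne
    have h1 := hinj a ha b hb
    rw [if_neg hne, e, hinj b hb b hb, if_pos rfl] at h1
    exact one_ne_zero h1
  have hT1 : Bridge.Ortho (F.image τ₁) := by
    refine ⟨fun a ha => ?_, fun a ha => ?_, fun a ha b hb hne => ?_⟩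
    · obtain ⟨x, hx, rfl⟩ := Finset.mem_image.mp ha
      exact hτ₁.2.2.2 x (zspan_mem (hF x hx).2)
    · obtain ⟨x, hx, rfl⟩ := Finset.mem_image.mp ha
      rw [hinj x hx x hx, if_pos rfl]
    · obtain ⟨x, hx, rfl⟩ := Finset.mem_image.mp ha
      obtain ⟨y, hy, rfl⟩ := Finset.mem_image.mp hb
      rw [hinj x hx y hy, if_neg fun e => hne (by rw [e])]
  have hT2 := Bridge.ortho_image hη (Ten.trivSet W₁ W₂ W₁)
  have hmut : Bridge.MutOrth (F.image τ₁) ((Ten.trivSet W₁ W₂ W₁).image η) := fun a ha b hb => by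
    obtain ⟨x, hx, rfl⟩ := Finset.mem_image.mp ha
    obtain ⟨y, -, rfl⟩ := Finset.mem_image.mp hb
    exact horth x (hF x hx).2 (hF x hx).1 y
  have hle := (Bridge.mass_le (hT1.union hT2 hmut) hβgen).1
  rw [Bridge.mass_union β hT1 hmut, Bridge.mass_image hη] at hle
  have hββ : Cfsg.classInner β β = (q : ℂ) + 1 := by
    rw [hβ, hs.dade_inner (isGeneralized_isClassFunction hg) hA (isGeneralized_isClassFunction hg),
      hs.beta_self hμ hζ]
  rw [hββ, Complex.add_re, Complex.natCast_re, Complex.one_re] at hle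
  have key : ∀ e : ℤ, e ≠ 0 → (1 : ℝ) ≤ ‖(e : ℂ)‖ ^ 2 := fun e he => by
    rw [Bridge.norm_intCast_sq]
    have : 1 ≤ e ^ 2 := by
      have := mul_self_pos.mpr he
      rw [sq]; omega
    exact_mod_cast this
  have b1 : ((F.card : ℕ) : ℝ) ≤ Bridge.mass β (F.image τ₁) := by
    rw [Bridge.mass, Finset.sum_image hinjOn, Finset.cast_card]
    exact Finset.sum_le_sum fun χ hχ => by
      obtain ⟨e, he, hev⟩ := hval χ hχ
      rw [hev]; exact key e he
  have b2 : ((p : ℕ) : ℝ) ≤ ∑ ψ ∈ Ten.trivSet W₁ W₂ W₁, ‖Cfsg.classInner β (η ψ)‖ ^ 2 := by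
    rw [← (Ten.card_trivSet hW).2, Finset.cast_card]
    exact Finset.sum_le_sum fun ψ hψ => by
      rw [hcoef]
      refine key _ fun e => ?_
      have := hcolodd ψ (Ten.mem_trivSet.mp hψ)
      rw [e] at this
      simp at this
  have : ((F.card + p : ℕ) : ℝ) ≤ ((q + 1 : ℕ) : ℝ) := by push_cast; linarith
  exact_mod_cast this

/-- The lines of the members are at most `p - 1` and each irreducible one has at most `q` preimages. -/
theorem card_members_le (hμ : IsPrimeTIFamily S W₁ W₂ μ δ)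
    (T : Finset ((⁅S, S⁆.subgroupOf S) → ℂ)) (hT : ∀ θ ∈ T, Mem S U θ) :
    ∃ F : Finset (S → ℂ), (∀ χ, χ ∈ F → Cfsg.IsIrrCharacter S χ ∧
      ∃ θ, Mem S U θ ∧ Cfsg.indFun (⁅S, S⁆.subgroupOf S) θ = χ) ∧ T.card + 1 ≤ q * F.card + p := by
  have hyp := primeDadeHyp_of_typeP h.minSimple h.maxS h.data
  have := h.derived_normal
  have := Fintype.ofFinite (⁅S, S⁆.subgroupOf S)
  have hW := hyp.selfNormalizing
  have := finite_hom hW
  have := Fintype.ofFinite (↥(W₁ ⊔ W₂) →* ℂˣ)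
  have := Fintype.ofFinite W₁
  set I := Cfsg.indFun (⁅S, S⁆.subgroupOf S) with hI
  set P : (((⁅S, S⁆.subgroupOf S) → ℂ)) → Prop := fun θ => Cfsg.IsIrrCharacter S (I θ)
  refine ⟨(T.filter P).image I, fun χ hχ => ?_, ?_⟩
  · obtain ⟨θ, hθ, rfl⟩ := Finset.mem_image.mp hχ
    exact ⟨(Finset.mem_filter.mp hθ).2, θ, hT θ (Finset.mem_filter.mp hθ).1, rfl⟩
  have hconj : ∀ θ, Mem S U θ → ∀ θ', Mem S U θ' → I θ' = I θ →
      ∃ w : W₁, θ' = Clifford.conjFn (⟨(w : G), h.W₁_le w.2⟩ : S) θ := by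
    intro θ hθ θ' hθ' e
    have hne : Cfsg.classInner (I θ') (I θ) ≠ 0 := by
      rw [e]; intro h0
      have := congrFun (classInner_self_eq_zero h0) 1
      rw [hI, indFun_apply_one, hθ.deg, index_K hyp] at this
      refine mul_ne_zero natCard_ne_zero (Nat.cast_ne_zero.mpr ?_) this
      exact (zero_lt_one.trans h.one_lt_relIndex).ne'
    rw [hI, Clifford.classInner_indFun_indFun hθ'.irr hθ.irr] at hne
    obtain ⟨x, hx⟩ : Nonempty {x : S // Clifford.conjFn x θ = θ'} := by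
      by_contra hn
      rw [not_nonempty_iff] at hn
      simp at hne
    obtain ⟨d, hd, w, hw, he⟩ := h.data.W₁_compl.2.2.2 (x : G) x.2
    refine ⟨⟨w, hw⟩, ?_⟩
    rw [← hx, show x = ⟨d, h.derived_le hd⟩ * ⟨w, h.W₁_le hw⟩ from Subtype.ext he,
      ← Clifford.conjFn_conjFn, Clifford.mem_inertia_iff_conjFn.mp
        (Clifford.le_inertia (irr_isClassFunction hθ.irr) (Subgroup.mem_subgroupOf.mpr hd))]
  have hirr : (T.filter P).card ≤ q * ((T.filter P).image I).card := by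
    refine Finset.card_le_mul_card_image _ _ fun χ hχ => ?_
    obtain ⟨θ, hθ, rfl⟩ := Finset.mem_image.mp hχ
    refine le_trans (Finset.card_le_card fun θ' hθ' => ?_)
      ((Finset.card_image_le (s := Finset.univ)
        (f := fun w : W₁ => Clifford.conjFn (⟨(w : G), h.W₁_le w.2⟩ : S) θ)).trans_eq
        Fintype.card_eq_nat_card)
    obtain ⟨hθ'', e⟩ := Finset.mem_filter.mp hθ'
    obtain ⟨w, hw⟩ := hconj θ (hT θ (Finset.mem_filter.mp hθ).1) θ'
      (hT θ' (Finset.mem_filter.mp hθ'').1) e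
    exact Finset.mem_image.mpr ⟨w, Finset.mem_univ _, hw.symm⟩
  -- the lines
  have hrest : (T.filter fun θ => ¬ P θ).card + 1 ≤ p := by
    have hline : ∀ θ ∈ T.filter (fun θ => ¬ P θ), ∃ ψ, TrivOn W₁ ψ ∧ ψ ≠ 1 ∧ I θ = primeRed μ ψ ∧
        ∀ x : S, Clifford.conjFn x θ = θ := by
      intro θ hθ
      obtain ⟨hθT, hnP⟩ := Finset.mem_filter.mp hθ
      have hm := hT θ hθT
      obtain ⟨ω, hω⟩ := (induced_cases hyp h.q_prime hμ θ hm.irr).resolve_left hnP
      obtain ⟨φ, ψ, hφ, hψ, rfl⟩ := Bridge.exists_split hW ω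
      have hinv : ∀ x : S, Clifford.conjFn x θ = θ := by
        have e := Clifford.classInner_indFun_indFun hm.irr hm.irr
        rw [hω, primeRed_inner hyp hμ, if_pos (sameOn_refl _ _),
          eq_inv_mul_iff_mul_eq₀ natCard_ne_zero, ← index_K hyp, ← Nat.cast_mul,
          Subgroup.card_mul_index, Nat.cast_inj] at e
        intro x
        by_contra hx
        exact absurd e.symm (Finite.card_subtype_lt (x := x) hx).ne
      refine ⟨ψ, hψ, fun e => ?_, hω.trans (S13.primeRed_congr fun w hw => by simp [hφ w hw]), hinv⟩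
      have ht : TrivOn W₂ (φ * ψ) := fun w hw => by simp [hφ w hw, e]
      have e1 : primeRed μ (φ * ψ) 1 = (q : ℂ) * μ (φ * ψ) 1 := primeRed_apply_K hyp hμ _ (by simp)
      rw [← hω, indFun_apply_one, index_K hyp, hm.deg,
        hμ.eq_on_K hyp (ω' := 1) (fun w hw => (ht w hw).trans rfl) (one_mem _), hμ.map_one hyp] at e1
      exact h.one_lt_relIndex.ne' (Nat.cast_injective (R := ℂ) ((mul_left_cancel₀ natCard_ne_zero e1).trans Nat.cast_one.symm))
    choose ψ hψ hψ1 hIψ hinv using hline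
    have hle : (T.filter fun θ => ¬ P θ).card ≤ ((Ten.trivSet W₁ W₂ W₁).erase 1).card := by
      rw [← Finset.card_attach]
      refine Finset.card_le_card_of_injOn (fun θ => ψ θ.1 θ.2)
        (fun θ _ => Finset.mem_erase.mpr ⟨hψ1 _ θ.2, Ten.mem_trivSet.mpr (hψ _ θ.2)⟩) ?_
      rintro ⟨a, ha⟩ - ⟨b, hb⟩ - e
      simp only at e
      refine Subtype.ext ?_
      obtain ⟨w, hw⟩ := hconj b (hT b (Finset.mem_filter.mp hb).1) a (hT a (Finset.mem_filter.mp ha).1)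
        (by rw [hIψ a ha, hIψ b hb, e])
      exact hw.trans (hinv b hb _)
    rw [Finset.card_erase_of_mem (Ten.mem_trivSet.mpr (Bridge.trivOn_one W₁)),
      (Ten.card_trivSet hW).2] at hle
    have := h.p_prime.pos
    omega
  rw [← Finset.card_filter_add_card_filter_not (s := T) P]
  omega

/-- `U` is not reducible on `H / M₀`: the numbers are contradictory. -/
theorem line_case_false (hs : Ten.Sec S W₁ W₂) (hμ : IsPrimeTIFamily S W₁ W₂ μ δ)
    (hη : Cfsg.IsCyclicTIFamily W₁ W₂ η) (hpq : p < q) {ζ : S → ℂ} (hζ : Ten.IsBase W₁ ζ)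
    (hcol : ∀ ψ, TrivOn W₁ ψ → ψ ≠ 1 →
      ∃ k : ℤ, Cfsg.classInner (Ten.dade S W₁ W₂ (Ten.beta μ ζ)) (η ψ) = ((2 * k + 1 : ℤ) : ℂ))
    (hu : (C).relIndex U ≤ ((p - 1) / 2) ^ (q - 1))
    (hreg : ∃ s : Finset (↥(H) →* ℂˣ), (p - 1) ^ q ≤ s.card ∧
          ∀ l ∈ s, (∀ a : ↥(H), (a : G) ∈ M₀ → l a = 1) ∧
            ∀ v ∈ U, (∀ a b : ↥(H), (b : G) = v * a * v⁻¹ → l b = l a) → v ∈ C) : False := by
  obtain ⟨s, hs1, hs2⟩ := hreg
  obtain ⟨T, hT, hsT⟩ := h.card_regular_le s hs2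
  obtain ⟨F, hF, hTF⟩ := h.card_members_le hμ T hT
  have hFp := h.irr_bound hs hμ hη hpq hζ hcol F hF
  obtain ⟨j, hj⟩ := h.odd_card W₂
  have hp3 : 1 ≤ j := by have := h.p_prime.two_le; omega
  rw [hj, Nat.add_sub_cancel] at hs1 hu
  rw [Nat.mul_div_cancel_left _ two_pos] at hu
  rw [hj] at hTF hFp hpq
  obtain ⟨i, hi⟩ := h.odd_card W₁
  have hq5 : 5 ≤ q := by omega
  have hTlt : T.card < q * q := by
    have h1 : F.card + 2 * j ≤ q := by omega
    have h2 := Nat.mul_le_mul_left q h1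
    rw [Nat.mul_add] at h2
    have h3 : 2 * (2 * j) ≤ q * (2 * j) := Nat.mul_le_mul_right _ (by omega)
    omega
  have hpow : q * q ≤ 2 ^ q := by
    have : ∀ n, 5 ≤ n → n * n ≤ 2 ^ n := by
      intro n hn
      induction n, hn using Nat.le_induction with
      | base => norm_num
      | succ n hn ih => rw [pow_succ]; nlinarith
    exact this q hq5
  have hchain : (2 * j) ^ q ≤ j ^ (q - 1) * T.card :=
    hs1.trans (hsT.trans (Nat.mul_le_mul_right _ hu))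
  have e : j ^ (q - 1) * (2 ^ q * j) = (2 * j) ^ q := by
    rw [mul_pow, mul_left_comm, ← pow_succ, Nat.sub_add_cancel (by omega)]
  rw [← e] at hchain
  have h5 := Nat.le_of_mul_le_mul_left hchain (pow_pos (by omega) _)
  have h6 : 2 ^ q ≤ 2 ^ q * j := Nat.le_mul_of_pos_right _ hp3
  omega

end Pre

end CfsgLib.PF.Base
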