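import Cfsg.Agent.Lib.PF.Base.Quotient
import Cfsg.Agent.Lib.PF.Base.LinearInduce
import Cfsg.Agent.Lib.Amalgam.FStarCommutator
import Cfsg.Agent.Lib.Coprime.Generation

/-!
# Type III and IV: the derived factor of the derived subgroup

The index of `S''` in `S'` is at least `3u` unless `[H, U] = H`. When `[H, U] = H`, `M₀` is central in
`H`; when moreover `U` is irreducible on `H / M₀`, `H` is elementary abelian.
-/

set_option autoImplicit false
set_option linter.unusedSectionVars false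

namespace CfsgLib.PF.Base

open Subgroup
open scoped commutatorElement

universe u

/-- A subgroup containing the commutators of two normalising subgroups contains that of the join. -/
theorem commutator_sup_self_le {G : Type u} [Group G] [Finite G] {A B R : Subgroup G}
    (hA : A ≤ normalizer (R : Set G)) (hB : B ≤ normalizer (R : Set G)) (h1 : ⁅A, A⁆ ≤ R)
    (h2 : ⁅A, B⁆ ≤ R) (h3 : ⁅B, B⁆ ≤ R) : ⁅A ⊔ B, A ⊔ B⁆ ≤ R := by
  have key : ∀ Y : Subgroup G, ⁅A, Y⁆ ≤ R → ⁅B, Y⁆ ≤ R → ⁅A ⊔ B, Y⁆ ≤ R :=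
    fun Y => Amalgam.commutator_sup_left_le hA hB
  refine key _ ?_ ?_ <;> rw [commutator_comm]
  · exact key A h1 ((commutator_comm B A).trans_le h2)
  · exact key B h2 h3

namespace Pre

variable {G : Type u} [Group G] [Finite G] {S W₁ W₂ U : Subgroup G} (h : Pre S W₁ W₂ U)

include h

local notation "H" => Cfsg.fittingHallOf S
local notation "M₀" => Cfsg.fittingHallOf S ⊓ centralizer (U : Set G)
local notation "C" => U ⊓ centralizer (Cfsg.fittingHallOf S : Set G)
local notation "p" => Nat.card W₂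
local notation "q" => Nat.card W₁

theorem derived_eq_sup : ⁅S, S⁆ = H ⊔ U :=
  le_antisymm (fun x hx => by
    obtain ⟨a, ha, b, hb, rfl⟩ := h.data.U_compl.2.2.2 x hx
    exact mul_mem_sup ha hb) (sup_le h.H_le_derived h.U_le_derived)

theorem card_derived : Nat.card ↥⁅S, S⁆ = Nat.card H * Nat.card U :=
  OddLocal.card_eq_mul_of_isComplIn h.data.U_compl

theorem commutator_U_le_U : ⁅U, U⁆ ≤ U := h.commutator_U_le_C.trans inf_le_left

theorem U_normalizes_commutator : U ≤ normalizer ((⁅U, U⁆ : Subgroup G) : Set G) :=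
  le_normalizer_iff_commutator_le_left.mpr
    (commutator_mono h.commutator_U_le_U le_rfl)

theorem H_normalizes_commutator : H ≤ normalizer ((⁅U, U⁆ : Subgroup G) : Set G) :=
  fun a ha => centralizer_le_normalizer _ (mem_centralizer_iff.mpr fun _ hv =>
    (mem_centralizer_iff.mp (h.commutator_U_le hv) a ha).symm)

theorem u_dvd : (C).relIndex U ∣ (⁅U, U⁆ : Subgroup G).relIndex U :=
  relIndex_dvd_of_le_left U h.commutator_U_le_C

/-- The index of `S''` is large when `[H, U]` is proper. -/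
theorem three_mul_le (hne : ⁅H, U⁆ ≠ H) :
    3 * (C).relIndex U ≤ (⁅⁅S, S⁆, ⁅S, S⁆⁆ : Subgroup G).relIndex ⁅S, S⁆ := by
  set A : Subgroup G := ⁅H, U⁆ with hA
  have hAH : A ≤ H := le_normalizer_iff_commutator_le_left.mp h.U_normalizes
  have hAn : H ≤ normalizer (A : Set G) ∧ U ≤ normalizer (A : Set G) :=
    ⟨normalizer_commutator_ge_left _ _, normalizer_commutator_ge_right _ _⟩
  set X := A ⊔ ⁅H, H⁆ with hX
  have hXH : X ≤ H := sup_le hAH (commutator_le_self _)
  have hHX : H ≤ normalizer (X : Set G) := h.sup_normalizes hAn.1 (h.commutator_normalizes le_normalizer)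
  have hUX : U ≤ normalizer (X : Set G) := h.sup_normalizes hAn.2 (h.commutator_normalizes h.U_normalizes)
  have hXne : X ≠ H := by
    intro e
    refine hne (le_antisymm hAH ?_)
    have htop : A.subgroupOf H ⊔ commutator H = ⊤ := by
      refine map_injective (Cfsg.fittingHallOf S).subtype_injective ?_
      rw [Subgroup.map_sup, _root_.commutator_def, map_commutator, ← MonoidHom.range_eq_map, range_subtype,
        subgroupOf_map_subtype, inf_eq_left.mpr hAH]
      exact e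
    exact subgroupOf_eq_top.mp (OddLocal.eq_top_of_sup_commutator_eq_top h.H_isNilpotent htop)
  set R := X ⊔ ⁅U, U⁆ with hR
  have hUU : U ≤ normalizer ((⁅U, U⁆ : Subgroup G) : Set G) := h.U_normalizes_commutator
  have hle : ⁅⁅S, S⁆, ⁅S, S⁆⁆ ≤ R := by
    rw [h.derived_eq_sup]
    exact commutator_sup_self_le (h.sup_normalizes hHX h.H_normalizes_commutator)
      (h.sup_normalizes hUX hUU) (le_sup_right.trans le_sup_left) (le_sup_left.trans le_sup_left)
      le_sup_right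
  have hRcard : Nat.card R ∣ Nat.card X * Nat.card ↥(⁅U, U⁆ : Subgroup G) := by
    rw [hR]
    exact Comp.card_sup_dvd_mul (h.commutator_U_le_U.trans hUX)
  have h3 : 3 * Nat.card X ≤ Nat.card H := by
    have e := Coprime.card_mul_relIndex hXH
    have hodd : Odd (X.relIndex H) := (h.odd_card H).of_dvd_nat (Dvd.intro_left _ e)
    have h1 : X.relIndex H ≠ 1 := fun e1 => hXne (le_antisymm hXH (relIndex_eq_one.mp e1))
    obtain ⟨k, hk⟩ := hodd
    have : 3 ≤ X.relIndex H := by omega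
    rw [← e, mul_comm]
    exact Nat.mul_le_mul_left _ this
  set N := (⁅⁅S, S⁆, ⁅S, S⁆⁆ : Subgroup G).relIndex ⁅S, S⁆ with hN
  have eN := Coprime.card_mul_relIndex (commutator_le_self ⁅S, S⁆)
  rw [h.card_derived, ← hN] at eN
  have eC := Coprime.card_mul_relIndex h.commutator_U_le_U
  have hu : (C).relIndex U ≤ (⁅U, U⁆ : Subgroup G).relIndex U :=
    Nat.le_of_dvd (Nat.pos_of_ne_zero index_ne_zero_of_finite) h.u_dvd
  have hb : Nat.card ↥(⁅⁅S, S⁆, ⁅S, S⁆⁆ : Subgroup G) ≤ Nat.card X * Nat.card ↥(⁅U, U⁆ : Subgroup G) :=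
    (card_le_of_le hle).trans (Nat.le_of_dvd (Nat.mul_pos Nat.card_pos Nat.card_pos) hRcard)
  refine Nat.le_of_mul_le_mul_left ?_
    (Nat.mul_pos (Nat.card_pos (α := X)) (Nat.card_pos (α := ↥(⁅U, U⁆ : Subgroup G))))
  calc Nat.card X * Nat.card ↥(⁅U, U⁆ : Subgroup G) * (3 * (C).relIndex U)
      ≤ Nat.card X * Nat.card ↥(⁅U, U⁆ : Subgroup G) * (3 * (⁅U, U⁆ : Subgroup G).relIndex U) :=
        Nat.mul_le_mul_left _ (Nat.mul_le_mul_left _ hu)
    _ = 3 * Nat.card X * (Nat.card ↥(⁅U, U⁆ : Subgroup G) * (⁅U, U⁆ : Subgroup G).relIndex U) := by ring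
    _ = 3 * Nat.card X * Nat.card U := by rw [eC]
    _ ≤ Nat.card H * Nat.card U := Nat.mul_le_mul_right _ h3
    _ = Nat.card ↥(⁅⁅S, S⁆, ⁅S, S⁆⁆ : Subgroup G) * N := eN.symm
    _ ≤ Nat.card X * Nat.card ↥(⁅U, U⁆ : Subgroup G) * N := Nat.mul_le_mul_right _ hb

/-- `S''` when `[H, U] = H`. -/
theorem derived_two_eq (hHU : ⁅H, U⁆ = H) : ⁅⁅S, S⁆, ⁅S, S⁆⁆ = H ⊔ ⁅U, U⁆ := by
  refine le_antisymm ?_ ?_
  · rw [h.derived_eq_sup]
    refine commutator_sup_self_le (h.sup_normalizes le_normalizer h.H_normalizes_commutator)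
      (h.sup_normalizes h.U_normalizes h.U_normalizes_commutator)
      ((commutator_le_self _).trans le_sup_left) (hHU.le.trans le_sup_left) le_sup_right
  · refine sup_le (hHU.symm.le.trans (commutator_mono h.H_le_derived h.U_le_derived))
      (commutator_mono h.U_le_derived h.U_le_derived)

theorem relIndex_derived_two (hHU : ⁅H, U⁆ = H) :
    (⁅⁅S, S⁆, ⁅S, S⁆⁆ : Subgroup G).relIndex ⁅S, S⁆ = (⁅U, U⁆ : Subgroup G).relIndex U := by
  have eN := Coprime.card_mul_relIndex (commutator_le_self ⁅S, S⁆)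
  rw [h.card_derived] at eN
  rw [h.derived_two_eq hHU] at eN ⊢
  have hc : Nat.card ↥(H ⊔ ⁅U, U⁆ : Subgroup G) = Nat.card H * Nat.card ↥(⁅U, U⁆ : Subgroup G) :=
    OddLocal.card_eq_mul_of_isComplIn ⟨le_sup_left, le_sup_right,
      le_bot_iff.mp ((inf_le_inf_left _ h.commutator_U_le_U).trans h.data.U_compl.2.2.1.le),
      fun x hx => by
        have hn : (⁅U, U⁆ : Subgroup G) ≤ normalizer (H : Set G) :=
          h.commutator_U_le_U.trans h.U_normalizes
        have hx' : x ∈ ((H ⊔ ⁅U, U⁆ : Subgroup G) : Set G) := hx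
        rw [coe_mul_of_right_le_normalizer_left _ _ hn] at hx'
        obtain ⟨a, ha, b, hb, rfl⟩ := hx'
        exact ⟨a, ha, b, hb, rfl⟩⟩
  rw [hc, ← Coprime.card_mul_relIndex h.commutator_U_le_U, mul_assoc] at eN
  exact Nat.eq_of_mul_eq_mul_left Nat.card_pos (Nat.eq_of_mul_eq_mul_left Nat.card_pos eN)

/-- The consequences of `N ≤ 2u - 1`. -/
theorem derived_quotient
    (hN : (⁅⁅S, S⁆, ⁅S, S⁆⁆ : Subgroup G).relIndex ⁅S, S⁆ + 1 ≤ 2 * (C).relIndex U) :
    ⁅H, U⁆ = H ∧ ⁅U, U⁆ = C ∧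
      (⁅⁅S, S⁆, ⁅S, S⁆⁆ : Subgroup G).relIndex ⁅S, S⁆ = (C).relIndex U := by
  have hHU : ⁅H, U⁆ = H := by
    by_contra hne
    have := h.three_mul_le hne
    omega
  rw [h.relIndex_derived_two hHU] at hN ⊢
  have e : (⁅U, U⁆ : Subgroup G).relIndex C * (C).relIndex U = (⁅U, U⁆ : Subgroup G).relIndex U :=
    relIndex_mul_relIndex _ _ _ h.commutator_U_le_C inf_le_left
  have hodd : Odd ((⁅U, U⁆ : Subgroup G).relIndex C) :=
    (h.odd_card C).of_dvd_nat (Dvd.intro_left _ (Coprime.card_mul_relIndex h.commutator_U_le_C))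
  obtain ⟨k, hk⟩ := hodd
  have hk1 : (⁅U, U⁆ : Subgroup G).relIndex C = 1 := by
    by_contra hne
    have : 3 ≤ (⁅U, U⁆ : Subgroup G).relIndex C := by omega
    have := Nat.mul_le_mul_right ((C).relIndex U) this
    omega
  refine ⟨hHU, le_antisymm h.commutator_U_le_C (relIndex_eq_one.mp hk1), ?_⟩
  rw [← e, hk1, one_mul]

/-- `M₀` is central in `H` when `[H, U] = H`. -/
theorem M₀_central (hHU : ⁅H, U⁆ = H) {m : G} (hm : m ∈ M₀) {x : G} (hx : x ∈ H) :
    m * x = x * m := by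
  have e1 : ⁅⁅U, M₀⁆, H⁆ = (⊥ : Subgroup G) := by
    rw [show ⁅U, M₀⁆ = (⊥ : Subgroup G) from commutator_eq_bot_iff_le_centralizer.mpr
      (le_centralizer_iff.mp inf_le_right), commutator_bot_left]
  have e2 : ⁅⁅M₀, H⁆, U⁆ = (⊥ : Subgroup G) :=
    commutator_eq_bot_iff_le_centralizer.mpr
      ((le_normalizer_iff_commutator_le_left.mp h.H_normalizes_M₀).trans inf_le_right)
  have e3 := commutator_commutator_eq_bot_of_rotate e1 e2
  rw [hHU] at e3
  exact ((mem_centralizer_iff.mp ((commutator_eq_bot_iff_le_centralizer.mp e3) hx)) m hm)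

/-- `U` is abelian when its derived group is `C` and it is cyclic modulo `C`. -/
theorem U_comm (hC : ⁅U, U⁆ = C) (hg : ∃ g ∈ U, ∀ v ∈ U, ∃ i : ℤ, (g ^ i)⁻¹ * v ∈ C) :
    IsMulCommutative U := by
  obtain ⟨g, hgU, hgen⟩ := hg
  have htop : zpowers (⟨g, hgU⟩ : U) ⊔ commutator U = ⊤ := by
    refine eq_top_iff.mpr fun v _ => ?_
    obtain ⟨i, hi⟩ := hgen v v.2
    rw [← hC] at hi
    have hi' : (g ^ i)⁻¹ * (v : G) ∈ (commutator U).map U.subtype := by
      rwa [_root_.commutator_def, map_commutator, ← MonoidHom.range_eq_map, range_subtype]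
    obtain ⟨c, hc, hce⟩ := hi'
    have : v = (⟨g, hgU⟩ : U) ^ i * c := Subtype.ext (by
      rw [coe_mul, coe_zpow, show (c : G) = (g ^ i)⁻¹ * v from hce, mul_inv_cancel_left])
    rw [this]
    exact mul_mem_sup (zpow_mem (mem_zpowers _) i) hc
  have e := OddLocal.eq_top_of_sup_commutator_eq_top h.data.U_nilpotent htop
  have hcyc : IsCyclic U := ⟨⟨⟨g, hgU⟩, fun v => by rw [← mem_zpowers_iff, e]; exact mem_top v⟩⟩
  exact IsCyclic.isMulCommutative

/-- `H` is elementary abelian of order `p ^ q` when `[H, U] = H` and `U` is irreducible on `H / M₀`. -/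
theorem M₀_eq_bot (hHU : ⁅H, U⁆ = H)
    (hirr : ∀ Y : Subgroup G, M₀ ≤ Y → Y ≤ H → U ≤ normalizer (Y : Set G) → Y = M₀ ∨ Y = H) :
    M₀ = (⊥ : Subgroup G) := by
  classical
  have hab : IsMulCommutative H := by
    refine ⟨⟨fun a b => ?_⟩⟩
    by_contra hne
    have : Fintype ↥(Cfsg.fittingHallOf S) := Fintype.ofFinite _
    set Z : Subgroup H := (M₀ : Subgroup G).subgroupOf H with hZ
    have hZc : Z ≤ center H := fun z hz =>
      mem_center_iff.mpr fun x => Subtype.ext (h.M₀_central hHU (mem_subgroupOf.mp hz) x.2).symm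
    have hcm : ∀ {x y : H}, ⁅x, y⁆ ∈ Z := fun {x y} =>
      mem_subgroupOf.mpr (h.commutator_le_M₀ (commutator_mem_commutator x.2 y.2))
    have hZcomm : ∀ x y : Z, x * y = y * x := fun x y =>
      Subtype.ext ((mem_center_iff.mp (hZc y.2)) x)
    obtain ⟨lam, hlam⟩ := Char.exists_linear_ne_one hZcomm
      (g := (⟨⁅a, b⁆, hcm⟩ : Z)) (fun e => hne (commutatorElement_eq_one_iff_mul_comm.mp
        (congrArg Subtype.val e)))
    set c : H → H → ℂˣ := fun x y => lam ⟨⁅x, y⁆, hcm⟩ with hc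
    have hcmul : ∀ x x' y : H, c (x * x') y = c x y * c x' y := by
      intro x x' y
      simp only [hc]
      rw [← map_mul]
      congr 1
      refine Subtype.ext ?_
      show ⁅x * x', y⁆ = ⁅x, y⁆ * ⁅x', y⁆
      have e := mem_center_iff.mp (hZc (hcm (x := x') (y := y))) x
      calc ⁅x * x', y⁆ = x * ⁅x', y⁆ * x⁻¹ * ⁅x, y⁆ := by simp only [commutatorElement_def]; group
        _ = ⁅x', y⁆ * ⁅x, y⁆ := by rw [e, mul_inv_cancel_right]
        _ = ⁅x, y⁆ * ⁅x', y⁆ := ((mem_center_iff.mp (hZc (hcm (x := x') (y := y)))) _).symm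
    set Y : Subgroup G :=
      ({ carrier := {x : H | ∀ y, c x y = 1}
         one_mem' := fun y => by
           have := hcmul 1 1 y; rw [one_mul] at this; exact left_eq_mul.mp this
         mul_mem' := fun {x x'} hx hx' y => by rw [hcmul, hx y, hx' y, one_mul]
         inv_mem' := fun {x} hx y => by
           have := hcmul x⁻¹ x y
           rw [inv_mul_cancel, hx y, mul_one] at this
           have h1 := hcmul 1 1 y; rw [one_mul] at h1
           rw [← this]; exact left_eq_mul.mp h1 } : Subgroup H).map (Cfsg.fittingHallOf S).subtype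
      with hY
    have hYm : ∀ {x : H}, (x : G) ∈ Y ↔ ∀ y, c x y = 1 := fun {x} => by
      rw [hY, mem_map]
      exact ⟨fun ⟨z, hz, e⟩ => Subtype.ext e ▸ hz, fun hx => ⟨x, hx, rfl⟩⟩
    have hMY : M₀ ≤ Y := fun m hm => hYm (x := ⟨m, hm.1⟩) |>.mpr fun y => by
      have e : ⁅(⟨m, hm.1⟩ : H), y⁆ = 1 := commutatorElement_eq_one_iff_mul_comm.mpr
        (Subtype.ext (h.M₀_central hHU hm y.2))
      simp only [hc]
      rw [show (⟨_, hcm⟩ : Z) = 1 from Subtype.ext e, map_one]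
    have hYH : Y ≤ H := map_subtype_le _
    have hUY : U ≤ normalizer (Y : Set G) := by
      refine ElemAction.le_normalizer_of fun v hv x hx => ?_
      have hxH := hYH hx
      have hS := h.U_le hv
      refine hYm (x := ⟨v * x * v⁻¹, h.conj_H hS hxH⟩) |>.mpr fun y => ?_
      have e : c ⟨x, hxH⟩ ⟨v⁻¹ * y * v⁻¹⁻¹, h.conj_H (S.inv_mem hS) y.2⟩ = 1 := hYm.mp hx _
      rw [← e]
      simp only [hc]
      congr 1
      refine Subtype.ext (Subtype.ext ?_)
      have hM : ⁅x, v⁻¹ * y * v⁻¹⁻¹⁆ ∈ M₀ := h.commutator_le_M₀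
        (commutator_mem_commutator hxH (h.conj_H (S.inv_mem hS) y.2))
      show ⁅v * x * v⁻¹, (y : G)⁆ = ⁅x, v⁻¹ * y * v⁻¹⁻¹⁆
      calc ⁅v * x * v⁻¹, (y : G)⁆ = v * ⁅x, v⁻¹ * y * v⁻¹⁻¹⁆ * v⁻¹ := by
            simp only [commutatorElement_def]; group
        _ = _ := by rw [mem_centralizer_iff.mp hM.2 v hv, mul_inv_cancel_right]
    rcases hirr Y hMY hYH hUY with e | e
    · have hnd : ∀ x ∉ Z, ∃ (y : H) (z : Z), (z : H) = x⁻¹ * y * x * y⁻¹ ∧ lam z ≠ 1 := by
        intro x hx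
        have hx' : (x : G)⁻¹ ∉ Y := fun hm => by
          rw [e] at hm
          exact hx (mem_subgroupOf.mpr (by simpa using inv_mem hm))
        obtain ⟨y, hy⟩ := not_forall.mp (mt (hYm (x := x⁻¹)).mpr hx')
        exact ⟨y, ⟨⁅x⁻¹, y⁆, hcm⟩, by simp [commutatorElement_def], hy⟩
      obtain ⟨d, hd⟩ := exists_sq_eq_index Z hZc lam hnd
      have e2 := h.card_H
      rw [← Coprime.card_mul_relIndex (inf_le_left : M₀ ≤ H), mul_comm (p ^ q)] at e2
      have e3 : d ^ 2 = p ^ q := hd.trans (Nat.eq_of_mul_eq_mul_left Nat.card_pos e2)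
      obtain ⟨i, -, rfl⟩ := (Nat.dvd_prime_pow h.p_prime).mp (e3 ▸ Dvd.intro _ (sq d).symm)
      rw [← pow_mul] at e3
      have := Nat.pow_right_injective h.p_prime.two_le e3
      obtain ⟨k, hk⟩ := h.odd_card W₁
      omega
    · exact hlam (hYm.mp (by rw [e]; exact a.2) b)
  have hb := Coprime.commutator_inf_centralizer_eq_bot hab h.U_normalizes h.coprime_H_U.symm
  rwa [hHU] at hb

end Pre

end CfsgLib.PF.Base
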