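import Cfsg.Agent.Lib.PF.Base.ThreeFourGroup
import Cfsg.Agent.Lib.PF.Base.PrimeCases
import Cfsg.Agent.Lib.PF.TypePDade

/-!
# Characters of degree `u` of `S'` over regular linear characters of `H / M₀`

A linear character of `H / M₀` with stabiliser `C` in `U` gives an irreducible character of `S'` of
degree `u` trivial on `M₀ C`. One invariant under `W₁` gives an exceptional degree `u` with sign `1`.
-/

set_option autoImplicit false
set_option maxHeartbeats 1000000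
set_option linter.unusedSectionVars false

namespace CfsgLib.PF.Base

open Subgroup
open scoped commutatorElement Classical

universe u

variable {G : Type u} [Group G]

/-- An irreducible character of `S'` of degree `u`, trivial on `M₀ C` and not trivial on `S_F`. -/
structure Mem (S U : Subgroup G) [Fintype S] (θ : (⁅S, S⁆.subgroupOf S) → ℂ) : Prop where
  irr : Cfsg.IsIrrCharacter (⁅S, S⁆.subgroupOf S) θ
  deg : θ 1 = ((U ⊓ centralizer (Cfsg.fittingHallOf S : Set G)).relIndex U : ℂ)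
  ker : ∀ x : ⁅S, S⁆.subgroupOf S, ((x : S) : G) ∈ Cfsg.fittingHallOf S ⊓ centralizer (U : Set G) ⊔
    U ⊓ centralizer (Cfsg.fittingHallOf S : Set G) → θ x = θ 1
  ntriv : ∃ x : ⁅S, S⁆.subgroupOf S, ((x : S) : G) ∈ Cfsg.fittingHallOf S ∧ θ x ≠ θ 1

namespace Pre

variable [Fintype G] {S W₁ W₂ U : Subgroup G} [Fintype S] (h : Pre S W₁ W₂ U)

include h

local notation "H" => Cfsg.fittingHallOf S
local notation "M₀" => Cfsg.fittingHallOf S ⊓ centralizer (U : Set G)
local notation "C" => U ⊓ centralizer (Cfsg.fittingHallOf S : Set G)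
local notation "p" => Nat.card W₂
local notation "q" => Nat.card W₁

/-- Conjugation by an element of `S` on `S_F`. -/
noncomputable def cj (x : S) : ↥(H) →* ↥(H) where
  toFun a := ⟨(x : G) * a * (x : G)⁻¹, h.conj_H x.2 a.2⟩
  map_one' := Subtype.ext (by simp)
  map_mul' a b := Subtype.ext (by simp [mul_assoc])

theorem cj_apply (x : S) (a : ↥(H)) : ((h.cj x a : ↥(H)) : G) = x * a * (x : G)⁻¹ := rfl

theorem derived_normal : (⁅S, S⁆.subgroupOf S).Normal :=
  (primeDadeHyp_of_typeP h.minSimple h.maxS h.data).normal_subgroupOf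

theorem C_sup_index : (H ⊔ C).relIndex ⁅S, S⁆ = (C).relIndex U := by
  have hle : H ⊔ C ≤ ⁅S, S⁆ := sup_le h.H_le_derived (inf_le_left.trans h.U_le_derived)
  have e := Coprime.card_mul_relIndex hle
  have hc : Nat.card ↥(H ⊔ C : Subgroup G) = Nat.card H * Nat.card ↥(C : Subgroup G) :=
    OddLocal.card_eq_mul_of_isComplIn ⟨le_sup_left, le_sup_right,
      le_bot_iff.mp ((inf_le_inf_left _ inf_le_left).trans h.data.U_compl.2.2.1.le), fun x hx => by
        have hn : (C : Subgroup G) ≤ normalizer (H : Set G) := inf_le_left.trans h.U_normalizes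
        have hx' : x ∈ ((H ⊔ C : Subgroup G) : Set G) := hx
        rw [coe_mul_of_right_le_normalizer_left _ _ hn] at hx'
        obtain ⟨a, ha, b, hb, rfl⟩ := hx'
        exact ⟨a, ha, b, hb, rfl⟩⟩
  rw [hc, h.card_derived, ← Coprime.card_mul_relIndex (inf_le_left : C ≤ U), mul_assoc] at e
  exact Nat.eq_of_mul_eq_mul_left Nat.card_pos (Nat.eq_of_mul_eq_mul_left Nat.card_pos e)

/-- The character over a linear character with stabiliser `C`. -/
theorem exists_mem (l : ↥(H) →* ℂˣ) (hM : ∀ a : ↥(H), (a : G) ∈ M₀ → l a = 1) (hl1 : l ≠ 1)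
    (hstab : ∀ v ∈ U, (∀ a b : ↥(H), (b : G) = v * a * v⁻¹ → l b = l a) → v ∈ C) :
    ∃ θ, Mem S U θ ∧
      (∀ (x : ⁅S, S⁆.subgroupOf S) (hx : ((x : S) : G) ∈ H), θ x =
        (Nat.card ↥(H ⊔ C : Subgroup G) : ℂ)⁻¹ *
          ∑ z : ⁅S, S⁆.subgroupOf S, (l (h.cj (z : S)⁻¹ ⟨_, hx⟩) : ℂ)) ∧
      (∀ w : S, (w : G) ∈ W₁ → (∀ a, l (h.cj w a) = l a) →
        ∀ n n' : ⁅S, S⁆.subgroupOf S, (n' : S) = w * n * w⁻¹ → θ n' = θ n) := by
  have := h.derived_normal
  set K' := ⁅S, S⁆.subgroupOf S with hK'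
  let f : K' →* G := S.subtype.comp K'.subtype
  have hf : Function.Injective f := fun a b e => Subtype.ext (Subtype.ext e)
  have hrange : f.range = ⁅S, S⁆ := by
    rw [MonoidHom.range_comp, range_subtype, hK', subgroupOf_map_subtype, inf_eq_left.mpr h.derived_le]
  have hnorm : ∀ {Y : Subgroup G}, S ≤ normalizer (Y : Set G) → (Y.comap f).Normal := fun {Y} hY =>
    ⟨fun a ha x => by
      show f (x * a * x⁻¹) ∈ Y
      rw [map_mul, map_mul, map_inv]
      exact (mem_normalizer_iff.mp (hY (x : S).2) (f a)).mp ha⟩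
  have := hnorm h.S_normalizes
  have := hnorm (Y := C) (ElemAction.le_normalizer_of fun x hx c hc => h.conj_C hx hc)
  let i : ↥((H).comap f) →* ↥(H) := (f.comp ((H).comap f).subtype).codRestrict H fun a => a.2
  have hi : Function.Surjective i := fun a => by
    have ha : (a : G) ∈ f.range := by rw [hrange]; exact h.H_le_derived a.2
    obtain ⟨z, hz⟩ := ha
    exact ⟨⟨z, show f z ∈ H by rw [hz]; exact a.2⟩, Subtype.ext hz⟩
  set L := l.comp i with hL
  have hdis : (H).comap f ⊓ (C).comap f = ⊥ := by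
    rw [← comap_inf, le_bot_iff.mp ((inf_le_inf_left _ inf_le_left).trans h.data.U_compl.2.2.1.le),
      MonoidHom.comap_bot, (MonoidHom.ker_eq_bot_iff f).mpr hf]
  have hsupc : (H).comap f ⊔ (C).comap f = (H ⊔ C : Subgroup G).comap f :=
    comap_sup_eq_of_le_range f (hrange ▸ h.H_le_derived) (hrange ▸ inf_le_left.trans h.U_le_derived)
  have hic : ∀ (z : K') (a : ↥((H).comap f)),
      i (MulAut.conjNormal z a) = h.cj (z : S) (i a) := fun z a => Subtype.ext rfl
  have hLl : ∀ (z : K') (a : ↥((H).comap f)), L (MulAut.conjNormal z a) = l (h.cj (z : S) (i a)) :=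
    fun z a => by rw [hL, MonoidHom.comp_apply, hic]
  obtain ⟨θ, hθ, hdeg, hker, hval, hinv⟩ := induced_irr hdis L (fun z hz => by
    rw [hsupc]
    show f z ∈ (H ⊔ C : Subgroup G)
    obtain ⟨a₀, ha₀, v, hv, he⟩ := h.data.U_compl.2.2.2 (f z) (hrange ▸ ⟨z, rfl⟩)
    rw [he]
    refine mul_mem_sup ha₀ (hstab v hv fun a b hb => ?_)
    obtain ⟨a', rfl⟩ := hi a
    have e1 : l (h.cj (z : S) (i a')) = l (i a') := (hLl z a').symm.trans (hz a')
    have e2 : h.cj (z : S) (i a') = ⟨a₀, ha₀⟩ * b * ⟨a₀, ha₀⟩⁻¹ := Subtype.ext (by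
      rw [cj_apply, show ((z : S) : G) = a₀ * v from he, Subgroup.coe_mul, Subgroup.coe_mul, hb,
        InvMemClass.coe_inv]
      group)
    rw [e2, map_mul, map_mul, map_inv, mul_comm (l _) (l b), mul_inv_cancel_right] at e1
    exact e1) ((M₀).comap f) (comap_mono inf_le_left) (hnorm h.S_normalizes_M₀)
      (fun a ha => hM _ ha)
  have hMC : (M₀).comap f ⊔ (C).comap f = (M₀ ⊔ C : Subgroup G).comap f :=
    comap_sup_eq_of_le_range f (hrange ▸ inf_le_left.trans h.H_le_derived)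
      (hrange ▸ inf_le_left.trans h.U_le_derived)
  have hcard : Nat.card ↥((H).comap f ⊔ (C).comap f) = Nat.card ↥(H ⊔ C : Subgroup G) := by
    rw [hsupc, ← card_map_of_injective hf, map_comap_eq, inf_eq_right.mpr
      (hrange ▸ sup_le h.H_le_derived (inf_le_left.trans h.U_le_derived))]
  have hform : ∀ (x : K') (hx : ((x : S) : G) ∈ H), θ x = (Nat.card ↥(H ⊔ C : Subgroup G) : ℂ)⁻¹ *
      ∑ z : K', (l (h.cj (z : S)⁻¹ ⟨_, hx⟩) : ℂ) := fun x hx => by
    rw [hval ⟨x, hx⟩, hcard]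
    congr 1
  refine ⟨θ, ⟨hθ, ?_, fun x hx => hker x (by rw [hMC]; exact hx), ?_⟩, hform, ?_⟩
  · rw [hdeg, hsupc, index_comap, hrange, h.C_sup_index]
  · by_contra hn
    push Not at hn
    obtain ⟨z, hz⟩ := exists_conj_of_sum_eq L 1 fun a => by
      have e := (hn a a.2).trans (hker 1 (one_mem _)).symm
      have e1 := hval a
      have e2 := hval 1
      rw [OneMemClass.coe_one] at e2
      rw [e1, hn 1 (one_mem _) |>.symm.trans (hn 1 (one_mem _)), e2] at e
      simpa using mul_left_cancel₀ (inv_ne_zero Char.natCard_ne_zero) e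
    refine hl1 (MonoidHom.ext fun a => ?_)
    obtain ⟨a', rfl⟩ := hi a
    have e := hz (MulAut.conjNormal z a')
    rw [show MulAut.conjNormal z⁻¹ (MulAut.conjNormal z a') = a' from
      Subtype.ext (by simp [mul_assoc])] at e
    simpa [hL] using e
  · intro w hw hlw n n' hn'
    let e : K' ≃* K' := MulAut.conjNormal w
    have hee : ∀ y : K', f (e y) = w * f y * (w : G)⁻¹ := fun y => rfl
    have hiff : ∀ {Y : Subgroup G}, S ≤ normalizer (Y : Set G) →
        ∀ a, e a ∈ Y.comap f ↔ a ∈ Y.comap f := fun {Y} hY a => by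
      show f (e a) ∈ Y ↔ f a ∈ Y
      rw [hee]
      exact (mem_normalizer_iff.mp (hY w.2) (f a)).symm
    have := hinv e (hiff h.S_normalizes)
      (hiff (ElemAction.le_normalizer_of fun x hx c hc => h.conj_C hx hc)) (fun a b hb => by
        rw [hL, MonoidHom.comp_apply, MonoidHom.comp_apply, ← hlw (i a)]
        congr 1
        exact Subtype.ext ((congrArg f hb).trans (hee a))) n
    rwa [show e n = n' from Subtype.ext hn'.symm] at this

/-- Counting the members by the regular linear characters. -/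
theorem card_regular_le (s : Finset (↥(H) →* ℂˣ))
    (hs : ∀ l ∈ s, (∀ a : ↥(H), (a : G) ∈ M₀ → l a = 1) ∧
      ∀ v ∈ U, (∀ a b : ↥(H), (b : G) = v * a * v⁻¹ → l b = l a) → v ∈ C) :
    ∃ T : Finset ((⁅S, S⁆.subgroupOf S) → ℂ), (∀ θ ∈ T, Mem S U θ) ∧
      s.card ≤ (C).relIndex U * T.card := by
  have hne : ∀ l ∈ s, l ≠ 1 := fun l hl e => h.U_ne_C (le_antisymm inf_le_left fun v hv =>
    (hs l hl).2 v hv fun a b _ => by rw [e]; rfl)
  have hex : ∀ l : {l // l ∈ s}, ∃ θ, Mem S U θ ∧ ∀ (x : ⁅S, S⁆.subgroupOf S)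
      (hx : ((x : S) : G) ∈ H), θ x = (Nat.card ↥(H ⊔ C : Subgroup G) : ℂ)⁻¹ *
          ∑ z : ⁅S, S⁆.subgroupOf S, (l.1 (h.cj (z : S)⁻¹ ⟨_, hx⟩) : ℂ) := fun l => by
    obtain ⟨θ, h1, h2, -⟩ := h.exists_mem l.1 (hs _ l.2).1 (hne _ l.2) (hs _ l.2).2
    exact ⟨θ, h1, h2⟩
  choose θ hθ hval using hex
  refine ⟨s.attach.image θ, fun t ht => by
    obtain ⟨l, -, rfl⟩ := Finset.mem_image.mp ht
    exact hθ l, ?_⟩
  rw [← Finset.card_attach (s := s)]
  refine Finset.card_le_mul_card_image _ _ fun t ht => ?_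
  obtain ⟨l, -, rfl⟩ := Finset.mem_image.mp ht
  -- the orbit under `U`
  let ι := ↥U ⧸ (C : Subgroup G).subgroupOf U
  have : Fintype ι := Fintype.ofFinite _
  let orb : ι → (↥(H) →* ℂˣ) := fun g => l.1.comp (h.cj ⟨(g.out : G), h.U_le g.out.2⟩)
  refine le_trans ?_ ((Finset.card_image_le (s := Finset.univ) (f := orb)).trans_eq
    ((Fintype.card_eq_nat_card).trans rfl))
  rw [← Finset.card_image_of_injective _ Subtype.val_injective]
  refine Finset.card_le_card fun m hm => ?_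
  obtain ⟨m, hm', rfl⟩ := Finset.mem_image.mp hm
  have hme := (Finset.mem_filter.mp hm').2
  have := h.derived_normal
  set K' := ⁅S, S⁆.subgroupOf S
  let f : K' →* G := S.subtype.comp K'.subtype
  let i : ↥((H).comap f) →* ↥(H) := (f.comp ((H).comap f).subtype).codRestrict H fun a => a.2
  have hn : ((H).comap f).Normal := ⟨fun a ha x => by
    show f (x * a * x⁻¹) ∈ H
    rw [map_mul, map_mul, map_inv]
    exact h.conj_H (x : S).2 ha⟩
  obtain ⟨z, hz⟩ := exists_conj_of_sum_eq (l.1.comp i) (m.1.comp i) fun a => by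
    have e := congrFun hme (a : K')
    rw [hval m _ a.2, hval l _ a.2] at e
    exact (mul_left_cancel₀ (inv_ne_zero Char.natCard_ne_zero) e).symm
  -- the element reduces to a coset of `C` in `U`
  obtain ⟨a₀, ha₀, v, hv, he⟩ := h.data.U_compl.2.2.2 (f z⁻¹) (mem_subgroupOf.mp (z⁻¹).2)
  set g : ι := QuotientGroup.mk (⟨v, hv⟩ : U) with hg
  obtain ⟨c, hc⟩ := QuotientGroup.mk_out_eq_mul ((C : Subgroup G).subgroupOf U) (⟨v, hv⟩ : U)
  refine Finset.mem_image.mpr ⟨g, Finset.mem_univ _, MonoidHom.ext fun a => ?_⟩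
  have hout : (g.out : G) = v * ((c : U) : G) := congrArg Subtype.val hc
  have hcc := mem_subgroupOf.mp c.2
  obtain ⟨a', rfl⟩ : ∃ a' : ↥((H).comap f), i a' = a := by
    obtain ⟨x, hx⟩ : ∃ x : K', f x = a := ⟨⟨⟨a, h.H_le a.2⟩, mem_subgroupOf.mpr (h.H_le_derived a.2)⟩, rfl⟩
    exact ⟨⟨x, show f x ∈ H by rw [hx]; exact a.2⟩, Subtype.ext hx⟩
  have e1 : l.1 (i (MulAut.conjNormal z⁻¹ a')) = m.1 (i a') := hz a'
  have e2 : i (MulAut.conjNormal z⁻¹ a') = ⟨a₀, ha₀⟩ *
      h.cj ⟨(g.out : G), h.U_le g.out.2⟩ (i a') * ⟨a₀, ha₀⟩⁻¹ := by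
    refine Subtype.ext ?_
    show f z⁻¹ * f a' * (f z⁻¹)⁻¹ = a₀ * ((g.out : G) * f a' * (g.out : G)⁻¹) * a₀⁻¹
    have hcx : ((c : U) : G) * f a' * ((c : U) : G)⁻¹ = f a' := by
      rw [← mem_centralizer_iff.mp hcc.2 (f a') a'.2, mul_inv_cancel_right]
    rw [he, hout, show v * ((c : U) : G) * f a' * (v * ((c : U) : G))⁻¹ =
      v * (((c : U) : G) * f a' * ((c : U) : G)⁻¹) * v⁻¹ by group, hcx]
    group
  rw [e2, map_mul, map_mul, map_inv, mul_comm (l.1 _) (l.1 _), mul_inv_cancel_right] at e1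
  exact e1

variable {μ : (↥(W₁ ⊔ W₂) →* ℂˣ) → (S → ℂ)} {δ : (↥(W₁ ⊔ W₂) →* ℂˣ) → ℂ}

theorem u_modEq_one : (C).relIndex U % q = 1 := by
  have := Fact.mk h.q_prime
  have hI : IsPGroup q W₁ := IsPGroup.of_card (n := 1) (by rw [pow_one])
  obtain ⟨w, hw, hw1⟩ := W₁.bot_or_exists_ne_one.resolve_left h.data.W₁_ne
  have hfix : ∀ X : Subgroup G, X ≤ U → X ⊓ centralizer (W₁ : Set G) = ⊥ := fun X hX =>
    eq_bot_iff.mpr fun x hx =>
      mem_bot.mpr (h.fpf hw hw1 (hX hx.1) (mem_centralizer_iff.mp hx.2 w hw))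
  have e1 := Ten.card_modEq_one hI h.data.U_normal (hfix U le_rfl)
  have e2 := Ten.card_modEq_one hI
    (ElemAction.le_normalizer_of fun x hx c hc => h.conj_C (h.W₁_le hx) hc) (hfix C inf_le_left)
  have e := Coprime.card_mul_relIndex (inf_le_left : C ≤ U)
  rw [← e, Nat.mul_mod, e2, one_mul, Nat.mod_mod] at e1
  exact e1

/-- A member invariant under `W₁` and its class sum. -/
theorem exists_line (hμ : IsPrimeTIFamily S W₁ W₂ μ δ) :
    ∃ ω, ¬ TrivOn W₂ ω ∧ μ ω 1 = ((C).relIndex U : ℂ) ∧ δ ω = 1 ∧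
      ∃ θ, Mem S U θ ∧ Cfsg.indFun (⁅S, S⁆.subgroupOf S) θ = primeRed μ ω := by
  have hyp := primeDadeHyp_of_typeP h.minSimple h.maxS h.data
  have := h.derived_normal
  set K' := ⁅S, S⁆.subgroupOf S with hK'
  have := Fintype.ofFinite K'
  -- an invariant linear character of `H`
  obtain ⟨y, hy, hy1⟩ := W₂.bot_or_exists_ne_one.resolve_left fun e => by
    have := h.p_prime.one_lt; rw [e, card_bot] at this; omega
  set N := (M₀ : Subgroup G).subgroupOf H with hN
  have : N.Normal := (normal_subgroupOf_iff_le_normalizer inf_le_left).mpr h.H_normalizes_M₀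
  have hab : ∀ a b : ↥(H) ⧸ N, a * b = b * a := fun a b => by
    induction a using QuotientGroup.induction_on with | _ a => ?_
    induction b using QuotientGroup.induction_on with | _ b => ?_
    rw [← QuotientGroup.mk_mul, ← QuotientGroup.mk_mul, QuotientGroup.eq, hN, mem_subgroupOf]
    refine h.commutator_le_M₀ ?_
    have := commutator_mem_commutator (H₁ := H) (H₂ := H) (inv_mem b.2) (inv_mem a.2)
    simpa [commutatorElement_def, mul_assoc] using this
  obtain ⟨χ₀, hχ₀⟩ := Char.exists_linear_ne_one hab (g := QuotientGroup.mk' N ⟨y, h.W₂_le_H hy⟩)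
    (fun e => hy1 (by
      have := mem_subgroupOf.mp ((QuotientGroup.eq_one_iff _).mp e)
      exact mem_bot.mp (h.W₂_inf_M₀ ▸ (⟨hy, this⟩ : y ∈ W₂ ⊓ M₀))))
  set χ : ↥(H) →* ℂˣ := χ₀.comp (QuotientGroup.mk' N) with hχ
  have : Fintype W₁ := Fintype.ofFinite _
  let wS : W₁ → S := fun w => ⟨(w : G), h.W₁_le w.2⟩
  set l : ↥(H) →* ℂˣ := ∏ w : W₁, χ.comp (h.cj (wS w)) with hl
  have hlapp : ∀ a, l a = ∏ w : W₁, χ (h.cj (wS w) a) := fun a => by
    rw [hl, MonoidHom.finsetProd_apply]; rfl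
  have hM : ∀ a : ↥(H), (a : G) ∈ M₀ → l a = 1 := fun a ha => by
    rw [hlapp]
    refine Finset.prod_eq_one fun w _ => ?_
    rw [hχ, MonoidHom.comp_apply, show QuotientGroup.mk' N (h.cj (wS w) a) = 1 from
      (QuotientGroup.eq_one_iff _).mpr (mem_subgroupOf.mpr
        ((mem_normalizer_iff.mp (h.S_normalizes_M₀ (h.W₁_le w.2)) (a : G)).mp ha)), map_one]
  have hinv : ∀ w : S, (w : G) ∈ W₁ → ∀ a, l (h.cj w a) = l a := fun w hw a => by
    rw [hlapp, hlapp]
    refine Fintype.prod_equiv (Equiv.mulRight ⟨(w : G), hw⟩) _ _ fun v => ?_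
    congr 1
    exact Subtype.ext (by simp [cj_apply, wS, mul_assoc])
  have hly : l ⟨y, h.W₂_le_H hy⟩ ≠ 1 := by
    rw [hlapp, Finset.prod_congr rfl (g := fun _ => χ ⟨y, h.W₂_le_H hy⟩) fun w _ => ?_,
      Finset.prod_const, Finset.card_univ, ← Nat.card_eq_fintype_card]
    · intro e
      have e' : χ ⟨y, h.W₂_le_H hy⟩ ^ p = 1 := by
        rw [← map_pow, show (⟨y, h.W₂_le_H hy⟩ : ↥(H)) ^ p = 1 from Subtype.ext (by
          rw [Subgroup.coe_pow]
          exact congrArg Subtype.val (pow_card_eq_one' (x := (⟨y, hy⟩ : W₂)))), map_one]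
      refine hχ₀ (orderOf_eq_one_iff.mp (Nat.eq_one_of_dvd_coprimes
        ((Nat.coprime_primes h.q_prime h.p_prime).mpr h.p_ne_q) ?_ ?_))
      · exact orderOf_dvd_of_pow_eq_one e
      · exact orderOf_dvd_of_pow_eq_one e'
    · congr 1
      refine Subtype.ext ?_
      rw [cj_apply]
      have : y ∈ Cfsg.fittingHallOf S ⊓ centralizer (W₁ : Set G) := by
        rw [Ten.fitting_inf_centralizer h.data]; exact hy
      show (w : G) * y * (w : G)⁻¹ = y
      rw [mem_centralizer_iff.mp this.2 (w : G) w.2, mul_inv_cancel_right]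
  -- its stabiliser
  have hstab : ∀ v ∈ U, (∀ a b : ↥(H), (b : G) = v * a * v⁻¹ → l b = l a) → v ∈ C := by
    intro v₀ hv₀ hfix₀
    set A : Set G := {v | v ∈ U ∧ ∀ a b : ↥(H), (b : G) = v * a * v⁻¹ → l b = l a} with hA
    set Z : Set G := (M₀ : Set G) ∪ {x | ∃ v ∈ A, ∃ a ∈ H, x = v * a * v⁻¹ * a⁻¹} with hZ
    set Y := closure Z with hY
    have hZH : ∀ x ∈ Z, ∃ hx : x ∈ H, l ⟨x, hx⟩ = 1 := by
      rintro x (hx | ⟨v, hv, a, ha, rfl⟩)
      · exact ⟨hx.1, hM _ hx⟩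
      · have h1 := h.conj_H (h.U_le hv.1) ha
        refine ⟨mul_mem h1 (inv_mem ha), ?_⟩
        rw [show (⟨v * a * v⁻¹ * a⁻¹, mul_mem h1 (inv_mem ha)⟩ : ↥(H)) =
          ⟨v * a * v⁻¹, h1⟩ * ⟨a, ha⟩⁻¹ from Subtype.ext rfl, map_mul, map_inv,
          hv.2 ⟨a, ha⟩ ⟨_, h1⟩ rfl, mul_inv_cancel]
    have hYH : Y ≤ l.ker.map (Subgroup.subtype H) := (closure_le _).mpr fun x hx => by
      obtain ⟨hxH, hxl⟩ := hZH x hx
      exact ⟨⟨x, hxH⟩, hxl, rfl⟩
    have hZinv : ∀ g ∈ S, (∀ v ∈ A, ∃ v' ∈ A, ∀ a ∈ H,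
        g * (v * a * v⁻¹) * g⁻¹ = v' * (g * a * g⁻¹) * v'⁻¹) → ∀ x ∈ Y, g * x * g⁻¹ ∈ Y := by
      intro g hg hgA x hx
      have : Y.map (MulAut.conj g).toMonoidHom ≤ Y := by
        rw [hY, MonoidHom.map_closure, closure_le]
        rintro _ ⟨y, hy', rfl⟩
        refine subset_closure ?_
        rcases hy' with hy' | ⟨v, hv, a, ha, rfl⟩
        · exact Or.inl ((mem_normalizer_iff.mp (h.S_normalizes_M₀ hg) y).mp hy')
        · obtain ⟨v', hv', he⟩ := hgA v hv
          refine Or.inr ⟨v', hv', g * a * g⁻¹, h.conj_H hg ha, ?_⟩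
          simp only [MulEquiv.coe_toMonoidHom, MulAut.conj_apply]
          rw [← he a ha]
          group
      exact this (mem_map_of_mem _ hx)
    have hUY : U ≤ normalizer (Y : Set G) := ElemAction.le_normalizer_of fun g hg x hx =>
      hZinv g (h.U_le hg) (fun v hv => ⟨v, hv, fun a ha => by
        have hc := h.commutator_U_le (commutator_mem_commutator hg hv.1)
        have e := mem_centralizer_iff.mp hc _ (h.conj_H (h.U_le hv.1) (h.conj_H (h.U_le hg) ha))
        calc g * (v * a * v⁻¹) * g⁻¹ = ⁅g, v⁆ * (v * (g * a * g⁻¹) * v⁻¹) * ⁅g, v⁆⁻¹ := by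
              simp only [commutatorElement_def]; group
          _ = _ := by rw [← e, mul_inv_cancel_right]⟩) x hx
    have hWY : W₁ ≤ normalizer (Y : Set G) := ElemAction.le_normalizer_of fun g hg x hx =>
      hZinv g (h.W₁_le hg) (fun v hv => ⟨g * v * g⁻¹, ⟨h.conj_U hg hv.1, fun a b hb => by
        have hgi : g⁻¹ ∈ W₁ := W₁.inv_mem hg
        have e := hv.2 (h.cj ⟨g⁻¹, h.W₁_le hgi⟩ a) (h.cj ⟨g⁻¹, h.W₁_le hgi⟩ b) (by
          simp only [cj_apply, hb]; group)
        rwa [hinv _ hgi, hinv _ hgi] at e⟩, fun a _ => by group⟩) x hx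
    have hMY : M₀ ≤ Y := fun x hx => subset_closure (Or.inl hx)
    rcases eq_or_lt_of_le hMY with e | e
    · refine h.mem_C_of_stable hv₀ fun x hx => ?_
      rw [e]
      exact subset_closure (Or.inr ⟨v₀, ⟨hv₀, hfix₀⟩, x, hx, rfl⟩)
    · exfalso
      have e' := h.eq_H_of_lt (X := Y) (hYH.trans (map_subtype_le _)) hUY hWY e
      obtain ⟨⟨z, hz⟩, hzl, hzy⟩ := hYH (e'.ge (h.W₂_le_H hy))
      simp only [coe_subtype] at hzy
      subst hzy
      exact hly hzl
  obtain ⟨θ, hθ, -, hθinv⟩ := h.exists_mem l hM (fun e => hly (by rw [e]; rfl)) hstab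
  -- the induced character is a class sum
  have hfixθ : ∀ w : S, (w : G) ∈ W₁ → Clifford.conjFn w θ = θ := fun w hw =>
    funext fun n => hθinv w hw (hinv w hw) n _ rfl
  have hfix : ∀ x : S, Clifford.conjFn x θ = θ := by
    intro x
    obtain ⟨d, hd, w, hw, he⟩ := h.data.W₁_compl.2.2.2 (x : G) x.2
    have hx : x = ⟨d, h.derived_le hd⟩ * ⟨w, h.W₁_le hw⟩ := Subtype.ext he
    have hd' : Clifford.conjFn (⟨d, h.derived_le hd⟩ : S) θ = θ :=
      Clifford.mem_inertia_iff_conjFn.mp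
        (Clifford.le_inertia (Char.irr_isClassFunction hθ.irr) (mem_subgroupOf.mpr hd))
    rw [hx, ← Clifford.conjFn_conjFn, hd']
    exact hfixθ _ hw
  rcases induced_cases hyp h.q_prime hμ θ hθ.irr with hI | ⟨ω, hω⟩
  · exfalso
    have e := Char.irr_classInner_self hI
    rw [Clifford.classInner_indFun_indFun hθ.irr hθ.irr, Nat.card_congr (Equiv.subtypeUnivEquiv hfix),
      ← Subgroup.card_mul_index K', index_K hyp, Nat.cast_mul,
      inv_mul_cancel_left₀ Char.natCard_ne_zero, Nat.cast_eq_one] at e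
    exact h.q_prime.one_lt.ne' e
  have hq0 : (q : ℂ) ≠ 0 := Char.natCard_ne_zero
  have hd : μ ω 1 = ((C).relIndex U : ℂ) := by
    have e : primeRed μ ω 1 = (q : ℂ) * μ ω 1 := primeRed_apply_K hyp hμ ω (by simp)
    rw [← hω, Char.indFun_apply_one, index_K hyp, hθ.deg] at e
    exact (mul_left_cancel₀ hq0 e).symm
  have hnt : ¬ TrivOn W₂ ω := fun ht => by
    have e : μ ω 1 = 1 := by
      rw [hμ.eq_on_K hyp (ω' := 1) (fun w hw => (ht w hw).trans rfl) (one_mem _), hμ.map_one hyp]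
    rw [hd, Nat.cast_eq_one] at e
    exact h.one_lt_relIndex.ne' e
  refine ⟨ω, hnt, hd, ?_, θ, hθ, hω⟩
  rcases hμ.sign ω with e | e
  · exact e
  exfalso
  obtain ⟨n, hn⟩ := hμ.degree ω
  rw [hd, e, sub_neg_eq_add] at hn
  have hn' : ((C).relIndex U : ℤ) + 1 = n * q := by exact_mod_cast hn
  have e3 : ((C).relIndex U : ℤ) % (q : ℤ) = 1 := by exact_mod_cast h.u_modEq_one
  have e4 := Int.emod_add_mul_ediv ((C).relIndex U : ℤ) (q : ℤ)
  rw [e3] at e4
  have h3 : 2 < q := lt_of_le_of_ne h.q_prime.two_le (Ne.symm h.q_ne_two)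
  have hdvd : (q : ℤ) ∣ 2 := ⟨n - ((C).relIndex U : ℤ) / (q : ℤ), by linarith⟩
  have := Int.le_of_dvd (by norm_num) hdvd
  omega

end Pre

end CfsgLib.PF.Base
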